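import Cfsg.Agent.TECH.KInfQuad
import Cfsg.Agent.TECH.CFMinTr
import Cfsg.Agent.PLOC.PStable

/-!
Control of fusion and of transfer by the K-infinity subgroups.
-/

set_option autoImplicit false

namespace CL.CF

open Subgroup Cfsg CL.MSS
open scoped commutatorElement

universe u

variable {p : ℕ} [Fact p.Prime]

section

variable {G : Type*} [Group G] [Finite G]

theorem le_centralizer_of_isMinNormal {X K : Subgroup G} (hX : IsMinNormal X) (hp : IsPGroup p X)
    [K.Normal] (h : ∀ x ∈ K, ∃ k : ℕ, x ^ p ^ k ∈ centralizer (X : Set G)) :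
    K ≤ centralizer (X : Set G) := by
  have := hX.normal
  obtain ⟨S⟩ : Nonempty (Sylow p G) := inferInstance
  have h1 := le_sylow_sup_of_pow_mem S h
  have h2 := MSS.inf_centralizer_ne_bot S.isPGroup' hp le_normalizer_of_normal hX.ne_bot
  have h3 := hX.eq_of_le (K := X ⊓ centralizer (K : Set G)) inf_le_left fun e => h2
    (le_bot_iff.1 (le_trans (le_inf inf_le_left (le_centralizer_symm (h1.trans (sup_le
      (le_centralizer_symm inf_le_right) (centralizer_anti inf_le_left))))) e.le))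
  exact le_centralizer_symm (h3.ge.trans inf_le_right)

theorem not_pStable_of_chief {U V : Subgroup G} [V.Normal] (h : IsChiefFactor U V)
    (hU : IsPGroup p U) {g : G} (h1 : ⁅⁅U, zpowers g⁆, zpowers g⁆ ≤ V) (h2 : ¬ ⁅U, zpowers g⁆ ≤ V) :
    ¬ IsNormalizerPStable p (G ⧸ V) := by
  intro hst
  have hX := chief_isMinNormal h
  have := hX.normal
  have k := PC.isNormalizerPStable_iff'.1 hst (U.map (QuotientGroup.mk' V))
    ((zpowers g).map (QuotientGroup.mk' V)) (hU.map _) le_normalizer_of_normal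
    (by rwa [← map_commutator, ← map_commutator, map_mk'_eq_bot_iff])
  rw [normalizer_eq_top_iff.2 this, PC.opMod_top_iff] at k
  obtain ⟨K, k1, k2, k3⟩ := k
  apply h2
  rw [← map_mk'_eq_bot_iff, map_commutator, commutator_comm, commutator_eq_bot_iff_le_centralizer]
  exact k2.trans (le_centralizer_of_isMinNormal hX (hU.map _) k3)

theorem exists_quad_elem' {S : Subgroup G} (hT : pCore p G ≤ S)
    (h : ¬ ∀ n, kE S n ≤ pCore p G ∧ kO S (n + 1) ≤ pCore p G) :
    ∃ g ∈ S, g ∉ pCore p G ∧ ChiefBd (pCore p G) (zpowers g) 4 ∧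
      ⁅⁅pCore p G ⊓ centralizer ((pCore p G : Subgroup G) : Set G), zpowers g⁆, zpowers g⁆ = ⊥ ∧
      (Con p G → ∃ U V : Subgroup G, IsChiefFactor U V ∧ U ≤ pCore p G ∧
        ⁅⁅U, zpowers g⁆, zpowers g⁆ ≤ V ∧ ¬ ⁅U, zpowers g⁆ ≤ V) := by
  obtain ⟨A, h1, -, h2, h3, -, h4, h5⟩ := PG.exists_critical_ambient (isPGroup_pCore p G)
  have : A.Normal := normal_of_normalizer_eq_top (top_le_iff.1 (le_normalizer_of_normal.trans h2))
  rw [commutator_comm] at h3
  obtain ⟨g, k1, k2, k3, k4, k5⟩ := exists_quad_elem h1 hT h3 h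
  have l1 := chiefBd_of_eq_bot (n := 2) k4
  refine ⟨g, k1, k2, chiefBd_of_critical (isPGroup_pCore p G) h1 h3 (le_inf h4 inf_le_right)
    (i := 3) (by omega) ((l1.mono (by omega)).step k3) l1, le_bot_iff.1 ((iterCommutator_mono
      (le_inf ((inf_le_inf_left _ (centralizer_anti h1)).trans h4)
        (inf_le_right.trans (centralizer_anti h1))) le_rfl 2).trans k4.le), fun hc => ?_⟩
  obtain ⟨U, V, m1, m2, m3⟩ := k5 fun x hx hx' => eq_one_of_coprime_of_mem (isPGroup_pCore p G) hx'
    (hc (h5 x (le_normalizer_of_normal (mem_top x)) hx' hx))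
  exact ⟨U, V, m1, m2.trans h1, m3⟩

end

variable {G : Type u} [Group G] [Finite G]

theorem exists_quad_of_not_normal {S : Subgroup G} (hT : pCore p G ≤ S)
    (h : ¬ (inducedFunctor kInfLower S).Normal ∨ ¬ (inducedFunctor kInfUpper S).Normal) :
    ∃ g ∈ S, g ∉ pCore p G ∧ ChiefBd (pCore p G) (zpowers g) 4 ∧
      ⁅⁅pCore p G ⊓ centralizer ((pCore p G : Subgroup G) : Set G), zpowers g⁆, zpowers g⁆ = ⊥ ∧
      (Con p G → ∃ U V : Subgroup G, IsChiefFactor U V ∧ U ≤ pCore p G ∧
        ⁅⁅U, zpowers g⁆, zpowers g⁆ ≤ V ∧ ¬ ⁅U, zpowers g⁆ ≤ V) :=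
  exists_quad_elem' hT fun hc => h.elim (fun k => k (kInf_normal_of_le hT hc).1)
    fun k => k (kInf_normal_of_le hT hc).2

/-- The two K-infinity functors. -/
def IsKInf (W : ∀ (Q : Type u) [Group Q], Subgroup Q) : Prop := W = kInfLower ∨ W = kInfUpper

theorem isKInf_lower : IsKInf kInfLower.{u} := Or.inl rfl

theorem isKInf_upper : IsKInf kInfUpper.{u} := Or.inr rfl

variable {W : ∀ (Q : Type u) [Group Q], Subgroup Q}

theorem IsKInf.isCharPFunctor (hW : IsKInf W) (p : ℕ) [Fact p.Prime] : IsCharPFunctor.{u} p W := by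
  rcases hW with rfl | rfl
  · exact isCharPFunctor_kInfLower p
  · exact isCharPFunctor_kInfUpper p

theorem IsKInf.singleton (hW : IsKInf W) (p : ℕ) [Fact p.Prime] :
    ∀ W' ∈ ({W} : Set (∀ (Q : Type u) [Group Q], Subgroup Q)), IsCharPFunctor.{u} p W' := by
  simpa using hW.isCharPFunctor p

omit [Finite G] in
theorem IsKInf.center_le (hW : IsKInf W) (P : Subgroup G) :
    P ⊓ centralizer (P : Set G) ≤ inducedFunctor W P := by
  rw [← Comp.map_center_subtype]
  rcases hW with rfl | rfl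
  · exact map_mono center_le_kInfLower
  · exact map_mono center_le_kInfUpper

theorem IsKInf.centralizer_le (hW : IsKInf W) {P : Subgroup G} (hP : IsPGroup p P) :
    P ⊓ centralizer ((inducedFunctor W P : Subgroup G) : Set G) ≤ inducedFunctor W P := by
  have := hP.isNilpotent
  have e : P ⊓ centralizer ((inducedFunctor W P : Subgroup G) : Set G) =
      (⊤ ⊓ centralizer ((W P : Subgroup P) : Set P)).map P.subtype := by
    rw [map_inf_centralizer P.subtype_injective, ← MonoidHom.range_eq_map, range_subtype]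
    rfl
  rw [e, top_inf_eq]
  rcases hW with rfl | rfl
  · exact map_mono centralizer_kInfLower_le
  · exact map_mono centralizer_kInfUpper_le

theorem IsKInf.exists_quad (hW : IsKInf W) {S : Subgroup G} (hT : pCore p G ≤ S)
    (h : ¬ (inducedFunctor W S).Normal) :
    ∃ g ∈ S, g ∉ pCore p G ∧ ChiefBd (pCore p G) (zpowers g) 4 ∧
      ⁅⁅pCore p G ⊓ centralizer ((pCore p G : Subgroup G) : Set G), zpowers g⁆, zpowers g⁆ = ⊥ ∧
      (Con p G → ∃ U V : Subgroup G, IsChiefFactor U V ∧ U ≤ pCore p G ∧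
        ⁅⁅U, zpowers g⁆, zpowers g⁆ ≤ V ∧ ¬ ⁅U, zpowers g⁆ ≤ V) := by
  refine exists_quad_of_not_normal hT ?_
  rcases hW with rfl | rfl
  · exact Or.inl h
  · exact Or.inr h

/-- For `p ≥ 5` the K-infinity functors control transfer in every finite group. -/
theorem IsKInf.gTr (hW : IsKInf W) (hp : 5 ≤ p) : GTr p {W} G := by
  refine (sec_induction' (Φ := fun _ _ => True) (Ψ := fun H _ => GTr p {W} H) (fun _ _ _ => trivial)
    fun H _ _ _ ih => ?_).self
  by_contra hc
  obtain ⟨T, hT⟩ := exists_sylIn p (⊤ : Subgroup H)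
  obtain ⟨-, -, -, -, h2⟩ := min_counter_tr (hW.singleton p) (Set.singleton_nonempty W) ih hc
    hT rfl rfl
  obtain ⟨g, k1, k2, k3, -⟩ := hW.exists_quad (pcore_le_sylIn hT) fun h =>
    hc ((gFus_of_normal (hW.singleton p) rfl hT h).gTr (hW.singleton p))
  exact h2 g k1 k2 (k3.mono (by omega))

omit [Fact p.Prime] [Finite G] in
theorem isoInv_pStable : IsoInv (fun (H : Type u) _ => IsNormalizerPStable p H) :=
  fun H H' _ _ _ e h =>
    have : Finite H' := Finite.of_equiv H e.toEquiv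
    h.of_injective (f := e.symm.toMonoidHom) e.symm.injective

theorem IsKInf.normal_of_pStable (hW : IsKInf W)
    (h : AllSec (fun H _ => IsNormalizerPStable p H) G) (hc : Con p G) {S : Subgroup G}
    (hS : pCore p G ≤ S) : (inducedFunctor W S).Normal := by
  by_contra hn
  obtain ⟨g, -, -, -, -, k⟩ := hW.exists_quad hS hn
  obtain ⟨U, V, k1, k2, k3, k4⟩ := k hc
  have := k1.2.2.1
  exact not_pStable_of_chief k1 (isPGroup_of_le_pCore k2) k3 k4 (h _ (sec_quot V))

/-- The K-infinity functors control strong fusion when all sections are `p`-stable. -/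
theorem IsKInf.gFus (hW : IsKInf W) (h : AllSec (fun H _ => IsNormalizerPStable p H) G) :
    AllSec (fun H _ => GFus p {W} H) G :=
  sec_induction' h fun H _ _ hH ih => gFus_of_pSec (hW.singleton p) ih fun hc =>
    let ⟨_, hT⟩ := exists_sylIn p (⊤ : Subgroup H)
    gFus_of_normal (hW.singleton p) rfl hT (hW.normal_of_pStable hH hc (pcore_le_sylIn hT))

end CL.CF
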