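import Cfsg.Agent.PLOC.Critical
import Cfsg.Agent.SOLV.Basic

/-! # Critical subgroups of exponent `p` (exponent `4` for `p = 2`) -/

namespace CL.PG

open Subgroup
open scoped commutatorElement

variable {G : Type*} [Group G] {p : ℕ}

/-- The order of `x` divides `p`, or `4` when `p = 2`. -/
def Small (p : ℕ) (x : G) : Prop := x ^ p = 1 ∨ (p = 2 ∧ x ^ 4 = 1)

theorem small_two_iff {x : G} : Small 2 x ↔ x ^ 4 = 1 := by
  refine ⟨?_, fun h => Or.inr ⟨rfl, h⟩⟩
  rintro (h | h)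
  · rw [show 4 = 2 * 2 from rfl, pow_mul, h, one_pow]
  · exact h.2

theorem small_odd_iff (hp : p ≠ 2) {x : G} : Small p x ↔ x ^ p = 1 :=
  ⟨fun h => h.resolve_right fun h' => hp h'.1, Or.inl⟩

theorem Small.map {G' F : Type*} [Group G'] [FunLike F G G'] [MonoidHomClass F G G'] {x : G}
    (h : Small p x) (f : F) : Small p (f x) := by
  rcases h with h | ⟨h1, h⟩
  · left; rw [← map_pow, h, map_one]
  · right; exact ⟨h1, by rw [← map_pow, h, map_one]⟩

theorem Small.inv {x : G} (h : Small p x) : Small p x⁻¹ := by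
  rcases h with h | ⟨h1, h⟩
  · left; rw [inv_pow, h, inv_one]
  · right; exact ⟨h1, by rw [inv_pow, h, inv_one]⟩

theorem mul_pow_four {x y : G} (hx : Commute x ⁅y, x⁆) (hy : Commute y ⁅y, x⁆)
    (h : ⁅y, x⁆ ^ 2 = 1) : (x * y) ^ 4 = x ^ 4 * y ^ 4 := by
  rw [mul_pow_of_commute_commutator hx hy, show Nat.choose 4 2 = 2 * 3 from rfl, pow_mul, h,
    one_pow, one_mul]

theorem Small.mul (hp : p.Prime) {x y : G} (hx : Commute x ⁅y, x⁆) (hy : Commute y ⁅y, x⁆)
    (h : ⁅y, x⁆ ^ p = 1) (h1 : Small p x) (h2 : Small p y) : Small p (x * y) := by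
  by_cases hp2 : p = 2
  · subst hp2
    rw [small_two_iff] at h1 h2 ⊢
    rw [mul_pow_four hx hy h, h1, h2, one_mul]
  · rw [small_odd_iff hp2] at h1 h2 ⊢
    exact mul_pow_eq_one_of_odd hx hy (hp.odd_of_ne_two hp2) h1 h2

/-- A `p'`-automorphism leaving invariant a `p`-subgroup `H` of class at most two with derived
subgroup of exponent `p` and fixing its small elements fixes `H` pointwise. -/
theorem aut_fix_of_small (hp : p.Prime) (a : MulAut G) (ha : (orderOf a).Coprime p)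
    {H : Subgroup G} (hH : IsPGroup p H) (hinv : ∀ x ∈ H, a x ∈ H)
    (h2 : ∀ x ∈ H, ∀ y ∈ H, ∀ z ∈ H, Commute z ⁅x, y⁆) (h3 : ∀ x ∈ H, ∀ y ∈ H, ⁅x, y⁆ ^ p = 1)
    (h : ∀ x ∈ H, Small p x → a x = x) {x : G} (hx : x ∈ H) : a x = x := by
  by_cases hp2 : p = 2
  swap
  · exact aut_fix_of_class_two (hp.odd_of_ne_two hp2) a ha hH hinv h2
      (fun y hy hyp => h y hy (Or.inl hyp)) hx
  subst hp2
  obtain ⟨k, hk⟩ := hH ⟨x, hx⟩
  replace hk : x ^ 2 ^ k = 1 := congrArg Subtype.val hk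
  induction k generalizing x with
  | zero =>
    have : x = 1 := by simpa using hk
    rw [this, map_one]
  | succ k ih =>
    have h1 : a (x ^ 2) = x ^ 2 := ih (H.pow_mem hx 2) (by rw [← pow_mul, ← pow_succ', hk])
    have h1' : (a x) ^ 4 = x ^ 4 := by
      rw [show 4 = 2 * 2 from rfl, pow_mul, ← map_pow, h1, pow_mul]
    have hx' := H.inv_mem hx
    have hax := hinv x hx
    have h4 : (x⁻¹ * a x) ^ 4 = 1 := by
      rw [mul_pow_four (h2 _ hax _ hx' _ hx') (h2 _ hax _ hx' _ hax) (h3 _ hax _ hx'), h1',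
        inv_pow, inv_mul_cancel]
    exact aut_apply_eq_of_fix a ha (h _ (H.mul_mem hx' hax) (small_two_iff.2 h4)) (k := 2) h4

/-- `H` is invariant under the group `Γ` of automorphisms. -/
def AutInv (Γ : Subgroup (MulAut G)) (H : Subgroup G) : Prop := ∀ α ∈ Γ, ∀ x ∈ H, α x ∈ H

namespace AutInv

variable {Γ : Subgroup (MulAut G)} {H K : Subgroup G}

theorem inf (h1 : AutInv Γ H) (h2 : AutInv Γ K) : AutInv Γ (H ⊓ K) :=
  fun α hα x hx => ⟨h1 α hα x hx.1, h2 α hα x hx.2⟩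

theorem sup (h1 : AutInv Γ H) (h2 : AutInv Γ K) : AutInv Γ (H ⊔ K) := by
  intro α hα
  have : H ⊔ K ≤ (H ⊔ K).comap α.toMonoidHom :=
    sup_le (fun x hx => mem_sup_left (h1 α hα x hx)) (fun x hx => mem_sup_right (h2 α hα x hx))
  exact fun x hx => this hx

theorem centralizer (h : AutInv Γ H) : AutInv Γ (Subgroup.centralizer (H : Set G)) := by
  intro α hα x hx y hy
  have := congrArg α (hx _ (h α⁻¹ (inv_mem hα) y hy))
  simpa using this

theorem normal (h : AutInv Γ H) (hΓ : ∀ g : G, MulAut.conj g ∈ Γ) : H.Normal :=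
  ⟨fun x hx g => h _ (hΓ g) x hx⟩

theorem map_eq (h : AutInv Γ H) {α : MulAut G} (hα : α ∈ Γ) : H.map α.toMonoidHom = H := by
  apply le_antisymm
  · rintro _ ⟨x, hx, rfl⟩
    exact h α hα x hx
  · intro x hx
    exact ⟨α⁻¹ x, h _ (inv_mem hα) x hx, by simp⟩

theorem omega [H.Normal] (h : AutInv Γ H) : AutInv Γ (omegaCenterOver p H) := by
  rintro α hα x ⟨hx1, hx2⟩
  refine ⟨fun g => ?_, ?_⟩
  · obtain ⟨g, rfl⟩ := α.surjective g
    have := h α hα _ (hx1 g)
    rwa [map_commutatorElement] at this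
  · have := h α hα _ hx2
    rwa [map_pow] at this

end AutInv

/-- A relative form of Thompson's critical subgroup theorem. -/
theorem exists_critical_rel [Finite G] [Fact p.Prime] (hG : IsPGroup p G)
    {Γ : Subgroup (MulAut G)} (hΓ : ∀ g : G, MulAut.conj g ∈ Γ) {R : Subgroup G}
    (hR : AutInv Γ R) : ∃ H ≤ R, AutInv Γ H ∧ (∀ h ∈ H, h ^ p ∈ centralizer (H : Set G)) ∧
      ⁅H, (⊤ : Subgroup G)⁆ ≤ H ⊓ centralizer (H : Set G) ∧ R ⊓ centralizer (H : Set G) ≤ H := by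
  obtain ⟨H, ⟨hle, hH, hpow, hcomm⟩, hmax⟩ := (wellFounded_gt (α := Subgroup G)).has_min
    {H | H ≤ R ∧ AutInv Γ H ∧ (∀ h ∈ H, h ^ p ∈ centralizer (H : Set G)) ∧
      ⁅H, (⊤ : Subgroup G)⁆ ≤ H ⊓ centralizer (H : Set G)}
    ⟨⊥, bot_le, fun α _ x hx => by rw [mem_bot.1 hx, map_one]; exact one_mem _, by simp, by simp⟩
  refine ⟨H, hle, hH, hpow, hcomm, ?_⟩
  by_contra hC
  have hHn := hH.normal hΓ
  have hRn := hR.normal hΓ
  obtain ⟨x, hxC, hxH, hx1, hx2⟩ :=
    exists_mem_omegaCenterOver hG H (R ⊓ centralizer (H : Set G)) hC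
  set Z : Subgroup G := H ⊓ centralizer (H : Set G) with hZ
  have hZc : AutInv Γ Z := hH.inf hH.centralizer
  have hY := hZc.omega (p := p)
  set H' : Subgroup G := H ⊔ (omegaCenterOver p Z ⊓ (R ⊓ centralizer (H : Set G))) with hH'
  have hH'Y : H' ≤ omegaCenterOver p Z := sup_le (fun h hh =>
    ⟨fun g => hcomm (commutator_mem_commutator hh (mem_top g)), H.pow_mem hh p, hpow h hh⟩)
    inf_le_left
  have hZC : Z ≤ centralizer (H' : Set G) := by
    rw [le_centralizer_iff]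
    refine sup_le ?_ (inf_le_right.trans (inf_le_right.trans (centralizer_le (fun z hz => hz.1))))
    rw [le_centralizer_iff]
    exact inf_le_right
  refine hmax H' ⟨sup_le hle (inf_le_right.trans inf_le_left),
    hH.sup (hY.inf (hR.inf hH.centralizer)), fun h hh => hZC (hH'Y hh).2, ?_⟩ ?_
  · rw [commutator_le]
    intro h hh g _
    exact ⟨mem_sup_left ((hH'Y hh).1 g).1, hZC ((hH'Y hh).1 g)⟩
  · exact lt_of_le_of_ne le_sup_left fun he => hxH (by
      rw [he]
      exact mem_sup_right ⟨⟨fun g => ⟨(hx1 g).1, (hx1 g).2.2⟩, hx2.1, hx2.2.2⟩, hxC⟩)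

/-- A `p'`-automorphism leaving `K` invariant and fixing a self-centralizing normal `p`-subgroup
`A` of `K` fixes `K`. -/
theorem aut_fix_of_centralizer_le (a : MulAut G) (ha : (orderOf a).Coprime p) {A K : Subgroup G}
    (hA : IsPGroup p A) (hn : K ≤ normalizer (A : Set G)) (hinv : ∀ x ∈ K, a x ∈ K)
    (hC : K ⊓ centralizer (A : Set G) ≤ A) (h : ∀ x ∈ A, a x = x) {x : G} (hx : x ∈ K) :
    a x = x := by
  have h1 : x⁻¹ * a x ∈ A := by
    refine hC ⟨K.mul_mem (K.inv_mem hx) (hinv x hx), fun y hy => ?_⟩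
    have h2 := h _ ((mem_normalizer_iff.1 (hn hx) y).1 hy)
    rw [map_mul, map_mul, map_inv, h y hy] at h2
    calc y * (x⁻¹ * a x) = x⁻¹ * (x * y * x⁻¹) * a x := by group
      _ = x⁻¹ * (a x * y * (a x)⁻¹) * a x := by rw [h2]
      _ = _ := by group
  obtain ⟨k, hk⟩ := hA ⟨_, h1⟩
  exact aut_apply_eq_of_fix a ha (h _ h1) (congrArg Subtype.val hk)

theorem exists_small_critical [Finite G] [hp : Fact p.Prime] (hG : IsPGroup p G)
    {Γ : Subgroup (MulAut G)} (hΓ : ∀ g : G, MulAut.conj g ∈ Γ) {R : Subgroup G}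
    (hR : AutInv Γ R) : ∃ D ≤ R, AutInv Γ D ∧ (∀ d ∈ D, Small p d) ∧
      ⁅D, (⊤ : Subgroup G)⁆ ≤ D ⊓ centralizer (D : Set G) ∧
      ∀ α ∈ Γ, (orderOf α).Coprime p → (∀ d ∈ D, α d = d) → ∀ r ∈ R, α r = r := by
  obtain ⟨H, hle, hH, hpow, hcomm, hC⟩ := exists_critical_rel hG hΓ hR
  have h2 : ∀ x ∈ H, ∀ y, ∀ z ∈ H, Commute z ⁅x, y⁆ := fun x hx y z hz =>
    (hcomm (commutator_mem_commutator hx (mem_top y))).2 z hz
  have h3 : ∀ x ∈ H, ∀ y ∈ H, ⁅x, y⁆ ^ p = 1 := by
    intro x hx y hy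
    rw [← commutator_pow_left (h2 x hx y x hx), commutatorElement_eq_one_iff_mul_comm]
    exact (hpow x hx y hy).symm
  let D : Subgroup G :=
    { carrier := {x | x ∈ H ∧ Small p x}
      one_mem' := ⟨H.one_mem, Or.inl (one_pow p)⟩
      mul_mem' := by
        rintro x y ⟨hx1, hx2⟩ ⟨hy1, hy2⟩
        exact ⟨H.mul_mem hx1 hy1, Small.mul hp.out (h2 y hy1 x x hx1) (h2 y hy1 x y hy1)
          (h3 y hy1 x hx1) hx2 hy2⟩
      inv_mem' := by
        rintro x ⟨hx1, hx2⟩
        exact ⟨H.inv_mem hx1, hx2.inv⟩ }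
  have hD : AutInv Γ D := fun α hα x hx => ⟨hH α hα x hx.1, hx.2.map α⟩
  have hDn := hD.normal hΓ
  have hHn := hH.normal hΓ
  refine ⟨D, fun x hx => hle hx.1, hD, fun d hd => hd.2, le_inf (commutator_le_left _ _) ?_,
    fun α hα hc hfix r hr => ?_⟩
  · rw [commutator_le]
    intro h hh g _ z hz
    exact (h2 h hh.1 g z hz.1).eq
  · refine aut_fix_of_centralizer_le α hc (hG.to_subgroup H) (by rw [normalizer_eq_top]; exact le_top)
      (hR α hα) hC (fun x hx => ?_) hr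
    exact aut_fix_of_small hp.out α hc (hG.to_subgroup H) (hH α hα)
      (fun x hx y _ => h2 x hx y) h3 (fun y hy hs => hfix y ⟨hy, hs⟩) hx

theorem exists_small_critical_ambient [Fact p.Prime] {P : Subgroup G} [Finite P]
    (hP : IsPGroup p P) : ∃ D ≤ P, normalizer (P : Set G) ≤ normalizer (D : Set G) ∧
      (∀ d ∈ D, Small p d) ∧ ⁅D, P⁆ ≤ D ⊓ centralizer (D : Set G) ∧
      ∀ x ∈ normalizer (P : Set G), (orderOf x).Coprime p → x ∈ centralizer (D : Set G) →
        x ∈ centralizer (P : Set G) := by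
  obtain ⟨D, -, hD, hs, hc, hf⟩ := exists_small_critical hP (Γ := ⊤) (fun _ => trivial) (R := ⊤)
    (fun _ _ _ _ => trivial)
  have hch : D.Characteristic := characteristic_iff_le_comap.2 fun φ x hx => hD φ trivial x hx
  refine ⟨D.map P.subtype, map_subtype_le D, normalizer_le_normalizer_map_of_characteristic P D,
    ?_, map_subtype_commutator_top_le hc, fun x hx ho hxc => ?_⟩
  · rintro _ ⟨d, hd, rfl⟩
    exact (hs d hd).map P.subtype
  · refine mem_centralizer_of_normalizerMonoidHom_eq_one P hx (MulEquiv.ext fun r => ?_)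
    refine hf _ trivial (orderOf_normalizerMonoidHom_coprime P hx ho) (fun d hd => ?_) r trivial
    rw [normalizerMonoidHom_apply_eq_iff]
    exact (hxc d ⟨d, hd, rfl⟩).symm

/-- A `p'`-element normalizing a `p`-subgroup and centralizing its small elements centralizes
it. -/
theorem mem_centralizer_of_commute_small [Fact p.Prime] {P : Subgroup G} [Finite P]
    (hP : IsPGroup p P) {x : G} (hx : x ∈ normalizer (P : Set G)) (hc : (orderOf x).Coprime p)
    (h : ∀ y ∈ P, Small p y → Commute x y) : x ∈ centralizer (P : Set G) := by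
  obtain ⟨D, hle, -, hs, -, hf⟩ := exists_small_critical_ambient hP
  exact hf x hx hc fun d hd => (h d (hle hd) (hs d hd)).symm

end CL.PG
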