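import Mathlib
import Cfsg.Agent.TECH.QPush2
import Cfsg.Agent.TECH.FrakH

/-!
Counting lemmas for the qrc-lemma: no over-offenders on sections, chains and pairings.
-/

set_option autoImplicit false
set_option linter.unusedSectionVars false
set_option linter.style.haveILetI false
open Cfsg Subgroup CL.Th CL.MSS CL.ThA CL.Push CL.BHS
open scoped commutatorElement

namespace CL.QP

universe u
variable {G : Type u} [Group G] {p : ℕ}

local notation "C[" X "]" => centralizer ((X : Subgroup _) : Set _)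
local notation "N[" X "]" => normalizer ((X : Subgroup _) : Set _)

/-- commutation with a fixed element, on an abelian subgroup -/
def cHom {V : Subgroup G} (hV : IsMulCommutative V) {d : G} (hd : d ∈ N[V]) : V →* G :=
  MonoidHom.mk' (fun v => ⁅d, (v : G)⁆) fun a b => by
    have h1 : d * a * d⁻¹ ∈ V := (mem_normalizer_iff.1 hd _).1 a.2
    have h2 : d * b * d⁻¹ ∈ V := (mem_normalizer_iff.1 hd _).1 b.2
    have c := comm_iff.1 hV
    simp only [commutatorElement_def, coe_mul, mul_inv_rev]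
    calc d * (a * b) * d⁻¹ * ((b : G)⁻¹ * (a : G)⁻¹)
        = d * a * d⁻¹ * ((d * b * d⁻¹ * (b : G)⁻¹) * (a : G)⁻¹) := by group
      _ = _ := by rw [c _ (mul_mem h2 (inv_mem b.2)) _ (inv_mem a.2)]; group

theorem mem_secC_comm {R U W : Subgroup G} (hR : R ≤ N[W]) (hU : U ≤ N[W]) :
    R ≤ secC U W ↔ U ≤ secC R W := by
  rw [le_secC_iff, le_secC_iff, commutator_comm]
  exact ⟨fun h => ⟨hU, h.2⟩, fun h => ⟨hR, h.2⟩⟩

variable [Finite G]

theorem relIndex_le_cHom {V X Y D D₁ : Subgroup G} (hV : IsMulCommutative V) {d : G}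
    (hd : d ∈ N[V]) (hX : X ≤ V) (h1 : ∀ v ∈ X, ⁅d, v⁆ ∈ D) (h2 : ∀ v ∈ X, ⁅d, v⁆ ∈ D₁ → v ∈ Y) :
    Y.relIndex X ≤ D₁.relIndex D := by
  let f := (cHom hV hd).comp (inclusion hX)
  calc Y.relIndex X ≤ (D₁.comap f).index :=
        Nat.le_of_dvd (Nat.pos_of_ne_zero index_ne_zero_of_finite)
          (index_dvd_of_le fun v hv => h2 v v.2 hv)
    _ = D₁.relIndex f.range := index_comap _ _
    _ ≤ _ := relIndex_le_of_le_right (by rintro _ ⟨v, rfl⟩; exact h1 v v.2) rel_ne

theorem exists_hyp [hp : Fact p.Prime] {A S : Subgroup G} (hA : IsPGroup p A) (h : S < A) :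
    ∃ B : Subgroup G, S ≤ B ∧ B ≤ A ∧ B.relIndex A = p := by
  obtain ⟨m, hm⟩ := IsPGroup.iff_card.1 hA
  obtain ⟨n, hn⟩ := IsPGroup.iff_card.1 (hA.to_le h.le)
  have hlt : n < m := by
    have := CL.card_lt_of_lt h
    rwa [hm, hn, Nat.pow_lt_pow_iff_right hp.out.one_lt] at this
  obtain ⟨K, hK, hSK⟩ := Sylow.exists_subgroup_card_pow_prime_le p (G := A) (n := n) (m := m - 1)
    (by rw [hm]; exact pow_dvd_pow _ (Nat.sub_le _ _)) (S.subgroupOf A)
    (by rw [CL.card_subgroupOf_of_le h.le, hn]) (by omega)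
  refine ⟨K.map A.subtype, ?_, map_subtype_le _, ?_⟩
  · rw [← map_subgroupOf_eq_of_le h.le]; exact map_mono hSK
  · have h1 := CL.card_mul_relIndex_of_le (map_subtype_le K)
    rw [card_map_of_injective A.subtype_injective, hK, hm] at h1
    obtain ⟨l, rfl⟩ : ∃ l, m = l + 1 := ⟨m - 1, by omega⟩
    rw [Nat.add_sub_cancel, pow_succ] at h1
    exact Nat.eq_of_mul_eq_mul_left (pow_pos hp.out.pos _) h1

/-- A pairing with values in a group of order at most two. -/
theorem pairing {V N D D₁ : Subgroup G} (hV : IsMulCommutative V) (hN : N ≤ N[V])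
    (h1 : ⁅N, V⁆ ≤ D) (h2 : D₁.relIndex D ≤ 2) (n1 : N ≤ N[D₁]) (n2 : V ≤ N[D₁]) :
    (secC N D₁).relIndex V ≤ (secC V D₁).relIndex N := by
  obtain ⟨X, ⟨x1, x2, x3⟩, hX⟩ := Set.Finite.exists_maximal (s := {X : Subgroup G |
    N ⊓ secC V D₁ ≤ X ∧ X ≤ N ∧ (secC X D₁).relIndex V ≤ (secC V D₁).relIndex X})
    (Set.toFinite _) ⟨N ⊓ secC V D₁, le_rfl, inf_le_left, by
      rw [relIndex_eq_one.2 ((mem_secC_comm (inf_le_left.trans n1) n2).1 inf_le_right)]
      exact Nat.one_le_iff_ne_zero.2 rel_ne⟩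
  by_cases e : N ≤ X
  · rwa [le_antisymm x2 e] at x3
  obtain ⟨n, hn, hn'⟩ := SetLike.not_le_iff_exists.1 e
  have l : X ⊔ zpowers n ≤ N := sup_le x2 (zpowers_le.2 hn)
  refine absurd (hX ⟨x1.trans le_sup_left, l, ?_⟩ le_sup_left (mem_sup_right (mem_zpowers n))) hn'
  have k1 : secC (X ⊔ zpowers n) D₁ ≤ secC X D₁ := fun g hg =>
    ⟨hg.1, fun r hr => hg.2 r (mem_sup_left hr)⟩
  have k2 : (secC (X ⊔ zpowers n) D₁).relIndex (secC X D₁ ⊓ V) ≤ 2 :=
    (relIndex_le_cHom hV (hN hn) inf_le_right (fun v hv => h1 (commutator_mem_commutator hn hv.2))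
      fun v hv hv' => (mem_secC_comm (l.trans n1) (zpowers_le.2 (n2 hv.2))).1 (sup_le
        ((mem_secC_comm (zpowers_le.2 (n2 hv.2)) (x2.trans n1)).1 (zpowers_le.2 hv.1))
        ((mem_secC_comm (zpowers_le.2 (n2 hv.2)) (zpowers_le.2 (n1 hn))).1 (zpowers_le.2
          ⟨n2 hv.2, fun r hr => zpowers_comm_le (A := zpowers v) (n1 hn) (fun a ha =>
            (zpowers_le.2 (show v ∈ elStab n D₁ from ⟨n2 hv.2, hv'⟩) ha).2)
            (commutator_mem_commutator hr (mem_zpowers v))⟩))) (mem_zpowers v)).trans h2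
  have k3 : 2 ≤ X.relIndex (X ⊔ zpowers n) := by
    have a : X.relIndex (X ⊔ zpowers n) ≠ 1 := fun e =>
      hn' (relIndex_eq_one.1 e (mem_sup_right (mem_zpowers n)))
    have b : X.relIndex (X ⊔ zpowers n) ≠ 0 := rel_ne
    omega
  have k4 : (secC V D₁).relIndex (X ⊔ zpowers n) =
      (secC V D₁).relIndex X * X.relIndex (X ⊔ zpowers n) := by
    have := relIndex_inf_mul_relIndex (secC V D₁) X (X ⊔ zpowers n)
    rw [inf_eq_left.2 le_sup_left] at this
    rw [this, ← inf_relIndex_right (secC V D₁), ← inf_relIndex_right (secC V D₁ ⊓ X)]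
    congr 1
    exact le_antisymm (le_inf (le_inf inf_le_left ((le_inf (inf_le_right.trans l)
      inf_le_left).trans x1)) inf_le_right) (inf_le_inf_right _ inf_le_left)
  rw [k4, ← inf_eq_left.2 k1, ← relIndex_inf_mul_relIndex, mul_comm]
  exact Nat.mul_le_mul x3 (k2.trans k3)

/-- Chains of centralizers: a quadratic bound on the summands passes to the sum. -/
theorem chain {ι : Sort*} {V : ι → Subgroup G} {B : Subgroup G}
    (h : ∀ i, ∀ X ≤ B, ¬ X ≤ C[V i] → C[V i].relIndex X ^ 2 < C[X].relIndex (V i)) :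
    ∀ X ≤ B, C[⨆ i, V i].relIndex X ^ 2 ≤ C[X].relIndex (⨆ i, V i) ∧
      (¬ X ≤ C[⨆ i, V i] → C[⨆ i, V i].relIndex X ^ 2 < C[X].relIndex (⨆ i, V i)) := by
  intro X
  induction X using WellFoundedLT.induction with
  | ind X ih =>
    intro hX
    by_cases e : X ≤ C[⨆ i, V i]
    · rw [relIndex_eq_one.2 e, one_pow]
      exact ⟨Nat.one_le_iff_ne_zero.2 rel_ne, fun k => absurd e k⟩
    suffices C[⨆ i, V i].relIndex X ^ 2 < C[X].relIndex (⨆ i, V i) from ⟨this.le, fun _ => this⟩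
    obtain ⟨i, hi⟩ : ∃ i, ¬ X ≤ C[V i] := by
      by_contra! k
      exact e (cent_symm (iSup_le fun i => cent_symm (k i)))
    have l : C[V i] ⊓ X < X := lt_of_le_of_ne inf_le_right fun k => hi (k.ge.trans inf_le_left)
    have a := (ih _ l (inf_le_right.trans hX)).1
    have e1 := relIndex_inf_mul_relIndex C[⨆ i, V i] C[V i] X
    rw [inf_eq_left.2 (centralizer_anti (le_iSup V i))] at e1
    have e2 := relIndex_inf_mul_relIndex C[X] C[C[V i] ⊓ X] (⨆ i, V i)
    rw [inf_eq_left.2 (centralizer_anti inf_le_right)] at e2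
    have b : C[X].relIndex (V i) ≤ C[X].relIndex (C[C[V i] ⊓ X] ⊓ ⨆ i, V i) :=
      relIndex_le_of_le_right (le_inf (cent_symm inf_le_left) (le_iSup V i)) rel_ne
    rw [← e1, ← e2, mul_pow, mul_comm]
    exact Nat.mul_lt_mul_of_lt_of_le ((h i X hX hi).trans_le b) a (Nat.pos_of_ne_zero rel_ne)

variable [Fact p.Prime] {T M : Subgroup G}

theorem card_eq_mul (H K : Subgroup G) : Nat.card K = Nat.card (K ⊓ H : Subgroup G) * H.relIndex K := by
  rw [inf_comm, CL.card_inf_mul_relIndex]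

theorem sec_base (m : PMin p T M) {W₁ W₂ A : Subgroup G} [W₁.Normal] [W₂.Normal]
    (hW : IsElementaryAbelian p W₁) (h1 : ⁅W₁, pCore p G⁆ ≤ W₂) (h2 : ¬ ⁅W₁, pResidual p G⁆ ≤ W₂)
    (hA : IsElementaryAbelian p A) (hAT : A ≤ T) :
    (pCore p G).relIndex A ≤ (secC A W₂).relIndex W₁ := by
  let π := QuotientGroup.mk' W₂
  haveI : (W₁.map π).Normal := Normal.map inferInstance π (QuotientGroup.mk'_surjective _)
  let F := stdModel (W₁.map π)
  have cm : ∀ X : Subgroup G, C[X.map π].comap π = secC X W₂ := fun X => by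
    ext g
    refine ⟨fun hg => ⟨le_normalizer_of_normal (mem_top g), fun r hr => ?_⟩, fun hg => ?_⟩
    · rw [← QuotientGroup.eq_one_iff]
      show π _ = 1
      rw [map_commutatorElement, commutatorElement_eq_one_iff_mul_comm]
      exact hg _ (mem_map_of_mem π hr)
    · rintro _ ⟨r, hr, rfl⟩
      rw [← commutatorElement_eq_one_iff_mul_comm, ← map_commutatorElement]
      exact (QuotientGroup.eq_one_iff _).2 (hg.2 r hr)
  have k : (F.σ.comp π).ker = secC W₁ W₂ := by rw [← MonoidHom.comap_ker, F.ker, cm]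
  have kM : secC W₁ W₂ ≤ M := by_contra fun e => h2 (le_secC_iff.1 (m.res_le
    (le_normalizer_secC le_normalizer_of_normal le_normalizer_of_normal) e)).2
  have o := (m.mp₀ (F.σ.comp π) (F.elemAb_range (Th.elemAb_map hW π))
    (by rw [← map_map]; exact F.map_le_normalizer _)
    (by rw [← map_map]; exact F.map_inf_centralizer_range _) (k ▸ kM)
    (k ▸ le_secC_iff.2 ⟨le_normalizer_of_normal, h1⟩)).noOver (map_mono le_top)
    (Th.elemAb_map hA _)
  rw [offMeas_def, ← relIndex_ker, k, ← map_map, F.range_inf_centralizer,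
    F.card_lift inf_le_left, F.card_range, card_eq_mul C[A.map π] (W₁.map π), mul_comm] at o
  rw [← cm, relIndex_comap]
  refine le_trans ?_ (Nat.le_of_mul_le_mul_left o Nat.card_pos)
  haveI : (secC W₁ W₂).Normal := k ▸ inferInstance
  rw [← inf_relIndex_right (secC W₁ W₂)]
  exact relIndex_le_of_le_left ((inf_comm _ _).le.trans ((inf_le_inf_right _ hAT).trans
    (m.inf_le kM))) rel_ne

/-- No over-offenders on noncentral sections. -/
theorem sec_bound (m : PMin p T M) {W₂ A : Subgroup G} [W₂.Normal]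
    (hA : IsElementaryAbelian p A) (hAT : A ≤ T) (W₁ : Subgroup G) : W₁.Normal → W₂ ≤ W₁ →
    IsElementaryAbelian p W₁ → ¬ ⁅W₁, pResidual p G⁆ ≤ W₂ →
    (pCore p G).relIndex A ≤ (secC A W₂).relIndex W₁ := by
  induction W₁ using WellFoundedLT.induction with
  | ind W₁ ih =>
    intro _ h hW h2
    have l : W₂ ⊔ ⁅W₁, pCore p G⁆ ≤ W₁ := sup_le h (commutator_le_left _ _)
    by_cases e : ⁅W₁, pResidual p G⁆ ≤ W₂ ⊔ ⁅W₁, pCore p G⁆
    · refine (ih _ (lt_of_le_of_ne l fun k => h2 ((commutator_le_left _ _).trans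
        (MSS.le_of_le_sup_commutator (Th.elemAb_isPGroup hW) oP_pCore_isPGroup
          le_normalizer_of_normal le_normalizer_of_normal le_normalizer_of_normal h k.ge)))
        inferInstance le_sup_left (elemAb_mono hW l) fun k => h2 ?_).trans
        (relIndex_le_of_le_right l rel_ne)
      rw [← oU_top] at e k ⊢
      exact res_comm_le ((Th.elemAb_isPGroup hW).to_le l) e k
    · exact (sec_base m hW le_sup_right e hA hAT).trans (relIndex_le_of_le_left
        (fun g hg => ⟨le_normalizer_of_normal (mem_top g), fun r hr => mem_sup_left (hg.2 r hr)⟩)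
        rel_ne)

theorem sq_bound (m : PMin p T M) {U W A : Subgroup G} [U.Normal] [W.Normal] (h : W ≤ U)
    (hU : IsElementaryAbelian p U) (h1 : ⁅W, pResidual p G⁆ ≠ ⊥) (h2 : ¬ ⁅U, pResidual p G⁆ ≤ W)
    (hA : IsElementaryAbelian p A) (hAT : A ≤ T) :
    (pCore p G).relIndex A ^ 2 ≤ C[A].relIndex U := by
  have a := sec_bound m hA hAT U inferInstance h hU h2
  have b := sec_bound (W₂ := ⊥) m hA hAT W inferInstance bot_le (elemAb_mono hU h)
    (mt le_bot_iff.1 h1)
  rw [secC_bot] at b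
  have e := relIndex_inf_mul_relIndex C[A] (secC A W) U
  have l : C[A] ≤ secC A W := fun g hg => ⟨le_normalizer_of_normal (mem_top g), fun r hr => by
    rw [commutatorElement_eq_one_iff_mul_comm.2 (hg r hr)]; exact one_mem _⟩
  rw [inf_eq_left.2 l] at e
  rw [← e, sq]
  exact Nat.mul_le_mul (b.trans (relIndex_le_of_le_right (le_inf
    (le_secC_iff.2 ⟨le_normalizer, commutator_le_right _ _⟩) h) rel_ne)) a

end CL.QP
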