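import Mathlib
import Cfsg.Agent.TECH.QPush3

/-!
The qrc-lemma for a minimal parabolic: quadratic and cubic `2F`-offenders.
-/

set_option autoImplicit false
set_option linter.unusedSectionVars false
set_option linter.style.haveILetI false
open Cfsg Subgroup CL.Th CL.MSS CL.ThA CL.Push CL.BHS
open scoped commutatorElement

namespace CL.QP

universe u
variable {G : Type u} [Group G]

local notation "C[" X "]" => centralizer ((X : Subgroup G) : Set G)
local notation "N[" X "]" => normalizer ((X : Subgroup G) : Set G)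
local notation "J[" X "]" => thompsonSubgroupOf 2 X
local notation "B[" X "]" => baumannSubgroupOf 2 X

theorem quad_of {X V B : Subgroup G} (hV : IsElementaryAbelian 2 V) (hB : B ≤ X) (hn : B ≤ N[V])
    (h1 : ¬ B ≤ C[V]) (h2 : ⁅V, B⁆ ≤ C[B]) (h3 : C[B].relIndex V ≤ C[V].relIndex B ^ 2) :
    QuadParamLE X V 2 := by
  refine ⟨B, hB, ⟨h1, fun b hb v hv => ?_, fun b hb c hc => three_cent h2
    (commutator_comm V B ▸ h2) (commutator_mem_commutator hb hc)⟩,
    commutator_eq_bot_iff_le_centralizer.2 h2, by rwa [inf_relIndex_left]⟩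
  have k := commutator_mem_commutator (H₁ := V) hv hb
  have k1 : b * ⁅v, b⁆ = ⁅v, b⁆ * b := h2 k b hb
  have k2 : ⁅v, b⁆ * ⁅v, b⁆ = 1 := by
    rw [← sq]; exact hV.2 _ (commutator_le_left_of_normalizes hn k)
  have k3 : v * b = ⁅v, b⁆ * b * v := by rw [commutatorElement_def]; group
  calc v * b ^ 2 = ⁅v, b⁆ * b * (v * b) := by rw [sq, ← mul_assoc, k3]; group
    _ = ⁅v, b⁆ * (b * ⁅v, b⁆) * b * v := by rw [k3]; group
    _ = (⁅v, b⁆ * ⁅v, b⁆) * b * b * v := by rw [k1]; group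
    _ = _ := by rw [k2, sq, one_mul]

theorem quad_cj {X V B Q : Subgroup G} [Q.Normal] (hV : IsElementaryAbelian 2 V) (hQ : Q ≤ X)
    (hn : Q ≤ N[V]) (hB : B ≤ Q) (g : G) (h1 : ¬ B ≤ C[g •ᶜ V]) (h2 : ⁅g •ᶜ V, B⁆ ≤ C[B])
    (h3 : C[B].relIndex (g •ᶜ V) ≤ C[g •ᶜ V].relIndex B ^ 2) : QuadParamLE X V 2 := by
  obtain ⟨B, rfl⟩ : ∃ D, g •ᶜ D = B := ⟨_, cj_inv_cj g B⟩
  rw [← cj_eq_of_normal g Q, cj_le_cj_iff] at hB
  rw [← cj_centralizer, cj_le_cj_iff] at h1
  rw [← cj_centralizer, ← cj_commutator, cj_le_cj_iff] at h2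
  rw [← cj_centralizer, ← cj_centralizer, relIndex_cj, relIndex_cj] at h3
  exact quad_of hV (hB.trans hQ) (hB.trans hn) h1 h2 h3

section Map
variable {K : Type*} [Group K] {f : G →* K} (hf : Function.Injective f) {X V : Subgroup G}
  {Y : Subgroup K} (hY : X.map f ≤ Y)
include hf

theorem rel_cent_map (A B : Subgroup G) :
    (centralizer (A.map f : Set K)).relIndex (B.map f) = C[A].relIndex B := by
  rw [← inf_relIndex_left, ← map_inf_centralizer _ _ hf, relIndex_map_map_of_injective _ _ hf,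
    inf_relIndex_left]

theorem induces_map {B : Subgroup G} (h : InducesElemAbelianTwoGroupOn B V) :
    InducesElemAbelianTwoGroupOn (B.map f) (V.map f) := by
  refine ⟨mt (map_le_cent_iff hf).1 h.1, ?_, ?_⟩
  · rintro _ ⟨b, hb, rfl⟩
    rw [← map_pow, map_mem_cent_iff hf]; exact h.2.1 b hb
  · rintro _ ⟨b, hb, rfl⟩ _ ⟨c, hc, rfl⟩
    rw [← map_inv, ← map_inv, ← map_mul, ← map_mul, ← map_mul, map_mem_cent_iff hf]
    exact h.2.2 b hb c hc

include hY

theorem quad_map (h : QuadParamLE X V 2) : QuadParamLE Y (V.map f) 2 := by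
  obtain ⟨B, h1, h2, h3, h4⟩ := h
  refine ⟨B.map f, (map_mono h1).trans hY, induces_map hf h2, ?_, ?_⟩
  · rw [← map_commutator, ← map_commutator, h3, Subgroup.map_bot]
  · rwa [inf_relIndex_left, rel_cent_map hf, rel_cent_map hf, ← inf_relIndex_left]

theorem cubic_map (h : CubicParamLE X V 2) : CubicParamLE Y (V.map f) 2 := by
  obtain ⟨B, h1, h2, h3, h4⟩ := h
  refine ⟨B.map f, (map_mono h1).trans hY, induces_map hf h2, ?_, ?_⟩
  · rw [← map_commutator, ← map_commutator, ← map_commutator, h3, Subgroup.map_bot]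
  · rwa [inf_relIndex_left, rel_cent_map hf, rel_cent_map hf, ← inf_relIndex_left]

end Map

variable [Finite G]

theorem le_sq' {a b : ℕ} (h : a ≤ b) : a ≤ b ^ 2 := h.trans (Nat.le_self_pow two_ne_zero b)

/-- a quadratic offender from a maximal elementary abelian subgroup -/
theorem exists_quad {S U A : Subgroup G} (hU : IsElementaryAbelian 2 U) (hUS : U ≤ S)
    (hn : S ≤ N[U]) (hA : A ∈ maxElemAbIn 2 S) (h : ¬ A ≤ C[U]) :
    ∃ B ≤ A, ¬ B ≤ C[U] ∧ ⁅U, B⁆ ≤ C[B] ∧ C[B].relIndex U ≤ C[U].relIndex B := by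
  obtain ⟨h1, -, -, h2⟩ := timmesfeld hU (hA.1.trans hn) (bestOff_of_mem_maxElemAbIn hU hUS hA)
    (le_refl U)
  refine ⟨A ⊓ C[⁅U, A⁆], inf_le_left, fun e => h2 (fun k => h (cent_symm
    (commutator_eq_bot_iff_le_centralizer.1 k))) (commutator_eq_bot_iff_le_centralizer.2
      (cent_symm e)), (commutator_mono le_rfl inf_le_left).trans (cent_symm inf_le_right), ?_⟩
  generalize A ⊓ C[⁅U, A⁆] = B at h1
  have k := (isBestOffenderOn_iff.1 h1).1 (B ⊓ C[U]) inf_le_left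
  rw [offMeas_def, offMeas_def, inf_eq_left.2 (cent_symm inf_le_right), card_eq_mul C[B] U,
    card_eq_mul C[U] B, mul_assoc, mul_comm (C[U].relIndex B)] at k
  exact Nat.le_of_mul_le_mul_left (Nat.le_of_mul_le_mul_left k Nat.card_pos) Nat.card_pos

variable {S M : Subgroup G} (m : PMin 2 S M)
include m

theorem normal_of_res {U : Subgroup G} (h1 : S ≤ N[U]) (h2 : pResidual 2 G ≤ N[U]) : U.Normal :=
  m.normal_of h1 h2 m.res_not_le

omit m in
theorem rc {X Y Z : Subgroup G} [Y.Normal] [Z.Normal] (hY : IsPGroup 2 Y)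
    (h1 : ⁅X, pResidual 2 G⁆ ≤ Y) (h2 : ⁅Y, pResidual 2 G⁆ ≤ Z) : ⁅X, pResidual 2 G⁆ ≤ Z := by
  rw [← oU_top] at h1 h2 ⊢
  exact res_comm_le hY h1 h2

local notation "Q" => pCore 2 G
local notation "F" => pResidual 2 G

/-- the case of a single noncentral chief factor -/
theorem quad_one {V U : Subgroup G} [U.Normal] (hV : IsElementaryAbelian 2 V) (hVU : V ≤ U)
    (hUQ : U ≤ Q) (hn : S ≤ N[V]) (hN : ¬ V.Normal) (hz : F ≤ C[vz 2 G])
    (hU : IsElementaryAbelian 2 U) (gen : ∀ W : Subgroup G, W.Normal → V ≤ W → U ≤ W)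
    (h : ∀ W ≤ U, W.Normal → ⁅W, F⁆ = ⊥ ∨ ⁅U, F⁆ ≤ W) : QuadParamLE S V 2 := by
  haveI := oU_pResidual_normal (p := 2) (G := G)
  have pU := Th.elemAb_isPGroup hU
  have a1 : ¬ ⁅U, F⁆ ≤ ⁅U, Q⁆ := fun e => hN (by
    have l : V ⊔ ⁅U, Q⁆ ≤ U := sup_le hVU (commutator_le_left _ _)
    have n := normal_of_res m (U := V ⊔ ⁅U, Q⁆) (le_normalizer_sup hn le_normalizer_of_normal)
      (le_normalizer_of_commutator_le ((commutator_mono l le_rfl).trans (e.trans le_sup_right)))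
    rw [le_antisymm hVU (MSS.le_of_le_sup_commutator pU oP_pCore_isPGroup le_normalizer_of_normal
      (m.Q_le.trans hn) (hUQ.trans (m.Q_le.trans hn)) hVU (gen _ n le_sup_left))]
    infer_instance)
  have a2 : ⁅⁅U, Q⁆, F⁆ = ⊥ := (h _ (commutator_le_left _ _) inferInstance).resolve_right a1
  have a3 : ⁅⁅Q, F⁆, U⁆ ≠ ⊥ := fun e => by
    have k : ⁅U, F⁆ ≤ C[Q] := by
      rw [commutator_comm]
      exact commutator_eq_bot_iff_le_centralizer.1 (commutator_commutator_eq_bot_of_rotate a2 e)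
    have k' : ⁅U, F⁆ ≤ C[F] := (le_oz (elemAb_mono hU (commutator_le_left U F))
      ((commutator_le_left U F).trans hUQ) k).trans (cent_symm hz)
    exact a1 ((rc (pU.to_le (commutator_le_left U F)) le_rfl
      (commutator_eq_bot_iff_le_centralizer.2 k').le).trans bot_le)
  obtain ⟨N, eN⟩ : ∃ N, N = ⁅Q, F⁆ := ⟨_, rfl⟩
  haveI : N.Normal := eN ▸ inferInstance
  have hNQ : N ≤ Q := eN ▸ commutator_le_left _ _
  have e2 : N ≤ ⁅N, F⁆ := eN.le.trans (rc (oP_pCore_isPGroup.to_le hNQ) eN.ge le_rfl)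
  rw [← eN] at a3
  have d0 : ⁅N, U⁆ ≤ U ⊓ C[F] := le_inf (commutator_le_right _ _) ((commutator_mono hNQ le_rfl).trans
    ((commutator_comm _ _).le.trans (commutator_eq_bot_iff_le_centralizer.1 a2)))
  have c0 : U ⊓ C[F] ≤ C[N] := cent_symm (eN.le.trans (three_cent
    ((commutator_le_left _ _).trans inf_le_right) ((commutator_eq_bot_iff_le_centralizer.2
      (cent_symm inf_le_right)).le.trans bot_le)))
  obtain ⟨D, d1, d2, d3⟩ := exists_hyp (pU.to_le (d0.trans inf_le_left))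
    (CL.PN.commutator_lt_of_isPGroup (pU.to_le (d0.trans inf_le_left)) m.syl.pgroup
      le_normalizer_of_normal a3)
  haveI : D.Normal := normal_of_res m (le_normalizer_of_commutator_le
    ((commutator_mono d2 le_rfl).trans d1)) (cent_le_norm (cent_symm (d2.trans
      (d0.trans inf_le_right))))
  haveI : (secC N D).Normal := normalizer_eq_top_iff.1 (eq_top_iff.2
    (le_normalizer_secC le_normalizer_of_normal le_normalizer_of_normal))
  have r : U ⊓ secC N D ≤ C[N] := by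
    refine le_trans (le_inf inf_le_left (commutator_eq_bot_iff_le_centralizer.1
      ((h _ inf_le_left inferInstance).resolve_right fun e => ?_))) c0
    have e1 : ⁅⁅N, F⁆, U⁆ ≤ D := three_subgroups_of_normalizes le_normalizer_of_normal
      le_normalizer_of_normal le_normalizer_of_normal
      (by rw [commutator_comm, commutator_comm F]
          exact (le_secC_iff.1 (e.trans inf_le_right)).2)
      ((commutator_mono (commutator_mono le_rfl hNQ) le_rfl).trans (a2.le.trans bot_le))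
    rw [relIndex_eq_one.2 ((commutator_mono e2 le_rfl).trans e1)] at d3
    omega
  refine quad_of hV (hNQ.trans m.Q_le) (hNQ.trans (m.Q_le.trans hn)) (fun e => a3
    (commutator_eq_bot_iff_le_centralizer.2 (cent_symm (gen _ inferInstance (cent_symm e)))))
    ((commutator_comm _ _).le.trans ((commutator_mono le_rfl hVU).trans (d0.trans c0))) (le_sq' ?_)
  calc C[N].relIndex V ≤ (secC N D ⊓ V).relIndex V := relIndex_le_of_le_left
        ((le_inf (inf_le_right.trans hVU) inf_le_left).trans r) rel_ne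
    _ = (secC N D).relIndex V := inf_relIndex_right _ _
    _ ≤ (secC V D).relIndex N := pairing hV.1 (hNQ.trans (m.Q_le.trans hn))
        (commutator_mono le_rfl hVU) d3.le le_normalizer_of_normal le_normalizer_of_normal
    _ ≤ _ := relIndex_le_of_le_left (le_secC_iff.2 ⟨le_normalizer_of_normal,
        (commutator_eq_bot_iff_le_centralizer.2 (cent_symm le_rfl)).le.trans bot_le⟩) rel_ne

/-- The qrc-lemma when `V ≤ O₂(G)`. -/
theorem quad_case {V : Subgroup G} (hV : IsElementaryAbelian 2 V) (hVQ : V ≤ pCore 2 G)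
    (hn : S ≤ N[V]) (hN : ¬ V.Normal) (hz : pResidual 2 G ≤ C[vz 2 G]) (nj : N[J[S]] ≤ M) :
    QuadParamLE S V 2 := by
  by_contra hq
  have hQV := m.Q_le.trans hn
  have cQ : ∀ g : G, g •ᶜ V ≤ pCore 2 G := fun g =>
    cj_le_of_mem_normalizer hVQ (le_normalizer_of_normal (mem_top g))
  have cV : ∀ g : G, IsElementaryAbelian 2 (g •ᶜ V) := fun g => Th.elemAb_map hV _
  have nV : ∀ g : G, pCore 2 G ≤ N[g •ᶜ V] := fun g => by
    rw [← cj_normalizer, ← cj_eq_of_normal g (pCore 2 G)]; exact cj_mono g hQV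
  have ab : ∀ g : G, g •ᶜ V ≤ C[V] := fun g => by
    by_contra e
    rcases le_total (C[g •ᶜ V].relIndex V) (C[V].relIndex (g •ᶜ V)) with k | k
    · exact hq (quad_of hV ((cQ g).trans m.Q_le) ((cQ g).trans hQV) e
        ((commutator_le_right_of_normalizes (hVQ.trans (nV g))).trans
          (Th.elemAb_le_centralizer (cV g))) (le_sq' k))
    · exact hq (quad_cj hV m.Q_le hQV hVQ g (fun k => e (cent_symm k))
        ((commutator_le_right_of_normalizes ((cQ g).trans hQV)).trans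
          (Th.elemAb_le_centralizer hV)) (le_sq' k))
  have hU : IsElementaryAbelian 2 (ncl V ⊤) := elemAb_iSup (fun g => cV _) fun g k => by
    have := cent_cj (ab ((k : G)⁻¹ * g)) k
    rwa [← cj_mul, mul_inv_cancel_left] at this
  have hUQ : ncl V ⊤ ≤ pCore 2 G := ncl_le hVQ le_normalizer_of_normal
  haveI : (ncl V ⊤).Normal := normalizer_eq_top_iff.1 (eq_top_iff.2 (ncl_normal V ⊤))
  refine hq (quad_one m hV (le_ncl V ⊤) hUQ hn hN hz hU
    (fun W _ e => ncl_le e le_normalizer_of_normal) fun W h1 h2 => ?_)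
  by_contra! h3
  have cM : C[ncl V ⊤] ≤ M := by_contra fun e => h3.1 (commutator_eq_bot_iff_le_centralizer.2
    (h1.trans (cent_symm (m.res_le le_normalizer_of_normal e))))
  obtain ⟨A, hA, hAC⟩ : ∃ A ∈ maxElemAbIn 2 S, ¬ A ≤ C[ncl V ⊤] := by
    by_contra! hc
    have e1 := thompsonSubgroupOf_eq_of_le (thompsonSubgroupOf_le_iff.2 fun A hA =>
      (le_inf hA.1 (hc A hA)).trans (m.inf_le cM)) m.Q_le
    haveI := thompsonSubgroupOf_normal (p := 2) (pCore 2 G)
    exact m.uniq.lt.not_ge (le_trans (e1 ▸ le_normalizer_of_normal) nj)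
  obtain ⟨B, b1, b2, b3, b4⟩ := exists_quad hU (hUQ.trans m.Q_le) le_normalizer_of_normal hA hAC
  have s1 := sq_bound m h1 hU h3.1 h3.2 (elemAb_mono hA.2.1 b1) (b1.trans hA.1)
  have s2 := chain (V := fun g : (⊤ : Subgroup G) => (g : G) •ᶜ V) (B := pCore 2 G ⊓ B)
    (fun g X hX e => lt_of_not_ge fun k => hq (quad_cj hV m.Q_le hQV (hX.trans inf_le_left) g e
      ((commutator_mono (cj_le_ncl V g.2) (hX.trans inf_le_right)).trans
        (b3.trans (centralizer_anti (hX.trans inf_le_right)))) k)) _ le_rfl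
  rw [← ncl_def] at s2
  have s3 : C[pCore 2 G ⊓ B].relIndex (ncl V ⊤) ≤ C[B].relIndex (ncl V ⊤) :=
    relIndex_le_of_le_left (centralizer_anti inf_le_right) rel_ne
  have s4 := relIndex_inf_mul_relIndex C[ncl V ⊤] (pCore 2 G) B
  have s5 : (C[ncl V ⊤] ⊓ pCore 2 G).relIndex B = C[ncl V ⊤].relIndex B := by
    rw [← inf_relIndex_right, ← inf_relIndex_right C[ncl V ⊤]]
    congr 1
    exact le_antisymm (inf_le_inf_right _ inf_le_left) (le_inf (le_inf inf_le_left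
      ((le_inf (inf_le_right.trans (b1.trans hA.1)) inf_le_left).trans (m.inf_le cM))) inf_le_right)
  have s6 : C[ncl V ⊤].relIndex B ≠ 1 := mt relIndex_eq_one.1 b2
  have s7 : (pCore 2 G).relIndex B ≠ 0 := rel_ne
  rw [← s5, ← s4] at b4 s6
  by_cases e : pCore 2 G ⊓ B ≤ C[ncl V ⊤]
  · rw [relIndex_eq_one.2 e, one_mul] at b4 s6
    generalize (pCore 2 G).relIndex B = a at *
    have : 2 ≤ a := by omega
    nlinarith [s1.trans b4]
  · have s8 := (s2.2 e).trans_le s3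
    generalize (pCore 2 G).relIndex B = a at *
    generalize C[ncl V ⊤].relIndex (pCore 2 G ⊓ B) = b at *
    generalize C[B].relIndex (ncl V ⊤) = c at *
    nlinarith [Nat.mul_le_mul b4 b4, Nat.mul_lt_mul_of_lt_of_le s8 s1 (by omega)]

/-- The case `V ≰ O₂(G)`: a cubic `2F`-offender. -/
theorem cubic_case (hc : C[pCore 2 G] ≤ pCore 2 G) {R V : Subgroup G}
    (u : MSS.UniqMax (R ⊔ pCore 2 G) ⊤ M) (hV : IsElementaryAbelian 2 V) (hVR : V ≤ R)
    (hRV : R ≤ C[V]) (hRS : R ≤ S) (hn : S ≤ N[V]) (hnR : S ≤ N[R]) (hM : M ≤ N[pCore 2 G ⊓ R])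
    (hVQ : ¬ V ≤ pCore 2 G) : CubicParamLE S V 2 := by
  have pQ : IsPGroup 2 Q := oP_pCore_isPGroup
  have hVS := hVR.trans hRS
  have nt : ∀ {X : Subgroup G}, ⊤ ≤ N[X] → X.Normal := fun e =>
    normalizer_eq_top_iff.1 (eq_top_iff.2 e)
  have sec : ∀ {X Y : Subgroup G}, X.Normal → Y.Normal → (secC X Y).Normal := fun _ _ =>
    nt (le_normalizer_secC le_normalizer_of_normal le_normalizer_of_normal)
  have res : ∀ {X : Subgroup G}, X.Normal → ¬ X ≤ M → pResidual 2 G ≤ X := fun _ e =>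
    m.res_le le_normalizer_of_normal e
  have nres : ¬ IsPGroup 2 (pResidual 2 G) := fun e => m.res_not_le
    ((haveI := oU_pResidual_normal (p := 2) (G := G); oP_le_pCore e).trans (m.Q_le.trans m.uniq.le))
  have ch := chP_top_iff.2 hc
  obtain ⟨x, hx⟩ : ∃ x : G, ¬ x •ᶜ V ≤ M := by
    by_contra! e
    haveI := nt (ncl_normal V ⊤)
    exact hVQ ((le_inf hVS (le_ncl V ⊤)).trans (m.inf_le (ncl_le_iff.2 fun g _ => e g)))
  have xQ := cj_eq_of_normal x Q
  have hV' : IsElementaryAbelian 2 (x •ᶜ V) := Th.elemAb_map hV _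
  have nQ : ∀ {X : Subgroup G}, S ≤ N[X] → Q ≤ N[x •ᶜ X] := fun e => by
    rw [← cj_normalizer, ← xQ]; exact cj_mono x (m.Q_le.trans e)
  have QV := m.Q_le.trans hn
  have QV' := nQ hn
  have g1 : ∀ {X : Subgroup G}, R ≤ N[X] → Q ≤ N[X] → x •ᶜ V ≤ N[X] → X.Normal := fun h1 h2 h3 =>
    nt (u.eq_of_not_le (sup_le h1 h2) le_top fun e => hx (h3.trans e)).ge
  -- the subgroups `A`, `A'`
  have nA : S ≤ N[Q ⊓ R] := le_normalizer_inf le_normalizer_of_normal hnR
  have A'Q : x •ᶜ (Q ⊓ R) ≤ Q := (cj_mono x inf_le_left).trans xQ.le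
  have cA : ⁅Q, R⁆ ≤ Q ⊓ R := commutator_le_inf_of_normalizes (m.Q_le.trans hnR)
    le_normalizer_of_normal
  have cA' : ⁅Q, x •ᶜ V⁆ ≤ x •ᶜ (Q ⊓ R) := by
    have := cj_mono x ((commutator_mono le_rfl hVR).trans cA)
    rwa [cj_commutator, xQ] at this
  have l0 : Q ⊓ R ⊔ x •ᶜ (Q ⊓ R) ≤ Q := sup_le inf_le_left A'Q
  have n1 : (Q ⊓ R ⊔ x •ᶜ (Q ⊓ R)).Normal := g1
    (le_normalizer_of_commutator_le ((commutator_mono l0 le_rfl).trans (cA.trans le_sup_left)))
    (le_normalizer_sup (m.Q_le.trans nA) (nQ nA))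
    (le_normalizer_of_commutator_le ((commutator_mono l0 le_rfl).trans (cA'.trans le_sup_right)))
  have f1 := res (sec inferInstance n1) fun e => hx ((le_secC_iff.2 ⟨le_normalizer_of_normal,
    cA'.trans le_sup_right⟩).trans e)
  have cV' : x •ᶜ R ≤ C[x •ᶜ V] := cent_cj hRV x
  have w1 : x •ᶜ V ≤ C[V ⊓ x •ᶜ (Q ⊓ R)] :=
    cent_symm (inf_le_right.trans ((cj_mono x inf_le_right).trans cV'))
  have n2 : (V ⊓ x •ᶜ (Q ⊓ R)).Normal := g1 (cent_le_norm (hRV.trans (centralizer_anti inf_le_left)))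
    (le_normalizer_inf QV (nQ nA)) (cent_le_norm w1)
  have f2 := res (X := C[V ⊓ x •ᶜ (Q ⊓ R)]) inferInstance fun e => hx (w1.trans e)
  have reg : V ⊓ x •ᶜ M ≤ Q := by
    refine le_trans (le_inf (inf_le_left.trans hVS) (le_secC_iff.2 ⟨le_normalizer_of_normal,
      sup_commutator_le_of_normalizes le_normalizer_of_normal le_normalizer_of_normal ?_ ?_⟩))
      (haveI := sec n1 n2; m.inf_le (by_contra fun e => nres (ch.isPGroup_of_three_step le_top
        (pQ.to_le l0) (pQ.to_le (inf_le_right.trans A'Q)) (oP_top (p := 2) (G := G) ▸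
          (le_secC_iff.1 f1).2) (le_secC_iff.1 (res (sec n1 n2) e)).2 f2)))
    · exact (commutator_eq_bot_iff_le_centralizer.2 (inf_le_right.trans
        (hRV.trans (centralizer_anti inf_le_left)))).le.trans bot_le
    · refine le_inf ((commutator_mono le_rfl inf_le_left).trans
        (commutator_le_right_of_normalizes (A'Q.trans QV)))
        (commutator_le_left_of_normalizes (inf_le_right.trans ?_))
      rw [← cj_normalizer]; exact cj_mono x hM
  -- the subgroups `Z ≤ D`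
  have z1 : x •ᶜ V ≤ C[V ⊓ x •ᶜ V] := cent_symm (inf_le_right.trans (Th.elemAb_le_centralizer hV'))
  have n3 : (V ⊓ x •ᶜ V).Normal := g1 (cent_le_norm (hRV.trans (centralizer_anti inf_le_left)))
    (le_normalizer_inf QV QV') (cent_le_norm z1)
  have ZQ : V ⊓ x •ᶜ V ≤ Q := oP_le_pCore (Th.elemAb_isPGroup hV).to_inf_left
  have cB : ⁅V, Q⁆ ≤ V ⊓ Q := commutator_le_inf_of_normalizes le_normalizer_of_normal QV
  have cD : ⁅V ⊓ Q, x •ᶜ V ⊓ Q⁆ ≤ V ⊓ x •ᶜ V := le_inf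
    ((commutator_mono inf_le_left inf_le_right).trans (commutator_le_left_of_normalizes QV))
    ((commutator_mono inf_le_right inf_le_left).trans (commutator_le_right_of_normalizes QV'))
  have key : ∀ v ∈ V, v ∉ Q → ∀ d ∈ x •ᶜ V ⊓ Q, ⁅v, d⁆ ∈ V ⊓ x •ᶜ V → d ∈ V := by
    intro v hv hvQ d hd e
    have zl : V ⊓ x •ᶜ V ≤ x •ᶜ V ⊓ Q ⊓ elStab v (V ⊓ x •ᶜ V) := fun y hy =>
      ⟨⟨hy.2, ZQ hy⟩, le_normalizer_of_normal (mem_top y), by
        rw [commutatorElement_eq_one_iff_mul_comm.2 (elemAb_comm hV hv hy.1)]; exact one_mem _⟩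
    have n4 : (x •ᶜ V ⊓ Q ⊓ elStab v (V ⊓ x •ᶜ V)).Normal := by
      refine nt ((u.cj_of_mem (mem_top x)).eq_of_not_le ?_ le_top fun k => hvQ (reg ⟨hv, k
        (zpowers_le.1 (le_normalizer_of_commutator_le' ((zpowers_comm_le
          (A := x •ᶜ V ⊓ Q ⊓ elStab v (V ⊓ x •ᶜ V))
          (le_normalizer_of_normal (mem_top v)) fun a ha => ha.2.2).trans zl)))⟩)).ge
      rw [cj_sup, xQ]
      refine sup_le (cent_le_norm (cV'.trans (centralizer_anti (inf_le_left.trans inf_le_left))))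
        (le_normalizer_of_cj_le fun a ha => cj_le_iff_forall.2 fun y hy =>
          ⟨⟨conj_mem_of_normalizes QV' ha hy.1.1, conj_mem_of_normalizes le_normalizer ha hy.1.2⟩,
            le_normalizer_of_normal (mem_top _), ?_⟩)
      have k1 : ⁅v⁻¹, a⁻¹⁆ ∈ V ⊓ Q := cB (commutator_mem_commutator (inv_mem hv) (inv_mem ha))
      have k2 : ⁅v, a * y * a⁻¹⁆ = a * (v * ⁅⁅v⁻¹, a⁻¹⁆, y⁆ * v⁻¹ * ⁅v, y⁆) * a⁻¹ := by
        simp only [commutatorElement_def]; group
      rw [k2]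
      exact n3.conj_mem _ (mul_mem (n3.conj_mem _ (cD (commutator_mem_commutator k1 hy.1)) v)
        hy.2.2) a
    have : x •ᶜ (x •ᶜ V ⊓ Q ⊓ elStab v (V ⊓ x •ᶜ V)) ≤ x •ᶜ V := by
      rw [cj_eq_of_normal]; exact inf_le_left.trans inf_le_left
    exact (cj_le_cj_iff x).1 this ⟨hd, le_normalizer_of_normal (mem_top d), e⟩
  have xB : x •ᶜ (V ⊓ Q) = x •ᶜ V ⊓ Q := by rw [cj_inf, xQ]
  obtain ⟨d, hd, hdV⟩ : ∃ d ∈ x •ᶜ V ⊓ Q, d ∉ V := by
    by_contra! e
    have e1 : V ⊓ Q ≤ V ⊓ x •ᶜ V := by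
      rw [← cj_le_cj_iff x, xB, cj_eq_of_normal x (V ⊓ x •ᶜ V)]
      exact le_inf e inf_le_left
    haveI := sec (inferInstance : (Q).Normal) n3
    have e2 : V ≤ secC Q (V ⊓ x •ᶜ V) := le_secC_iff.2 ⟨le_normalizer_of_normal,
      (commutator_comm _ _).le.trans (cB.trans e1)⟩
    exact nres (ch.isPGroup_of_two_step le_top (pQ.to_le ZQ) (oP_top (p := 2) (G := G) ▸
      (le_secC_iff.1 (res inferInstance fun k => hVQ ((le_inf hVS e2).trans (m.inf_le k)))).2)
      (res inferInstance fun k => hx (z1.trans k)))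
  obtain ⟨v, hv, hvQ⟩ := SetLike.not_le_iff_exists.1 hVQ
  have cz : C[V] ⊓ (x •ᶜ V ⊓ Q) ≤ V ⊓ x •ᶜ V := fun y hy => ⟨key v hv hvQ y hy.2 (by
    rw [commutatorElement_eq_one_iff_mul_comm.2 (hy.1 v hv)]; exact one_mem _), hy.2.1⟩
  refine ⟨x •ᶜ V ⊓ Q, inf_le_right.trans m.Q_le, ⟨fun e => hdV (cz ⟨e hd, hd⟩).1,
    fun b hb => by rw [hV'.2 b hb.1]; exact one_mem _, fun b hb c hc => by
      rw [elemAb_comm hV' hb.1 hc.1, mul_inv_cancel_right, mul_inv_cancel]; exact one_mem _⟩,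
    commutator_eq_bot_iff_le_centralizer.2 ((commutator_mono ((commutator_mono le_rfl
      inf_le_right).trans cB) le_rfl).trans (cD.trans (cent_symm (inf_le_left.trans z1)))), ?_⟩
  have r1 : (Q).relIndex V ≤ (V ⊓ x •ᶜ V).relIndex (V ⊓ Q) :=
    relIndex_le_cHom hV.1 (QV hd.2) le_rfl
      (fun w hw => comm_swap_mem.1 (cB (commutator_mem_commutator hw hd.2)))
      fun w hw e => by_contra fun k => hdV (key w hw k d hd (comm_swap_mem.1 e))
  have r2 : (V ⊓ x •ᶜ V).relIndex (V ⊓ Q) ≤ C[V].relIndex (x •ᶜ V ⊓ Q) := by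
    rw [← relIndex_cj x, xB, cj_eq_of_normal x (V ⊓ x •ᶜ V), ← inf_relIndex_right C[V]]
    exact relIndex_le_of_le_left cz rel_ne
  have r3 := relIndex_inf_mul_relIndex (V ⊓ x •ᶜ V) Q V
  rw [inf_eq_left.2 ZQ, inf_comm Q] at r3
  calc _ ≤ (V ⊓ x •ᶜ V).relIndex V := relIndex_le_of_le_left
        (le_inf inf_le_left (cent_symm (inf_le_left.trans z1))) rel_ne
    _ ≤ _ := by rw [← r3, sq]; exact Nat.mul_le_mul r2 (r1.trans r2)

end CL.QP

namespace CL.QP

universe u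
variable {G : Type u} [Group G] [Finite G]

local notation "C[" X "]" => centralizer ((X : Subgroup G) : Set G)
local notation "N[" X "]" => normalizer ((X : Subgroup G) : Set G)
local notation "J[" X "]" => thompsonSubgroupOf 2 X
local notation "B[" X "]" => baumannSubgroupOf 2 X

/-- The qrc-lemma in a group of even characteristic. -/
theorem qrc {T H M M₀ R V E : Subgroup G} (h : Ev T) (hH : ChP 2 H) (u : MSS.UniqMax T H M)
    (hT : T ≤ M₀) (hV : IsElementaryAbelian 2 V) (hVT : V ≤ T) (hn : M₀ ≤ N[V]) (hR : M₀ ≤ N[R])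
    (eR : R = T ⊓ C[V]) (hE : M ≤ N[E]) (eE : T ⊓ E = R) :
    (∃ U ≤ R, U ≠ ⊥ ∧ M₀ ⊔ H ≤ N[U]) ∨ (¬ V ≤ pCoreOf 2 H ∧ CubicParamLE M₀ V 2) ∨
      QuadParamLE M₀ V 2 := by
  by_contra! hc
  obtain ⟨h1, h2, h3⟩ := hc
  have hTH := u.le_top'
  have sT := h.1.of_le hTH le_top
  have hRT : R ≤ T := eR ▸ inf_le_left
  have hRV : R ≤ C[V] := eR ▸ inf_le_right
  have hVR : V ≤ R := eR ▸ le_inf hVT (Th.elemAb_le_centralizer hV)
  by_cases hV1 : V = ⊥
  · have e : R = T := eR.trans (inf_eq_left.2 (cent_symm (hV1.le.trans bot_le)))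
    obtain ⟨U, a1, a2, a3⟩ := push_syl h hH u (R := T) (fun k => u.lt.not_ge (by
      have := hH.oP_ne_bot fun k' => u.lt.not_ge (k'.le.trans bot_le)
      exact absurd (le_bot_iff.1 ((oP_le_sylIn sT).trans k.le)) this))
      (by rw [oU_sup_sylIn sT]; exact sT) hT (e ▸ hR) le_rfl
    exact h1 U (e ▸ a1) a2 a3
  have key : ∀ U ≤ R, U ≠ ⊥ → M₀ ≤ N[U] → H ⊓ N[U] ≤ M := fun U a1 a2 a3 =>
    (u.le_or_eq (le_inf hTH (hT.trans a3)) inf_le_left).resolve_right fun e =>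
      h1 U a1 a2 (sup_le a3 (e.ge.trans inf_le_right))
  have jR : J[T] ≤ R := thompsonSubgroupOf_le_iff.2 fun A hA => eR ▸ le_inf hA.1 (by
    by_contra e
    obtain ⟨B, b1, b2, b3, b4⟩ := exists_quad hV hVT (hT.trans hn) hA e
    have b5 := b1.trans (hA.1.trans hT)
    exact h3 (quad_of hV b5 (b5.trans hn) b2 b3 (le_sq' b4)))
  have jE : J[R] = J[T] := thompsonSubgroupOf_eq_of_le jR hRT
  have bR : B[T] ≤ R := eR ▸ inf_le_inf_left T (centralizer_anti (le_oz hV (fun x hx =>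
    mem_thompsonSubgroupOf_of_centralizes (hVT hx) (hV.2 x hx) (cent_symm (jR.trans hRV) hx))
    (cent_symm (jR.trans hRV))))
  have bE : ∀ S, R ≤ S → S ≤ T → B[S] = B[T] := fun S a1 a2 =>
    baum_eq_of_le_cj (g := 1) (bR.trans a1) (by rwa [cj_one])
  have pR := sT.pgroup.to_le hRT
  have j0 : J[R] ≠ ⊥ := thompsonSubgroupOf_ne_bot_of_isPGroup pR fun e =>
    hV1 (le_bot_iff.1 (hVR.trans e.le))
  have nj : H ⊓ N[J[T]] ≤ M := jE ▸ key _ (thompsonSubgroupOf_le R) j0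
    (hR.trans (normalizer_le_normalizer_thompsonSubgroupOf R))
  have nB : M₀ ≤ N[B[T]] := bE R le_rfl hRT ▸ hR.trans (Foc3.norm_baum R)
  have hQT := oP_le_sylIn sT
  obtain ⟨L, S, l1, l2, l3, l4, l5, l6⟩ : ∃ L S, L ≤ H ∧ ¬ L ≤ M ∧
      MSS.UniqMax (R ⊔ pCoreOf 2 H) L (L ⊓ M) ∧ SylIn 2 S L ∧ S ≤ T ∧ R ⊔ pCoreOf 2 H ≤ S := by
    have a0 : R ⊔ pCoreOf 2 H ≤ T := sup_le hRT hQT
    obtain ⟨L, a1, a2, a3⟩ := exists_minOver (a0.trans hTH) u.lt.not_ge (a0.trans u.le)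
    obtain ⟨S, a4, a5⟩ := exists_sylIn_ge (sT.pgroup.to_le a0) a3.le_top'
    obtain ⟨g, hg, a6⟩ := sT.exists_le_conj a4.pgroup (a4.le.trans a1)
    have hgM : g⁻¹ ∈ M := inv_mem (nj ⟨hg, mem_normalizer_iff_cj.2
      (J_eq_of_le_cj (jR.trans (le_sup_left.trans a5)) a6).1⟩)
    rw [le_cj_iff] at a6
    have e : g⁻¹ •ᶜ (R ⊔ pCoreOf 2 H) = R ⊔ pCoreOf 2 H := by
      rw [cj_sup, cj_eq_of_mem_normalizer (oP_normal H (inv_mem hg)), cj_eq_of_le (eE.le.trans'
        (le_inf ((cj_mono _ (le_sup_left.trans a5)).trans a6)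
          (cj_le_of_mem_normalizer (eE.ge.trans inf_le_right) (hE hgM))))]
    have a7 := a3.cj g⁻¹
    rw [e, cj_inf, cj_eq_of_mem hgM] at a7
    exact ⟨_, _, cj_le_of_mem a1 (inv_mem hg), fun k => a2 (by
      rwa [← cj_eq_of_mem hgM, cj_le_cj_iff] at k), a7, a4.cj _, a6, e ▸ cj_mono _ a5⟩
  have hRS := le_sup_left.trans l6
  have hVL := hVR.trans (hRS.trans l4.le)
  have jS : J[S] = J[T] := thompsonSubgroupOf_eq_of_le (jR.trans hRS) l5
  have njL : L ⊓ N[J[T]] ≤ M := (inf_le_inf_right _ l1).trans nj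
  have m := pMin_of l4 (l3.mono l6 (le_inf l4.le (l5.trans u.le))) fun e => l2 ((le_inf le_rfl
    (e.trans (jS ▸ normalizer_le_normalizer_thompsonSubgroupOf S))).trans njL)
  have ch := chP_iff.2 (hH.of_oP_le l1 (le_sup_right.trans (l6.trans l4.le)))
  have nj' := norm_sub (Y := J[S.subgroupOf L]) (by
    rw [map_thompsonSubgroupOf _ L.subtype_injective, map_subgroupOf_eq_of_le l4.le, jS]) njL
  have b0 : B[T] ≠ ⊥ := fun e => j0 (le_bot_iff.1 (jE.le.trans ((Foc3.J_le_baum T).trans e.le)))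
  by_cases hz : centralizer (vz 2 L : Set L) ≤ M.subgroupOf L
  · obtain ⟨U, a1, a2, a3, a4⟩ := push_pm h hH hTH l1 l4.le (pm_of m ch hz nj')
      (bE S hRS l5 ▸ hT.trans nB) (bE S hRS l5 ▸ (inf_le_inf_right _ l1).trans (key _ bR b0 nB))
    rw [bE S hRS l5] at a1 a3
    exact a4 ((inf_le_inf_right _ l1).trans (key U (a1.trans bR) a2 (nB.trans a3)))
  have sub : ∀ {X Y : Subgroup G}, Y ≤ L → X ≤ N[Y] →
      X.subgroupOf L ≤ normalizer (Y.subgroupOf L : Set L) := fun a b => by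
    rw [← subgroupOf_normalizer_eq a]; exact comap_mono b
  have hV' := Th.elemAb_subgroupOf hV L
  have nV := sub hVL (l5.trans (hT.trans hn))
  have eS : (S.subgroupOf L).map L.subtype ≤ M₀ := (map_comap_le _ _).trans (l5.trans hT)
  have eV := map_subgroupOf_eq_of_le hVL
  by_cases hVQ : V.subgroupOf L ≤ pCore 2 L
  · refine h3 (eV ▸ quad_map L.subtype_injective eS (quad_case m hV' hVQ nV (fun e => l2 ?_)
      (m.res_le le_normalizer_of_normal hz) nj'))
    exact (le_inf l1 (le_normalizer_of_normal_subgroupOf hVL)).trans (key V hVR hV1 hn)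
  have hQL : pCoreOf 2 H ≤ pCoreOf 2 L := oP_le_oP_of_le l1 (le_sup_right.trans (l6.trans l4.le))
  have hOS := oP_le_sylIn l4
  refine h2 (fun e => hVQ (oP_subgroupOf (p := 2) L ▸ comap_mono (e.trans hQL)))
    (eV ▸ cubic_map L.subtype_injective eS (cubic_case m ch (R := R.subgroupOf L) ?_ hV'
      (comap_mono hVR) (fun x hx y hy => Subtype.ext (hRV hx y hy)) (comap_mono hRS) nV
      (sub (hRS.trans l4.le) (l5.trans (hT.trans hR))) ?_ hVQ))
  · have := (l3.mono (Y' := R ⊔ pCoreOf 2 L) (sup_le_sup_left hQL R)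
      ((sup_le hRS hOS).trans (le_inf l4.le (l5.trans u.le)))).subgroupOf
    rwa [subgroupOf_sup (hRS.trans l4.le) (oP_le L), oP_subgroupOf, inf_subgroupOf_left] at this
  · have e : pCoreOf 2 L ⊓ R = pCoreOf 2 L ⊓ E := by
      rw [← eE, ← inf_assoc, inf_eq_left.2 (hOS.trans l5)]
    rw [← oP_subgroupOf, ← inf_subgroupOf_left M L]
    exact (sub (inf_le_left.trans (oP_le L)) (e ▸ le_normalizer_inf
      (inf_le_left.trans (oP_normal L)) (inf_le_right.trans hE)) :)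

end CL.QP
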