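/-
Subgroups of symmetric groups containing three-cycles; overgroups with quasisimple `F*`.
-/
import Mathlib
import Cfsg.Agent.KSG.AltGlue
import Cfsg.Agent.KSG.AltEight
import Cfsg.Agent.SIG.FStar
import Cfsg.Agent.TECH.MiscSyl

set_option autoImplicit false
set_option linter.unusedSectionVars false

namespace CL.AltOver

open Equiv Equiv.Perm Subgroup CL.KSG CL.Misc CL.Comp Cfsg

variable {α : Type*} [Fintype α] [DecidableEq α]

theorem tri_fst {a b c : α} (hab : a ≠ b) (hbc : b ≠ c) : tri a b c a = b := by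
  simp [tri, swap_apply_of_ne_of_ne hab.symm hbc]

theorem tri_snd (a b c : α) : tri a b c b = c := by simp [tri]

theorem tri_thd {a b c : α} (hac : a ≠ c) (hbc : b ≠ c) : tri a b c c = a := by
  simp [tri, swap_apply_of_ne_of_ne hac.symm hbc.symm]

theorem tri_other {a b c x : α} (ha : x ≠ a) (hb : x ≠ b) (hc : x ≠ c) : tri a b c x = x := by
  simp [tri, swap_apply_of_ne_of_ne, *]

theorem tri_rot {a b c : α} (hab : a ≠ b) (hac : a ≠ c) (hbc : b ≠ c) : tri b c a = tri a b c := by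
  ext x
  simp only [tri, coe_mul, Function.comp_apply, swap_apply_def]
  grind

theorem isThreeCycle_tri {a b c : α} (hab : a ≠ b) (hac : a ≠ c) (hbc : b ≠ c) :
    (tri a b c).IsThreeCycle := isThreeCycle_swap_mul_swap_same hac hab hbc.symm

theorem eq_tri {c : Perm α} (hc : c.IsThreeCycle) {a : α} (ha : c a ≠ a) :
    c = tri a (c a) (c (c a)) := by
  obtain ⟨h1, h2, h3⟩ := threeCycle_data hc ha
  have h4 : c (c a) ≠ c a := fun h => ha (c.injective h)
  ext x
  by_cases hx : x = a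
  · rw [hx, tri_fst ha.symm h4.symm]
  by_cases hx2 : x = c a
  · rw [hx2, tri_snd]
  by_cases hx3 : x = c (c a)
  · rw [hx3, tri_thd h2.symm h4.symm, h1]
  · rw [tri_other hx hx2 hx3]
    rcases h3 x with h | h | h | h <;> tauto

/-- The three-cycle `(a b c)` lies in `H`. -/
def Tr (H : Subgroup (Perm α)) (a b c : α) : Prop := a ≠ b ∧ a ≠ c ∧ b ≠ c ∧ tri a b c ∈ H

variable {H : Subgroup (Perm α)} {a b c : α}

theorem Tr.rot (h : Tr H a b c) : Tr H b c a :=
  ⟨h.2.2.1, h.1.symm, h.2.1.symm, by rw [tri_rot h.1 h.2.1 h.2.2.1]; exact h.2.2.2⟩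

theorem Tr.swap (h : Tr H a b c) : Tr H b a c :=
  ⟨h.1.symm, h.2.2.1, h.2.1, by
    rw [tri_swap h.1 h.2.1.symm h.2.2.1.symm]; exact inv_mem h.2.2.2⟩

theorem Tr.conj' (h : Tr H a b c) {g : Perm α} (hg : g ∈ normalizer (H : Set (Perm α))) :
    Tr H (g a) (g b) (g c) :=
  ⟨g.injective.ne h.1, g.injective.ne h.2.1, g.injective.ne h.2.2.1, by
    rw [← conj_tri]; exact (mem_normalizer_iff.1 hg _).1 h.2.2.2⟩

theorem Tr.conj (h : Tr H a b c) {g : Perm α} (hg : g ∈ H) : Tr H (g a) (g b) (g c) :=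
  h.conj' (le_normalizer hg)

theorem Tr.mono (h : Tr H a b c) {K : Subgroup (Perm α)} (hK : H ≤ K) : Tr K a b c :=
  ⟨h.1, h.2.1, h.2.2.1, hK h.2.2.2⟩

theorem tr_of_isThreeCycle {c : Perm α} (hc : c.IsThreeCycle) (hH : c ∈ H) {a : α} (ha : c a ≠ a) :
    Tr H a (c a) (c (c a)) :=
  ⟨ha.symm, (threeCycle_data hc ha).2.1.symm, fun h => ha (c.injective h.symm),
    by rw [← eq_tri hc ha]; exact hH⟩

theorem tr_of_altOn_le {S : Finset α} (hS : altOn S ≤ H) (ha : a ∈ S) (hb : b ∈ S) (hc : c ∈ S)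
    (hab : a ≠ b) (hac : a ≠ c) (hbc : b ≠ c) : Tr H a b c :=
  ⟨hab, hac, hbc, hS (tri_mem_altOn hab hac.symm ha hb hc)⟩

/-- Two points are joined by a three-cycle of `H`. -/
def R (H : Subgroup (Perm α)) (a b : α) : Prop := a = b ∨ ∃ c, Tr H a b c

theorem R.refl (a : α) : R H a a := Or.inl rfl

theorem R.symm (h : R H a b) : R H b a := by
  rcases h with h | ⟨c, h⟩
  · exact Or.inl h.symm
  · exact Or.inr ⟨c, h.swap⟩

theorem Tr.r12 (h : Tr H a b c) : R H a b := Or.inr ⟨c, h⟩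

theorem Tr.r13 (h : Tr H a b c) : R H a c := h.rot.rot.r12.symm

theorem R.trans (h : R H a b) (h' : R H b c) : R H a c := by
  rcases h with rfl | ⟨x, h⟩
  · exact h'
  rcases h' with rfl | ⟨y, h'⟩
  · exact h.r12
  by_cases hac : a = c
  · exact Or.inl hac
  by_cases hay : a = y
  · subst hay
    exact h'.rot.r12.symm
  · have := h.conj h'.2.2.2
    rw [tri_other h.1 hac hay, tri_fst h'.1 h'.2.2.1] at this
    exact this.r12

theorem R.conj' (h : R H a b) {g : Perm α} (hg : g ∈ normalizer (H : Set (Perm α))) :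
    R H (g a) (g b) := by
  rcases h with rfl | ⟨x, h⟩
  · exact R.refl _
  · exact (h.conj' hg).r12

theorem R.conj (h : R H a b) {g : Perm α} (hg : g ∈ H) : R H (g a) (g b) :=
  h.conj' (le_normalizer hg)

theorem R.mono (h : R H a b) {K : Subgroup (Perm α)} (hK : H ≤ K) : R K a b := by
  rcases h with rfl | ⟨x, h⟩
  · exact R.refl _
  · exact (h.mono hK).r12

theorem tr_of_r (hab : a ≠ b) (hac : a ≠ c) (hbc : b ≠ c) (h : R H a b) (h' : R H a c) :
    Tr H a b c := by
  rcases h with h | ⟨x, h⟩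
  · exact absurd h hab
  by_cases hxc : x = c
  · exact hxc ▸ h
  rcases h.r13.symm.trans h' with h1 | ⟨y, h1⟩
  · exact absurd h1 hxc
  by_cases hya : y = a
  · subst hya
    have := h.conj h1.swap.2.2.2
    rw [tri_thd h1.2.2.1 h1.2.1, tri_snd, tri_other hbc h.2.2.1 hab.symm] at this
    exact this.swap.rot.rot
  by_cases hyb : y = b
  · subst hyb
    have := h.conj h1.swap.2.2.2
    rw [tri_thd h1.2.2.1 h1.2.1, tri_snd, tri_other hac h.2.1 hab] at this
    exact this.swap.rot
  · have := h.conj h1.2.2.2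
    rwa [tri_fst h1.1 h1.2.2.1, tri_other h.2.1 hac (Ne.symm hya),
      tri_other h.2.2.1 hbc (Ne.symm hyb)] at this

theorem altOn_le {S : Finset α} (h : ∀ a ∈ S, ∀ b ∈ S, R H a b) : altOn S ≤ H := by
  by_cases h2 : S.card ≤ 2
  · rw [altOn_eq_bot h2]; exact bot_le
  obtain ⟨a, ha, b, hb, hab⟩ := Finset.one_lt_card.1 (show 1 < S.card by omega)
  exact altOn_le_of_star hab ha hb fun i hi hia hib =>
    (tr_of_r hab hia.symm hib.symm (h a ha b hb) (h a ha i hi)).2.2.2

theorem r_of_altOn_le {S : Finset α} (hS : altOn S ≤ H) (h3 : 3 ≤ S.card) (ha : a ∈ S)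
    (hb : b ∈ S) : R H a b := by
  by_cases hab : a = b
  · exact Or.inl hab
  obtain ⟨c, hc, hc'⟩ : ∃ c ∈ S, c ∉ ({a, b} : Finset α) := by
    by_contra hcon
    push Not at hcon
    have := Finset.card_le_card (show S ⊆ {a, b} from hcon)
    have := Finset.card_le_two (a := a) (b := b)
    omega
  simp only [Finset.mem_insert, Finset.mem_singleton, not_or] at hc'
  exact (tr_of_altOn_le hS ha hb hc hab (Ne.symm hc'.1) (Ne.symm hc'.2)).r12

theorem alt_le_of_r (h : ∀ a b, R H a b) : alternatingGroup α ≤ H := by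
  rw [← altOn_univ]; exact altOn_le fun a _ b _ => h a b

/-- a subgroup preserving `S` normalises `altOn S` -/
theorem le_normalizer_altOn {L : Subgroup (Perm α)} {S : Finset α}
    (h : ∀ g ∈ L, ∀ x ∈ S, g x ∈ S) : L ≤ normalizer (altOn S : Set (Perm α)) := fun g hg =>
  mem_normalizer_fintype fun _ hx => conj_mem_altOn (h g hg) hx

theorem mem_iff_of_invariant {L : Subgroup (Perm α)} {S : Finset α}
    (h : ∀ g ∈ L, ∀ x ∈ S, g x ∈ S) {g : Perm α} (hg : g ∈ L) (x : α) : g x ∈ S ↔ x ∈ S :=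
  ⟨fun hx => by simpa using h _ (inv_mem hg) _ hx, h g hg x⟩

/-- restriction to an invariant subset -/
def res (L : Subgroup (Perm α)) (S : Finset α) (h : ∀ g ∈ L, ∀ x ∈ S, g x ∈ S) : L →* Perm S :=
  MonoidHom.mk' (fun g => g.1.subtypePerm fun x => mem_iff_of_invariant h g.2 x) fun _ _ => rfl

theorem fix_of_perfect {L : Subgroup (Perm α)} (hL : ⁅L, L⁆ = L) {S : Finset α} (hS : S.card ≤ 4)
    (h : ∀ g ∈ L, ∀ x ∈ S, g x ∈ S) {g : Perm α} (hg : g ∈ L) {x : α} (hx : x ∈ S) : g x = x := by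
  have h1 : Group.IsSolvable (Perm S) := isSolvable_of_card_dvd (p := 2) (q := 3) (a := 3) (b := 1)
    Nat.prime_two Nat.prime_three (by
      rw [Nat.card_perm, Nat.card_eq_fintype_card, Fintype.card_coe]
      exact Nat.factorial_dvd_factorial hS)
  have h2 : ⁅(⊤ : Subgroup L), (⊤ : Subgroup L)⁆ = ⊤ := by
    apply map_injective L.subtype_injective
    rw [map_commutator, ← MonoidHom.range_eq_map, range_subtype, hL]
  have h3 : (res L S h).range = ⊥ := eq_bot_of_perfect_of_isSolvable (by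
    rw [MonoidHom.range_eq_map, ← map_commutator, h2]) inferInstance
  have h4 : res L S h ⟨g, hg⟩ = 1 := mem_bot.1 (h3 ▸ ⟨_, rfl⟩)
  exact congrArg Subtype.val (Equiv.congr_fun h4 ⟨x, hx⟩)

section FS

variable (hF : IsQuasisimple (fstarOf H))
include hF

theorem le_or_le_centralizer {K : Subgroup (Perm α)} (hKH : K ≤ H)
    (hn : fstarOf H ≤ normalizer (K : Set (Perm α))) :
    fstarOf H ≤ K ∨ K ≤ centralizer (fstarOf H : Set (Perm α)) := by
  refine (hF.le_or_inf_le_centralizer hn).imp_right fun h => ?_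
  rw [← commutator_eq_bot_iff_le_centralizer]
  apply commutator_eq_bot_of_perfect hF.commutator_self
  rw [commutator_eq_bot_iff_le_centralizer]
  refine le_trans (le_inf ?_ ?_) h
  · exact le_normalizer_iff_commutator_le_left.1 hn
  · exact le_normalizer_iff_commutator_le_right.1 (hKH.trans (le_normalizer_fstarOf H))

theorem not_mem_centralizer {z : Perm α} (hz : z ∈ H) (hz1 : z ≠ 1) (h4 : z.support.card ≤ 4) :
    z ∉ centralizer (fstarOf H : Set (Perm α)) := fun hc => by
  have hzL : z ∈ fstarOf H := inf_centralizer_fstarOf_le H ⟨hz, hc⟩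
  obtain ⟨x, hx⟩ : ∃ x, z x ≠ x := by
    by_contra h
    push Not at h
    exact hz1 (Equiv.ext h)
  refine hx (fix_of_perfect hF.commutator_self h4 (fun g hg y hy => ?_) hzL (mem_support.2 hx))
  rw [mem_support] at hy ⊢
  intro h
  apply hy
  apply g.injective
  rw [← h, ← mul_apply, hc g hg, mul_apply, h]

theorem le_of_mem {K : Subgroup (Perm α)} (hKH : K ≤ H)
    (hn : fstarOf H ≤ normalizer (K : Set (Perm α))) {z : Perm α} (hz : z ∈ K) (hz1 : z ≠ 1)
    (h4 : z.support.card ≤ 4) : fstarOf H ≤ K :=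
  (le_or_le_centralizer hF hKH hn).resolve_right fun h =>
    not_mem_centralizer hF (hKH hz) hz1 h4 (h hz)

/-- If `F*(H)` is quasisimple and `H` contains a three-cycle, `F*(H)` is a full alternating group. -/
theorem exists_eq_altOn (h : Tr H a b c) :
    ∃ Δ : Finset α, 5 ≤ Δ.card ∧ fstarOf H = altOn Δ ∧ ∀ g ∈ H, ∀ x ∈ Δ, g x ∈ Δ := by
  classical
  let K : Subgroup (Perm α) :=
    { carrier := {g | g ∈ H ∧ ∀ x, R H x (g x)}
      one_mem' := ⟨one_mem _, fun x => R.refl x⟩
      mul_mem' := fun hg hk => ⟨mul_mem hg.1 hk.1, fun x => (hk.2 x).trans (hg.2 _)⟩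
      inv_mem' := fun {g} hg => ⟨inv_mem hg.1, fun x => by simpa using (hg.2 (g⁻¹ x)).symm⟩ }
  have hKn : H ≤ normalizer (K : Set (Perm α)) := fun g hg => mem_normalizer_fintype fun k hk =>
    ⟨mul_mem (mul_mem hg hk.1) (inv_mem hg), fun x => by simpa using (hk.2 (g⁻¹ x)).conj hg⟩
  have htri : ∀ {a b c : α}, Tr H a b c → tri a b c ≠ 1 ∧ (tri a b c).support.card ≤ 4 :=
    fun h => ⟨(isThreeCycle_tri h.1 h.2.1 h.2.2.1).ne_one, by
      rw [(isThreeCycle_tri h.1 h.2.1 h.2.2.1).card_support]; norm_num⟩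
  have hLK : fstarOf H ≤ K := le_of_mem hF (fun g hg => hg.1) ((fstarOf_le H).trans hKn)
    (z := tri a b c) ⟨h.2.2.2, fun x => by
      by_cases h1 : x = a
      · rw [h1, tri_fst h.1 h.2.2.1]; exact h.r12
      by_cases h2 : x = b
      · rw [h2, tri_snd]; exact h.rot.r12
      by_cases h3 : x = c
      · rw [h3, tri_thd h.2.1 h.2.2.1]; exact h.rot.rot.r12
      · rw [tri_other h1 h2 h3]; exact R.refl x⟩ (htri h).1 (htri h).2
  have hcls : ∀ {a b c : α}, Tr H a b c → fstarOf H ≤ altOn (Finset.univ.filter (R H a)) := by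
    intro a b c h
    refine le_of_mem hF (altOn_le fun x hx y hy => ?_) (le_normalizer_altOn fun g hg x hx => ?_)
      (tri_mem_altOn h.1 h.2.1.symm ?_ ?_ ?_) (htri h).1 (htri h).2
    · exact (Finset.mem_filter.1 hx).2.symm.trans (Finset.mem_filter.1 hy).2
    · exact Finset.mem_filter.2 ⟨Finset.mem_univ _, (Finset.mem_filter.1 hx).2.trans
        ((hLK hg).2 x)⟩
    · simpa using R.refl a
    · simpa using h.r12
    · simpa using h.r13
  set Δ := Finset.univ.filter (R H a) with hΔ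
  have hL := hcls h
  have hΔH : altOn Δ ≤ H := altOn_le fun x hx y hy =>
    (Finset.mem_filter.1 hx).2.symm.trans (Finset.mem_filter.1 hy).2
  obtain ⟨z, hz, hz1⟩ := (bot_or_exists_ne_one _).resolve_left hF.ne_bot
  obtain ⟨x, hx⟩ : ∃ x, z x ≠ x := by
    by_contra h
    push Not at h
    exact hz1 (Equiv.ext h)
  have hxΔ : ∀ {a b c : α}, Tr H a b c → R H a x := fun h => by
    by_contra hr
    exact hx (mem_permOn.1 (hcls h hz).1 x (by simpa using hr))
  have h5 : 5 ≤ Δ.card := by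
    by_contra h5
    exact hx (fix_of_perfect hF.commutator_self (S := Δ) (by omega)
      (fun g hg y hy => apply_mem_of_mem_permOn (hL hg).1 hy) hz (by simpa [hΔ] using hxΔ h))
  refine ⟨Δ, h5, le_antisymm hL ?_, fun g hg y hy => ?_⟩
  · have e : altOn Δ ≃* alternatingGroup Δ := by
      refine (MulEquiv.subgroupCongr ?_).trans
        (equivMapOfInjective (alternatingGroup Δ) ofSubtype ofSubtype_injective).symm
      rw [altOn, permOn, alternatingGroup.map_ofSubtype]
    have : IsSimpleGroup (alternatingGroup Δ) := alternatingGroup.isSimpleGroup (by simpa using h5)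
    have : IsSimpleGroup (altOn Δ) := e.isSimpleGroup
    have hn : ((fstarOf H).subgroupOf (altOn Δ)).Normal :=
      (normal_subgroupOf_iff_le_normalizer hL).2 (hΔH.trans (le_normalizer_fstarOf H))
    rcases hn.eq_bot_or_eq_top with h1 | h1
    · have h2 : (⟨z, hL hz⟩ : altOn Δ) ∈ (fstarOf H).subgroupOf (altOn Δ) := hz
      rw [h1, mem_bot] at h2
      exact absurd (congrArg Subtype.val h2) hz1
    · exact subgroupOf_eq_top.1 h1
  · rw [hΔ, Finset.mem_filter] at hy ⊢
    exact ⟨Finset.mem_univ _, ((hxΔ h).trans (hxΔ (h.conj hg)).symm).trans (hy.2.conj hg)⟩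

end FS

theorem nonempty_altOn_equiv (S : Finset α) :
    Nonempty (altOn S ≃* alternatingGroup (Fin S.card)) := by
  have e : altOn S ≃* alternatingGroup S := by
    refine (MulEquiv.subgroupCongr ?_).trans
      (equivMapOfInjective (alternatingGroup S) ofSubtype ofSubtype_injective).symm
    rw [altOn, permOn, alternatingGroup.map_ofSubtype]
  exact ⟨e.trans S.equivFin.altCongrHom⟩

/-- A Sylow subgroup leaving `F` invariant contains a conjugate of every `p`-element of `Alt(F)`. -/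
theorem exists_conj_mem {p : ℕ} [Fact p.Prime] {P A : Subgroup (Perm α)} (hP : SylIn p P A)
    (hA : alternatingGroup α ≤ A) {F : Finset α} (hF : ∀ g ∈ P, ∀ x ∈ F, g x ∈ F) {c : Perm α}
    (hc : c ∈ altOn F) (hp : orderOf c = p) : ∃ g ∈ altOn F, g * c * g⁻¹ ∈ P := by
  have h1 : SylIn p P (P ⊔ altOn F) := hP.mono le_sup_left (sup_le hP.le (inf_le_right.trans hA))
  have h2 := h1.inf_normal le_sup_right (sup_le (le_normalizer_altOn hF) le_normalizer)
  obtain ⟨g, hg, h3⟩ := h2.exists_conj_le (Q := zpowers c)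
    (isPGroup_zpowers_of_orderOf (n := 1) (by rw [hp, pow_one])) (zpowers_le.2 hc)
  exact ⟨g, hg, (h3 c (mem_zpowers c)).1⟩

theorem not_mem_centralizer_altOn {Δ F : Finset α} (h : Disjoint F Δ) {z : Perm α}
    (hz : z ∈ permOn F) : z ∈ centralizer (altOn Δ : Set (Perm α)) := fun _ hg =>
  (commute_of_mem_permOn h hz hg.1).symm

end CL.AltOver
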