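import Cfsg.Agent.S3061
import Cfsg.Agent.TECH.IsolZ
import Cfsg.Agent.PLOC.ThompsonA
import Cfsg.Agent.SIG.Quasisimple

/-! # Thompson's replacement lemma for a single element, and the subgroup `D*(S)` -/

namespace CL.DStar

open Cfsg CL.ThA
open scoped commutatorElement

variable {G : Type*} [Group G]

theorem comm_of {A : Subgroup G} (hA : IsMulCommutative A) {a b : G} (ha : a ∈ A) (hb : b ∈ A) :
    a * b = b * a := setLike_mul_comm ha hb

/-- Thompson's lemma: if the commutators `[a, x]`, `a ∈ A`, lie in an abelian subgroup then,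
with `M` the subgroup they generate, `M C_A(M)` is at least as large as `A`. -/
theorem card_le_card_sup [Finite G] {A V : Subgroup G} (hA : IsMulCommutative A)
    (hV : IsMulCommutative V) {x : G} (hx : ∀ a ∈ A, ⁅a, x⁆ ∈ V) :
    Nat.card A ≤ Nat.card ↥(Subgroup.closure {y | ∃ a ∈ A, ⁅a, x⁆ = y} ⊔
      A ⊓ Subgroup.centralizer ((Subgroup.closure {y | ∃ a ∈ A, ⁅a, x⁆ = y} : Subgroup G) : Set G)) := by
  set M := Subgroup.closure {y | ∃ a ∈ A, ⁅a, x⁆ = y} with hM
  set C := A ⊓ Subgroup.centralizer (M : Set G) with hC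
  have hmem : ∀ a ∈ A, ⁅a, x⁆ ∈ M := fun a ha => Subgroup.subset_closure ⟨a, ha, rfl⟩
  have hMV : M ≤ V := (Subgroup.closure_le _).2 (by rintro _ ⟨a, ha, rfl⟩; exact hx a ha)
  have key : ∀ u ∈ A, ∀ v ∈ A, ⁅u, x⁆⁻¹ * ⁅v, x⁆ ∈ Subgroup.centralizer (A : Set G) →
      u⁻¹ * v ∈ C := by
    intro u hu v hv h
    have hw : u⁻¹ * v ∈ A := mul_mem (inv_mem hu) hv
    rw [comm_of hV (inv_mem (hx u hu)) (hx v hv)] at h
    have h1 : ⁅u⁻¹ * v, x⁆ = ⁅v, x⁆ * ⁅u, x⁆⁻¹ := by
      calc ⁅u⁻¹ * v, x⁆ = u⁻¹ * (⁅v, x⁆ * ⁅u, x⁆⁻¹) * u := by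
            simp only [commutatorElement_def]; group
        _ = u⁻¹ * (u * (⁅v, x⁆ * ⁅u, x⁆⁻¹)) := by rw [mul_assoc, h u hu]
        _ = _ := by group
    rw [← h1] at h
    generalize u⁻¹ * v = w at hw h
    refine ⟨hw, ?_⟩
    have : M ≤ Subgroup.centralizer ({w} : Set G) := by
      refine (Subgroup.closure_le _).2 ?_
      rintro _ ⟨a, ha, rfl⟩
      refine Subgroup.mem_centralizer_singleton_iff.2 ?_
      have e1 : ⁅a * w, x⁆ = ⁅a, x⁆ * ⁅w, x⁆ := by
        calc ⁅a * w, x⁆ = (a * ⁅w, x⁆) * a⁻¹ * ⁅a, x⁆ := by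
              simp only [commutatorElement_def]; group
          _ = ⁅w, x⁆ * ⁅a, x⁆ := by rw [h a ha]; group
          _ = _ := comm_of hV (hx w hw) (hx a ha)
      have e2 : ⁅w * a, x⁆ = w * ⁅a, x⁆ * w⁻¹ * ⁅w, x⁆ := by
        simp only [commutatorElement_def]; group
      rw [comm_of hA ha hw, e2] at e1
      have e3 := mul_right_cancel e1
      rw [mul_inv_eq_iff_eq_mul] at e3
      exact e3.symm
    intro m hm
    exact Subgroup.mem_centralizer_singleton_iff.1 (this hm)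
  have hidx : C.relIndex A ≤ (Subgroup.centralizer (A : Set G)).relIndex M := by
    refine Nat.card_le_card_of_injective (fun q : A ⧸ C.subgroupOf A =>
      ((⟨⁅(q.out : G), x⁆, hmem _ q.out.2⟩ : M) :
        M ⧸ (Subgroup.centralizer (A : Set G)).subgroupOf M)) fun q r e => ?_
    rw [← q.out_eq, ← r.out_eq]
    have e' := QuotientGroup.eq.1 e
    exact QuotientGroup.eq.2 (key _ q.out.2 _ r.out.2 e')
  have hMC : M ≤ Subgroup.normalizer (C : Set G) := by
    refine le_trans ?_ (Subgroup.centralizer_le_normalizer _)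
    rw [Subgroup.le_centralizer_iff]
    exact inf_le_right
  have h1 := CL.card_sup_mul_card_inf_of_le_normalizer hMC
  have h2 := CL.card_mul_relIndex_of_le (show C ≤ A from inf_le_left)
  have h3 := CL.card_inf_mul_relIndex (Subgroup.centralizer (A : Set G)) M
  have h4 : Nat.card ↥(M ⊓ C) ≤ Nat.card ↥(Subgroup.centralizer (A : Set G) ⊓ M) :=
    Subgroup.card_le_of_le (le_inf (inf_le_right.trans (inf_le_left.trans
      (Subgroup.le_centralizer A))) inf_le_left)
  have h5 : 0 < Nat.card ↥(M ⊓ C) := Nat.card_pos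
  refine Nat.le_of_mul_le_mul_right ?_ h5
  rw [h1, ← h2, ← h3]
  calc Nat.card C * C.relIndex A * Nat.card ↥(M ⊓ C)
      ≤ Nat.card C * (Subgroup.centralizer (A : Set G)).relIndex M *
        Nat.card ↥(Subgroup.centralizer (A : Set G) ⊓ M) := by gcongr
    _ = _ := by ring

/-- Repeated replacement inside a subgroup `K`. -/
theorem exists_maxAbIn_normalized [Finite G] {P K V A : Subgroup G} (hA : A ∈ maxAbIn P)
    (hAK : A ≤ K) (hKP : K ≤ P) (hV : IsMulCommutative V) {X : Set G}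
    (hX : ∀ x ∈ X, ∀ k ∈ K, ⁅k, x⁆ ∈ V ⊓ K) :
    ∃ B ∈ maxAbIn P, B ≤ K ∧ ∀ x ∈ X, ∀ b ∈ B, ⁅b, x⁆ ∈ B := by
  obtain ⟨B, ⟨hB, hBK⟩, hmax⟩ := (Set.toFinite {B | B ∈ maxAbIn P ∧ B ≤ K}).exists_maximalFor
    (fun B => B ⊓ V) _ ⟨A, hA, hAK⟩
  refine ⟨B, hB, hBK, fun x hx b hb => ?_⟩
  have h1 := card_le_card_sup hB.2.1 hV (x := x) fun a ha => (hX x hx a (hBK ha)).1
  set M := Subgroup.closure {y | ∃ a ∈ B, ⁅a, x⁆ = y} with hM
  have hMV : M ≤ V ⊓ K :=
    (Subgroup.closure_le _).2 (by rintro _ ⟨a, ha, rfl⟩; exact hX x hx a (hBK ha))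
  have hK' : M ⊔ B ⊓ Subgroup.centralizer (M : Set G) ≤ K :=
    sup_le (hMV.trans inf_le_right) (inf_le_left.trans hBK)
  have h2 : M ⊔ B ⊓ Subgroup.centralizer (M : Set G) ∈ maxAbIn P := by
    refine mem_maxAbIn_of_card_le hB (hK'.trans hKP) (comm_sup
      (CL.isMulCommutative_of_le hV (hMV.trans inf_le_left))
      (CL.isMulCommutative_of_le hB.2.1 inf_le_left) ?_) h1
    rw [Subgroup.le_centralizer_iff]
    exact inf_le_right
  have h3 := hmax ⟨h2, hK'⟩ (le_inf (le_sup_of_le_right (le_inf inf_le_left (inf_le_right.trans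
    ((Subgroup.le_centralizer V).trans (Subgroup.centralizer_le (hMV.trans inf_le_left))))))
    inf_le_right)
  have h4 : ⁅b, x⁆ ∈ M := Subgroup.subset_closure ⟨b, hb, rfl⟩
  exact (h3 ⟨Subgroup.mem_sup_left h4, (hMV h4).1⟩).1

theorem class_two_of {A X : Subgroup G} (hA : IsMulCommutative A) (hX : IsMulCommutative X)
    (h1 : ⁅A, X⁆ ≤ Subgroup.centralizer (A : Set G))
    (h2 : ⁅A, X⁆ ≤ Subgroup.centralizer (X : Set G)) : ⁅⁅A ⊔ X, A ⊔ X⁆, A ⊔ X⁆ = ⊥ := by
  set Z := Subgroup.centralizer (A : Set G) ⊓ Subgroup.centralizer (X : Set G) with hZ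
  have hAZ : A ≤ Subgroup.centralizer (Z : Set G) := by
    rw [Subgroup.le_centralizer_iff]; exact inf_le_left
  have hXZ : X ≤ Subgroup.centralizer (Z : Set G) := by
    rw [Subgroup.le_centralizer_iff]; exact inf_le_right
  have hAn := hAZ.trans (Subgroup.centralizer_le_normalizer _)
  have hXn := hXZ.trans (Subgroup.centralizer_le_normalizer _)
  have hAA : ⁅A, A⁆ = ⊥ :=
    Subgroup.commutator_eq_bot_iff_le_centralizer.2 (Subgroup.le_centralizer A)
  have hXX : ⁅X, X⁆ = ⊥ :=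
    Subgroup.commutator_eq_bot_iff_le_centralizer.2 (Subgroup.le_centralizer X)
  have h3 : ⁅A ⊔ X, A ⊔ X⁆ ≤ Z := by
    refine CL.Comp.sup_commutator_le hAn hXn (CL.Comp.commutator_sup_le hAn hXn ?_ (le_inf h1 h2))
      (CL.Comp.commutator_sup_le hAn hXn ?_ ?_)
    · rw [hAA]; exact bot_le
    · rw [Subgroup.commutator_comm]; exact le_inf h1 h2
    · rw [hXX]; exact bot_le
  rw [Subgroup.commutator_comm, Subgroup.commutator_eq_bot_iff_le_centralizer]
  exact (sup_le hAZ hXZ).trans (Subgroup.centralizer_le h3)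

/-- The family behind `D*(S)`, in an ambient group. -/
def DFam (S A : Subgroup G) : Prop :=
  A ≤ S ∧ IsMulCommutative A ∧ ∀ x ∈ S,
    ⁅⁅A ⊔ Subgroup.zpowers x, A ⊔ Subgroup.zpowers x⁆, A ⊔ Subgroup.zpowers x⁆ = ⊥ →
      ∀ a ∈ A, a * x = x * a

theorem dFam_map_iff {S : Subgroup G} {A : Subgroup S} :
    DFam S (A.map S.subtype) ↔ A ∈ dStarFamily S := by
  have key : ∀ x : S, ⁅⁅A.map S.subtype ⊔ Subgroup.zpowers (x : G),
      A.map S.subtype ⊔ Subgroup.zpowers (x : G)⁆, A.map S.subtype ⊔ Subgroup.zpowers (x : G)⁆ = ⊥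
      ↔ ⁅⁅A ⊔ Subgroup.zpowers x, A ⊔ Subgroup.zpowers x⁆, A ⊔ Subgroup.zpowers x⁆ = ⊥ := by
    intro x
    have : A.map S.subtype ⊔ Subgroup.zpowers (x : G) = (A ⊔ Subgroup.zpowers x).map S.subtype := by
      rw [Subgroup.map_sup, MonoidHom.map_zpowers]; rfl
    rw [this, ← Subgroup.map_commutator, ← Subgroup.map_commutator,
      Subgroup.map_eq_bot_iff_of_injective _ S.subtype_injective]
  constructor
  · rintro ⟨-, h1, h2⟩
    refine ⟨⟨⟨fun a b => Subtype.ext (Subtype.ext ?_)⟩⟩, fun x hx a ha => Subtype.ext ?_⟩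
    · exact comm_of h1 ⟨a, a.2, rfl⟩ ⟨b, b.2, rfl⟩
    · exact h2 x x.2 ((key x).2 hx) a ⟨a, ha, rfl⟩
  · rintro ⟨h1, h2⟩
    refine ⟨Subgroup.map_subtype_le A, inferInstance, ?_⟩
    rintro x hx h _ ⟨a, ha, rfl⟩
    exact congrArg Subtype.val (h2 ⟨x, hx⟩ ((key ⟨x, hx⟩).1 h) a ha)

theorem DFam.le_dStarOf {S A : Subgroup G} (h : DFam S A) : A ≤ dStarOf S := by
  have e : (A.subgroupOf S).map S.subtype = A := Subgroup.map_subgroupOf_eq_of_le h.1
  rw [← e] at h ⊢
  exact Subgroup.map_mono (le_sSup (dFam_map_iff.1 h))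

theorem dFam_dStarOf [Finite G] {p : ℕ} [Fact p.Prime] {S : Subgroup G} (hS : IsPGroup p S) :
    DFam S (dStarOf S) := dFam_map_iff.2 (Cfsg.Agent.S3061.result hS)

instance dStar_normal : (dStar G).Normal := by
  refine ⟨fun n hn g => ?_⟩
  have : (dStar G).map (MulAut.conj g).toMonoidHom ≤ dStar G := by
    rw [dStar, Subgroup.map_le_iff_le_comap, sSup_le_iff]
    intro A hA
    rw [← Subgroup.map_le_iff_le_comap]
    exact le_sSup (Cfsg.Agent.S3061.conj_mem hA g)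
  exact this ⟨n, hn, rfl⟩

theorem le_normalizer_dStarOf (S : Subgroup G) : S ≤ Subgroup.normalizer (dStarOf S : Set G) :=
  CL.le_normalizer_map_subtype S _

/-- An element of `S` normalizing a member of the family and acting quadratically on it
centralizes it. -/
theorem DFam.mem_centralizer {S A : Subgroup G} (h : DFam S A) {x : G} (hx : x ∈ S)
    (hn : x ∈ Subgroup.normalizer (A : Set G))
    (hq : ⁅⁅A, Subgroup.zpowers x⁆, Subgroup.zpowers x⁆ = ⊥) :
    x ∈ Subgroup.centralizer (A : Set G) := by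
  have := h.2.1
  exact h.2.2 x hx (class_two_of h.2.1 inferInstance
    ((Subgroup.le_normalizer_iff_commutator_le_left.1 (Subgroup.zpowers_le.2 hn)).trans
      (Subgroup.le_centralizer A)) (Subgroup.commutator_eq_bot_iff_le_centralizer.1 hq))

theorem DFam.le_centralizer {S A B : Subgroup G} (h : DFam S A) (hBS : B ≤ S)
    (hB : IsMulCommutative B) (hBA : B ≤ Subgroup.normalizer (A : Set G))
    (hAB : A ≤ Subgroup.normalizer (B : Set G)) : B ≤ Subgroup.centralizer (A : Set G) := by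
  intro b hb
  refine h.mem_centralizer (hBS hb) (hBA hb) ?_
  rw [Subgroup.commutator_eq_bot_iff_le_centralizer]
  exact ((Subgroup.commutator_mono le_rfl (Subgroup.zpowers_le.2 hb)).trans
    (Subgroup.le_normalizer_iff_commutator_le_right.1 hAB)).trans
    ((Subgroup.le_centralizer B).trans (Subgroup.centralizer_le (Subgroup.zpowers_le.2 hb)))

theorem dFam_top_iff {A : Subgroup G} : DFam ⊤ A ↔ A ∈ dStarFamily G :=
  ⟨fun h => ⟨h.2.1, fun x => h.2.2 x trivial⟩, fun h => ⟨le_top, h.1, fun x _ => h.2 x⟩⟩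

/-- A member of the family which is normal in the `p`-group `S` lies in every abelian subgroup
of `S` of largest order. -/
theorem DFam.le_of_mem_maxAbIn [Finite G] {p : ℕ} [Fact p.Prime] {S D A : Subgroup G}
    (hS : IsPGroup p S) (h : DFam S D) (hn : S ≤ Subgroup.normalizer (D : Set G))
    (hA : A ∈ maxAbIn S) : D ≤ A := by
  have hD := h.2.1
  have hAD : A ≤ Subgroup.normalizer (D : Set G) := hA.1.trans hn
  have hT : ⁅A, D⁆ ≤ D := Subgroup.le_normalizer_iff_commutator_le_right.1 hAD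
  have hTc : D ≤ Subgroup.centralizer ((⁅A, D⁆ : Subgroup G) : Set G) :=
    (Subgroup.le_centralizer D).trans (Subgroup.centralizer_le hT)
  have hAT : A ≤ Subgroup.normalizer ((⁅A, D⁆ : Subgroup G) : Set G) :=
    CL.le_normalizer_commutator Subgroup.le_normalizer hAD
  have hK : ⁅A ⊔ ⁅A, D⁆, D⁆ ≤ ⁅A, D⁆ := by
    refine CL.Comp.sup_commutator_le hAT Subgroup.le_normalizer le_rfl ?_
    rw [Subgroup.commutator_comm ⁅A, D⁆, Subgroup.commutator_eq_bot_iff_le_centralizer.2 hTc]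
    exact bot_le
  obtain ⟨B, hB, hBK, hBn⟩ := exists_maxAbIn_normalized (K := A ⊔ ⁅A, D⁆) (X := D) hA le_sup_left
    (sup_le hA.1 (hT.trans h.1)) hD (fun d hd k hk => by
      have := hK (Subgroup.commutator_mem_commutator hk hd)
      exact ⟨hT this, Subgroup.mem_sup_right this⟩)
  have h1 : B ≤ Subgroup.centralizer (D : Set G) :=
    h.le_centralizer hB.1 hB.2.1 (hB.1.trans hn)
      (Subgroup.le_normalizer_iff_commutator_le_left.2
        (Subgroup.commutator_le.2 fun b hb d hd => hBn d hd b hb))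
  have h2 : D ≤ B := CL.ThA.le_of_mem_maxAbIn hB h.1 hD (Subgroup.le_centralizer_iff.1 h1)
  have h3 : ⁅D, A⁆ ≤ ⁅⁅A, D⁆, A⁆ := by
    refine CL.commutator_le_of_mul_centralizer fun k hk => ?_
    obtain ⟨s, hs, a, ha, e⟩ := (CL.mem_sup_of_le_normalizer' hAT).1
      (sup_comm A ⁅A, D⁆ ▸ hBK (h2 hk))
    have := hA.2.1
    exact ⟨s, hs, a, Subgroup.le_centralizer A ha, e.symm⟩
  rw [Subgroup.commutator_comm] at h3
  have h4 := CL.eq_bot_of_le_commutator_of_isNilpotent hS.isNilpotent (hT.trans h.1)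
    (h3.trans (Subgroup.commutator_mono le_rfl hA.1))
  rw [Subgroup.commutator_comm, Subgroup.commutator_eq_bot_iff_le_centralizer] at h4
  exact CL.ThA.le_of_mem_maxAbIn hA h.1 hD h4

end CL.DStar
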