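/-
The presented sporadic groups have elements of order four (or collapse to the trivial group).
-/
import Cfsg.Agent.SPOR.CE
import Cfsg.Prelude.Def_Spor_Suz
import Cfsg.Prelude.Def_Spor_Fi22
import Cfsg.Prelude.Def_Spor_Fi23
import Cfsg.Prelude.Def_Spor_Fi24
import Cfsg.Prelude.Def_Spor_B
import Cfsg.Prelude.Def_Spor_M
import Cfsg.Prelude.Def_Spor_Th
import Cfsg.Prelude.Def_Spor_J4

set_option autoImplicit false
set_option maxRecDepth 100000

namespace CL.Exp2.J4c
open CL.CE CL.K

noncomputable def tT0 : ℕ := nat_lit 0xfffffffffffdbccffff6d7bffffffffffffffffffdaddfffffffed2e7fffb9affffffffd948c6affffebe35e4afffffffebacffffd551fffeae2dd48fffffffeaabfffffffffffe9e259dbc1334b129aaffffd60f470ffffdecdd703fffe8617ffffffffffe8297fffe11bfffe7a0fffffffffffe7687fffd401fffe6a05c52d30731026675f53fffffffe59fffffc095fffe5667fffc791fffe49f5dd9bf7ffffe4657fffd239fffe39ed8dafffffffe3647fffc58b6166b6c45bcd863595ea6b44bbc24d515692a43bad91bfffe8a9c2b9da09fffe7e8c1b7e20ffffe727c0b6d105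373a5e6bfb4d027fffe525beb3c87b272a424bdb2ffff1f22323bcb0c476eebffffc546fffeeaebfffc445c35ffffdd1dc344db2bfffdc56c243fffffffdc1cffffdc10dcb3fffc142e307fffdb15c041fffffffdadb7fffcf0dfffda153f40ce16cca99da3e3fc960c8a7fffbd3efffec4a3ffffffffffec09ffffbc3dfffffffdd9e2f26fffffffdcdd7fffdd3ee4e5bdc7fffde1ffffdb5bad21e401fffda9aac20cd14d2d1959ab1eca4ffffd8d92a1dfffffffd858a91cfffffffd7d8281bfffffffd34caeaffffffffd3137ffffffffffd24c2e2efffffffd2122dade02dfffffffffffdf2ffffd14b2cace5028659110ababfffe8257fffffffcc247c74fca2aaacb37fffcf4f29a9fffe764ffffa8a8fffffffce0927a7fffffffcdcdfffffffe9c992d29a91fffe94911d1ffffe609fffd191190fe70bfffd090180efffffffd00f970dfffffffcf0e960cfffffffce8e150bfffe726cd8d140afffe48409449a19fffffffc8c89998e811fffc8041897e9123c207c79796fffffffc6c39695fffe321c6869594fffffffc5c31493fffe2a185859392ea104c448887fffed00423c7470904fffe38346060803fffffffc5050702eb09fffc2c08989ec03fffc2828888ef000c081c00787ee0008001418686f00018142420100fffe100c0c10081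
noncomputable def tJ0 : ℕ := nat_lit 0x2000000000000000000000000000000000012000000018c6000008010000000000090200000da6000000000000000000080000e004000009a2004000039c2000008000000000000000c000008000000000000080600000805804004000010000000080092800000000b2200000804010000000007e4000008000000000000078200400001ae400400001a8600400001a6600000001a4400000001a040000000168200400001662000000019440040000100000400001748004000000000040000088200000000862000008000000000000084200400000822000008000000000000054600000800544004000007c20040000000000400000000004000000000000000100000000000724004000006e6000000016c4000000013c20040000164600000001000000000010000000000100000000800000000000000000000080000000000000428000000005820000080056200400000000004000003a40040080052200000000000004000000000000080000000000000000004000010000040000040400000001406000000010000000000100000000001000000000010000040000100000400800000000000002e2000008002c200400000000000008000000040000000000000800000004000001e8004000000820040000100000400001000000000011c2000008000a800000000114004008001080040000000a0040000100000400000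
noncomputable def tD0 : ℕ := nat_lit 0x2f5d02bb7002e5b01b75402d4800b36006c4601af5806b4501ab5006a4401a70c0695101a3080684f019f040674d019b000664b0196fc065490192f806447018ef40633c008aec0223a0086e4021370082d802034007ecc01f32007ac001e2f0176e805d2e0172e005c2d016eb005b35016aac05a330166a8059290162a005827015e9801724005a8c016210056800151e0052740141c004e6c01325014a64052230146600511701428005016013e5404f1d013a5004e1301366804d1201324400c10002e3c00b0e002a3400a0c00262c0090a00224004809011e3804708011a30046070116280450601121400404000e0c00302000a1004201010608041000102000000000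
noncomputable def tT : Tr := (.leaf tT0)
noncomputable def tJ : Tr := (.leaf tJ0)
noncomputable def tD : Tr := (.leaf tD0)

def rels : List (List ℕ) := [[0,0],
  [1,2],
  [2,1],
  [1,1,1],
  [0,1,0,1,0,1,0,1,0,1,0,1,0,1,0,1,0,1,0,1,0,1,0,1,0,1,0,1,0,1,0,1,0,1,0,1,0,1,0,1,0,1,0,1,0,1],
  [0,2,0,1,0,2,0,1,0,2,0,1,0,2,0,1,0,2,0,1,0,2,0,1],
  [0,2,0,2,0,1,0,1,0,2,0,2,0,1,0,1,0,2,0,2,0,1,0,1,0,2,0,2,0,1,0,1,0,2,0,2,0,1,0,1],
  [0,1,0,1,0,2,0,1,0,2,0,1,0,2,0,1,0,1,0,2,0,1,0,2,0,1,0,2],
  [0,1,0,1,0,2,0,1,0,1,0,2,0,1,0,1,0,2,0,1,0,2,0,2,0,1,0,2,0,2,0,1,0,2,0,2]]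
def subs : List (List ℕ) := []
def iv (a : ℕ) : ℕ := [0,2,1,3].getD a 0
noncomputable def RR0 : List Rule := [.bwd [0] 0 0 0,
  .bwd [1,0,2,0,1,0,2,0,1,0,2,0,1,0,2,0,1,0,2,0,1,0,2] 5 14 0,
  .bwd [2,0,1,0,2,0,1,0,2,0,1,0,2,0,1,0,2,0,1,0,2,0,1] 5 16 0,
  .bwd [1,0,2,0,1,0,2,0,2,0,1,0,2,0,1,0,2,0,1,0,2,0,2,0,1,0,2] 7 17 1,
  .bwd [1,0,2,0,1,0,2,0,1,0,1,0,2,0,1,0,2,0,1,0,2,0,1,0,1,0,2] 7 6 0,
  .gen [3] [0] 0 0 0]
noncomputable def RR1 : List Rule := [.bwd [1,1] 3 1 0]
noncomputable def RR2 : List Rule := [.bwd [1] 2 0 0]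
noncomputable def RR3 : List Rule := [.gen [0] [3,0] 0 0 0,
  .gen [1] [3,1] 1 0 0,
  .gen [2] [3,2] 2 0 0,
  .gen [3,1] [1] 1 0 0,
  .fwd [0,1,0,1,0,1,0,1,0,1,0,1,0,1,0,1,0,1,0,1,0,1,0,1,0,1,0,1,0,1,0,1,0,1,0,1,0,1,0,1,0,1,0,1,0,1] 4 0 1,
  .fwd [1,0,1,0,2,0,1,0,1,0,2,0,1,0,2,0,2,0,1,0,2,0,2,0,1,0,2,0,2,0,1,0,1,0,2,0] 8 29 1,
  .bwd [0,2,0,1,0,2,0,1,0,2,0,1,0,1,0,2,0,1,0,2,0,1,0,2,0,1,0,1] 7 4 0,
  .bwd [0,2,0,1,0,2,0,1,0,2,0,1,0,1,0,2,0,1,0,2,0,1,0,2,0,1,0,1] 7 18 0,
  .bwd [1,0,2,0,2,0,1,0,2,0,1,0,2,0,1,0,2,0,2,0,1,0,2,0,1,0,2,0] 7 22 1,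
  .gen [3,2] [2] 2 0 0]
noncomputable def RR : List (List Rule) := [RR0, RR1, RR2, RR3]
noncomputable def rowp (j : ℕ) : ℕ := piece tT (nat_lit 3) (nat_lit 7) (nat_lit 3840) (Nat.pred (Nat.shiftLeft 1 (nat_lit 3840))) j
noncomputable def row (u : ℕ) : ℕ := rowOf rowp (nat_lit 6) (nat_lit 63) (nat_lit 60) u
noncomputable def jrowp (j : ℕ) : ℕ := piece tJ (nat_lit 3) (nat_lit 7) (nat_lit 2816) (Nat.pred (Nat.shiftLeft 1 (nat_lit 2816))) j
noncomputable def jrow (u : ℕ) : ℕ := rowOf jrowp (nat_lit 6) (nat_lit 63) (nat_lit 44) u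
noncomputable def drowp (j : ℕ) : ℕ := piece tD (nat_lit 3) (nat_lit 7) (nat_lit 2816) (Nat.pred (Nat.shiftLeft 1 (nat_lit 2816))) j
noncomputable def drow (u : ℕ) : ℕ := rowOf drowp (nat_lit 7) (nat_lit 127) (nat_lit 22) u
noncomputable def cert : PCert := ⟨(nat_lit 3), (nat_lit 4), (nat_lit 127), (nat_lit 15), (nat_lit 32767), (nat_lit 32766), (nat_lit 1), (nat_lit 0), (nat_lit 94), (nat_lit 4), (nat_lit 15), (nat_lit 11), (nat_lit 2047), (nat_lit 4194303), (nat_lit 5), row, jrow, drow, RR⟩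
theorem params : cert.paramsOK = true := by decide +kernel
theorem rules : rulesOK rels subs iv cert.L cert.LL cert.RR = true := by decide +kernel
theorem blk0 : cert.alive (nat_lit 0) (nat_lit 1) (nat_lit 1) = 0 := by decide +kernel
theorem blk1 : cert.dead (nat_lit 1) (nat_lit 1) (nat_lit 94) = 0 := by decide +kernel
theorem up0 : cert.Upto 0 := PCert.upto_zero _
theorem up1 : cert.Upto 1 := up0.alive params blk0 (by decide)
theorem up2 : cert.Upto 95 := up1.dead (by decide) blk1 (by decide)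

theorem covers {G : Type*} [Group G] {g : ℕ → G} {H : Subgroup G}
    (h : Sat g H 3 iv rels subs) : Covers g 3 H 1 :=
  PCert.covers (p := cert) params rules (by decide +kernel) up2 h

end CL.Exp2.J4c

namespace CL.Exp2

open Cfsg.Spor

/-- no elements of order four -/
def No4 (G : Type*) [Group G] : Prop := ∀ x : G, x ^ 4 = 1 → x ^ 2 = 1

theorem No4.of_equiv {G H : Type*} [Group G] [Group H] (h : No4 G) (e : G ≃* H) : No4 H := fun x hx => by
  have := h (e.symm x) (by rw [← map_pow, hx, map_one])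
  rw [← map_pow] at this
  exact (map_eq_one_iff _ e.symm.injective).1 this

theorem No4.eight {G : Type*} [Group G] (h : No4 G) {x : G} (hx : x ^ 8 = 1) : x ^ 2 = 1 :=
  h x (by rw [show 4 = 2 * 2 from rfl, pow_mul]; exact h _ (by rw [← pow_mul]; exact hx))

section words

variable {H : Type*} [Group H]

theorem eq_one_of_pow {x : H} {m n : ℕ} (hm : x ^ m = 1) (hn : x ^ n = 1) (h : Nat.gcd m n = 1) : x = 1 := by
  have := pow_gcd_eq_one.2 ⟨hm, hn⟩
  rwa [h, pow_one] at this

theorem eq_of_two_three {y z : H} (hz : z * z = 1) (h2 : (y * z) ^ 2 = 1) (h3 : (y * z) ^ 3 = 1) : y = z := by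
  have h := eq_one_of_pow h2 h3 rfl
  rw [eq_inv_of_mul_eq_one_left h, inv_eq_of_mul_eq_one_left hz]

theorem braid {a b : H} (ha : a * a = 1) (hb : b * b = 1) (h : (a * b) ^ 3 = 1) : a * b * a = b * a * b := by
  have h1 : a * b * a * (b * a * b) = 1 := by rw [← h]; simp only [pow_succ, pow_zero, one_mul, mul_assoc]
  have h2 : b * a * b * (b * a * b) = 1 := by
    calc b * a * b * (b * a * b) = b * a * (b * b) * a * b := by simp only [mul_assoc]
      _ = b * (a * a) * b := by rw [hb]; simp only [mul_assoc, one_mul]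
      _ = 1 := by rw [ha, mul_one, hb]
  exact mul_right_cancel (h1.trans h2.symm)

theorem comm_of_two {a c : H} (ha : a * a = 1) (hc : c * c = 1) (h : (a * c) ^ 2 = 1) : Commute a c := by
  have h1 : a * c * (a * c) = 1 := by rw [← h, sq]
  have h2 : c * a * (a * c) = 1 := by
    calc c * a * (a * c) = c * (a * a) * c := by simp only [mul_assoc]
      _ = 1 := by rw [ha, mul_one, hc]
  exact mul_right_cancel (h1.trans h2.symm)

theorem sq_abc {a b c : H} (ha : a * a = 1) (hb : b * b = 1) (hc : c * c = 1) (hab : (a * b) ^ 3 = 1)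
    (hbc : (b * c) ^ 3 = 1) (hac : Commute a c) : (a * b * c) ^ 2 = b * (a * c) * b := by
  calc (a * b * c) ^ 2 = a * b * (c * a) * b * c := by simp only [sq, mul_assoc]
    _ = (a * b * a) * (c * b * c) := by rw [← hac.eq]; simp only [mul_assoc]
    _ = b * a * (b * b) * c * b := by rw [braid ha hb hab, ← braid hb hc hbc]; simp only [mul_assoc]
    _ = _ := by rw [hb]; simp only [mul_assoc, one_mul]

/-- an element of order four in `2 × S₄` -/
theorem s4_key {f a b c : H} (hf : f * f = 1) (ha : a * a = 1) (hb : b * b = 1) (hc : c * c = 1)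
    (hab : (a * b) ^ 3 = 1) (hbc : (b * c) ^ 3 = 1) (hac : Commute a c) (h1 : Commute f a) (h2 : Commute f b)
    (h3 : Commute f c) : (f * (a * b * c)) ^ 4 = 1 ∧ ((f * (a * b * c)) ^ 2 = 1 → a = c) := by
  have h : (f * (a * b * c)) ^ 2 = b * (a * c) * b := by
    rw [((h1.mul_right h2).mul_right h3).mul_pow, sq f, hf, one_mul, sq_abc ha hb hc hab hbc hac]
  refine ⟨?_, fun e => ?_⟩
  · rw [show 4 = 2 * 2 from rfl, pow_mul, h, sq]
    calc b * (a * c) * b * (b * (a * c) * b) = b * (a * c) * (b * b) * (a * c) * b := by simp only [mul_assoc]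
      _ = b * (a * (c * a) * c) * b := by rw [hb]; simp only [mul_assoc, one_mul]
      _ = b * ((a * a) * (c * c)) * b := by rw [← hac.eq]; simp only [mul_assoc]
      _ = 1 := by rw [ha, hc, mul_one, mul_one, hb]
  · rw [h] at e
    have : a * c = 1 := by
      calc a * c = (b * b) * (a * c) * (b * b) := by rw [hb, one_mul, mul_one]
        _ = b * (b * (a * c) * b) * b := by simp only [mul_assoc]
        _ = 1 := by rw [e, mul_one, hb]
    rw [eq_inv_of_mul_eq_one_left this, inv_eq_of_mul_eq_one_left hc]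

end words

section cox

variable {α : Type*} [DecidableEq α] {edges : List (α × ℕ × α)} {extra : List (FreeGroup α)}

/-- the generators -/
abbrev gn (edges : List (α × ℕ × α)) (extra : List (FreeGroup α)) (x : α) : CoxPresented α edges extra :=
  PresentedGroup.of x

theorem cox_rel (x y : α) {m : ℕ} (h : x ∈ coxNodes edges ∧ y ∈ coxNodes edges ∧ coxLabel edges x y = m) :
    (gn edges extra x * gn edges extra y) ^ m = 1 := by
  obtain ⟨hx, hy, rfl⟩ := h
  have := PresentedGroup.one_of_mem (rels := coxRelators edges ∪ {r | r ∈ extra}) (Or.inl ⟨x, hx, y, hy, rfl⟩)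
  rwa [map_pow, map_mul] at this

theorem cox_sq (x : α) (h : x ∈ coxNodes edges) : gn edges extra x * gn edges extra x = 1 := by
  simpa using cox_rel (extra := extra) x x (m := 1) ⟨h, h, by simp [coxLabel]⟩

theorem cox_comm (x y : α) (h : x ∈ coxNodes edges ∧ y ∈ coxNodes edges ∧ coxLabel edges x y = 2) :
    Commute (gn edges extra x) (gn edges extra y) :=
  comm_of_two (cox_sq x h.1) (cox_sq y h.2.1) (cox_rel x y h)

theorem extra_rel (i : ℕ) (hi : i < extra.length) :
    (PresentedGroup.mk _ extra[i] : CoxPresented α edges extra) = 1 :=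
  PresentedGroup.one_of_mem (Or.inr (List.getElem_mem hi))

theorem cox_prop {x y : α} (e : gn edges extra x = gn edges extra y) (z : α)
    (h : (x ∈ coxNodes edges ∧ z ∈ coxNodes edges ∧ coxLabel edges x z = 2) ∧
      (y ∈ coxNodes edges ∧ z ∈ coxNodes edges ∧ coxLabel edges y z = 3)) :
    gn edges extra y = gn edges extra z :=
  eq_of_two_three (cox_sq z h.1.2.1) (e ▸ cox_rel x z h.1) (cox_rel y z h.2)

theorem comm_of_forall_eq (x₀ : α) (h : ∀ x, gn edges extra x = gn edges extra x₀) :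
    IsMulCommutative (CoxPresented α edges extra) := by
  have : ∀ g : CoxPresented α edges extra, g ∈ Subgroup.zpowers (gn edges extra x₀) := fun g =>
    PresentedGroup.generated_by _ _ (fun x => (h x).symm ▸ Subgroup.mem_zpowers _) g
  refine ⟨⟨fun a b => ?_⟩⟩
  obtain ⟨i, rfl⟩ := this a
  obtain ⟨j, rfl⟩ := this b
  exact (Commute.zpow_zpow_self _ i j).eq

theorem subsingleton_of_forall (h : ∀ x, gn edges extra x = 1) : Subsingleton (CoxPresented α edges extra) := by
  have : ∀ g : CoxPresented α edges extra, g ∈ (⊥ : Subgroup _) := fun g =>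
    PresentedGroup.generated_by _ _ (fun x => Subgroup.mem_bot.2 (h x)) g
  exact subsingleton_of_forall_eq 1 fun g => Subgroup.mem_bot.1 (this g)

theorem ab_eq (x y : α) (h : x ∈ coxNodes edges ∧ y ∈ coxNodes edges ∧ coxLabel edges x y = 3) :
    Abelianization.of (gn edges extra x) = Abelianization.of (gn edges extra y) := by
  have h1 : ∀ z ∈ coxNodes edges, Abelianization.of (gn edges extra z) * Abelianization.of (gn edges extra z) = 1 :=
    fun z hz => by rw [← map_mul, cox_sq z hz, map_one]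
  refine eq_of_two_three (h1 y h.2.1) ?_ (by rw [← map_mul, ← map_pow, cox_rel x y h, map_one])
  rw [mul_pow, sq, sq, h1 x h.1, h1 y h.2.1, mul_one]

/-- the three nodes of a path give `S₄` -/
theorem cox_s4 (hE : No4 (CoxPresented α edges extra)) (a b c : α)
    (h : (a ∈ coxNodes edges ∧ b ∈ coxNodes edges ∧ coxLabel edges a b = 3) ∧
      (b ∈ coxNodes edges ∧ c ∈ coxNodes edges ∧ coxLabel edges b c = 3) ∧
      (a ∈ coxNodes edges ∧ c ∈ coxNodes edges ∧ coxLabel edges a c = 2)) :
    gn edges extra a = gn edges extra c := by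
  have k := s4_key (f := 1) (one_mul _) (cox_sq (extra := extra) a h.1.1) (cox_sq b h.1.2.1) (cox_sq c h.2.1.2.1)
    (cox_rel a b h.1) (cox_rel b c h.2.1) (cox_comm a c h.2.2) (Commute.one_left _) (Commute.one_left _)
    (Commute.one_left _)
  exact k.2 (hE _ k.1)

theorem cox_s4' {S : Subgroup (CoxPresented α edges extra)} (hE : No4 S) (f a b c : α)
    (h : (a ∈ coxNodes edges ∧ b ∈ coxNodes edges ∧ coxLabel edges a b = 3) ∧
      (b ∈ coxNodes edges ∧ c ∈ coxNodes edges ∧ coxLabel edges b c = 3) ∧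
      (a ∈ coxNodes edges ∧ c ∈ coxNodes edges ∧ coxLabel edges a c = 2) ∧
      (f ∈ coxNodes edges ∧ a ∈ coxNodes edges ∧ coxLabel edges f a = 2) ∧
      (f ∈ coxNodes edges ∧ b ∈ coxNodes edges ∧ coxLabel edges f b = 2) ∧
      (f ∈ coxNodes edges ∧ c ∈ coxNodes edges ∧ coxLabel edges f c = 2))
    (hm : gn edges extra f * (gn edges extra a * gn edges extra b * gn edges extra c) ∈ S) :
    gn edges extra a = gn edges extra c := by
  obtain ⟨h1, h2, h3, h4, h5, h6⟩ := h
  have k := s4_key (cox_sq (extra := extra) f h4.1) (cox_sq a h1.1) (cox_sq b h1.2.1) (cox_sq c h2.2.1)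
    (cox_rel a b h1) (cox_rel b c h2) (cox_comm a c h3) (cox_comm f a h4) (cox_comm f b h5) (cox_comm f c h6)
  exact k.2 (congrArg Subtype.val (hE ⟨_, hm⟩ (Subtype.ext k.1)))

theorem mem_comm_four {f a b c : α} (ha : a ∈ coxNodes edges)
    (h1 : Abelianization.of (gn edges extra f) = Abelianization.of (gn edges extra a))
    (h2 : Abelianization.of (gn edges extra b) = Abelianization.of (gn edges extra a))
    (h3 : Abelianization.of (gn edges extra c) = Abelianization.of (gn edges extra a)) :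
    gn edges extra f * (gn edges extra a * gn edges extra b * gn edges extra c) ∈
      commutator (CoxPresented α edges extra) := by
  rw [← Abelianization.ker_of, MonoidHom.mem_ker, map_mul, map_mul, map_mul, h1, h2, h3, ← map_mul, cox_sq a ha,
    map_one, one_mul, ← map_mul, cox_sq a ha, map_one]

end cox

theorem comm_Fi22 (hE : No4 Fi22) : IsMulCommutative Fi22 := by
  have e1 := cox_s4 hE .a .b .c (by decide)
  have e2 := cox_prop e1 .d (by decide)
  have e3 := cox_prop e2.symm .b (by decide)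
  have e4 := cox_prop e2 .e (by decide)
  have e5 := cox_prop e4 .f (by decide)
  have e6 := cox_prop e5 .g (by decide)
  have e7 := cox_prop e2 .h (by decide)
  have e8 := cox_prop e7 .i (by decide)
  refine comm_of_forall_eq .c fun x => ?_
  cases x <;> simp only [e1, ← e3, ← e6, ← e5, ← e4, ← e8, ← e7, ← e2]

theorem comm_Fi23 (hE : No4 Fi23) : IsMulCommutative Fi23 := by
  have e1 := cox_s4 hE .a .b .c (by decide)
  have e2 := cox_prop e1 .d (by decide)
  have e3 := cox_prop e2.symm .b (by decide)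
  have e4 := cox_prop e2 .e (by decide)
  have e5 := cox_prop e4 .f (by decide)
  have e6 := cox_prop e5 .g (by decide)
  have e9 := cox_prop e6 .j (by decide)
  have e7 := cox_prop e2 .h (by decide)
  have e8 := cox_prop e7 .i (by decide)
  refine comm_of_forall_eq .c fun x => ?_
  cases x <;> simp only [e1, ← e3, ← e9, ← e6, ← e5, ← e4, ← e8, ← e7, ← e2]

theorem comm_B (hE : No4 BabyMonster) : IsMulCommutative BabyMonster := by
  have e1 := cox_s4 hE .t1 .t2 .t3 (by decide)
  have e2 := cox_prop e1 .t4 (by decide)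
  have e3 := cox_prop e2.symm .t2 (by decide)
  have e4 := cox_prop e2 .t5 (by decide)
  have e5 := cox_prop e4 .t6 (by decide)
  have e6 := cox_prop e5 .t7 (by decide)
  have e7 := cox_prop e6 .t8 (by decide)
  have e8 := cox_prop e4 .t9 (by decide)
  have e9 := cox_prop e8 .t10 (by decide)
  have e10 := cox_prop e9 .t11 (by decide)
  refine comm_of_forall_eq .t3 fun x => ?_
  cases x <;> simp only [e1, ← e3, ← e10, ← e9, ← e8, ← e7, ← e6, ← e5, ← e4, ← e2]

theorem subsingleton_of_comm {G : Type*} [Group G] (h : IsMulCommutative G) {S : Subgroup G}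
    (hS : S ≤ commutator G) : Subsingleton S := by
  have : commutator G = ⊥ := by
    rw [commutator_def, Subgroup.commutator_eq_bot_iff_le_centralizer]
    exact fun x _ y _ => h.1.1 y x
  rw [this, le_bot_iff] at hS
  rw [hS]
  infer_instance

theorem subsingleton_Fi24 (hE : No4 Fi24') : Subsingleton Fi24' := by
  have a1 := ab_eq (edges := Fi24.edges) (extra := Fi24.extra) .b .a (by decide)
  have a2 := (ab_eq (edges := Fi24.edges) (extra := Fi24.extra) .c .b (by decide)).trans a1
  have a3 := (ab_eq (edges := Fi24.edges) (extra := Fi24.extra) .d .c (by decide)).trans a2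
  have a4 := (ab_eq (edges := Fi24.edges) (extra := Fi24.extra) .e .d (by decide)).trans a3
  have e1 := cox_s4' hE .e .a .b .c (by decide) (mem_comm_four (by decide) a4 a1 a2)
  have e2 := cox_prop e1 .d (by decide)
  have e3 := cox_prop e2.symm .b (by decide)
  have e4 := cox_prop e2 .e (by decide)
  have e5 := cox_prop e4 .f (by decide)
  have e6 := cox_prop e5 .g (by decide)
  have e9 := cox_prop e6 .j (by decide)
  have e7 := cox_prop e2 .h (by decide)
  have e8 := cox_prop e7 .i (by decide)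
  have e10 := cox_prop e1.symm .k (by decide)
  have e11 := cox_prop e10 .l (by decide)
  refine subsingleton_of_comm (comm_of_forall_eq .c fun x => ?_) le_rfl
  cases x <;> simp only [← e11, ← e10, e1, ← e3, ← e9, ← e6, ← e5, ← e4, ← e8, ← e7, ← e2]

theorem subsingleton_M (hE : No4 Monster) : Subsingleton Monster := by
  have a1 := ab_eq (edges := Bimonster.edges) (extra := Bimonster.extra) .d1 .c1 (by decide)
  have a2 := (ab_eq (edges := Bimonster.edges) (extra := Bimonster.extra) .e1 .d1 (by decide)).trans a1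
  have a3 := ab_eq (edges := Bimonster.edges) (extra := Bimonster.extra) .b1 .c1 (by decide)
  have a4 := (ab_eq (edges := Bimonster.edges) (extra := Bimonster.extra) .a .b1 (by decide)).trans a3
  have c1 := cox_comm (edges := Bimonster.edges) (extra := Bimonster.extra) .a .c1 (by decide)
  have c2 := cox_comm (edges := Bimonster.edges) (extra := Bimonster.extra) .a .d1 (by decide)
  have c3 := cox_comm (edges := Bimonster.edges) (extra := Bimonster.extra) .a .e1 (by decide)
  have e1 := cox_s4' hE .a .c1 .d1 .e1 (by decide) ⟨Subgroup.mem_centralizer_singleton_iff.2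
    ((Commute.refl _).mul_right ((c1.mul_right c2).mul_right c3)).symm.eq, mem_comm_four (by decide) a4 a1 a2⟩
  have e2 := cox_prop e1 .f1 (by decide)
  have e3 := cox_prop e2.symm .d1 (by decide)
  have e4 := cox_prop e1.symm .b1 (by decide)
  have e5 := cox_prop e4 .a (by decide)
  have f1 := cox_prop e5 .b2 (by decide)
  have f2 := cox_prop f1 .c2 (by decide)
  have f3 := cox_prop f2 .d2 (by decide)
  have f4 := cox_prop f3 .e2 (by decide)
  have f5 := cox_prop f4 .f2 (by decide)
  have g1 := cox_prop e5 .b3 (by decide)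
  have g2 := cox_prop g1 .c3 (by decide)
  have g3 := cox_prop g2 .d3 (by decide)
  have g4 := cox_prop g3 .e3 (by decide)
  have g5 := cox_prop g4 .f3 (by decide)
  refine subsingleton_of_comm (comm_of_forall_eq .e1 fun x => ?_) inf_le_right
  cases x <;> simp only [← g5, ← g4, ← g3, ← g2, ← g1, ← f5, ← f4, ← f3, ← f2, ← f1, ← e5, ← e4, ← e3, ← e2, e1]

theorem subsingleton_Suz (hE : No4 Suz) : Subsingleton Suz := by
  have sq : ∀ x : Suz.Gen, gn Suz.edges Suz.extra x ^ 2 = 1 := fun x => by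
    rw [sq]; exact cox_sq x (by cases x <;> decide)
  have h1 := hE.eight (cox_rel (extra := Suz.extra) .c .d (m := 8) (by decide))
  have r0 : gn Suz.edges Suz.extra .a * ((gn _ _ .c * gn _ _ .d) ^ 4)⁻¹ = 1 := extra_rel 0 (by decide)
  have r4 : ((gn Suz.edges Suz.extra .b * gn _ _ .c * gn _ _ .d * gn _ _ .c * gn _ _ .d) ^ 5 * gn _ _ .e) ^ 3 = 1 :=
    extra_rel 4 (by decide)
  have ha : gn Suz.edges Suz.extra .a = 1 := by
    rwa [show 4 = 2 * 2 from rfl, pow_mul, h1, one_pow, inv_one, mul_one] at r0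
  have k : ∀ x y : Suz.Gen, ∀ m, (x ∈ coxNodes Suz.edges ∧ y ∈ coxNodes Suz.edges ∧ coxLabel Suz.edges x y = m) →
      Nat.gcd 2 m = 1 → gn Suz.edges Suz.extra x = 1 → gn Suz.edges Suz.extra y = 1 := fun x y m h hm hx => by
    have := cox_rel (extra := Suz.extra) x y h
    rw [hx, one_mul] at this
    exact eq_one_of_pow (sq y) this hm
  have hb := k .a .b 5 (by decide) rfl ha
  have hc := k .b .c 3 (by decide) rfl hb
  have hf := k .b .f 3 (by decide) rfl hb
  have hg := k .b .g 3 (by decide) rfl hb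
  have he : gn Suz.edges Suz.extra .e = 1 := by
    rw [hb, hc, one_mul, one_mul, mul_one, ← pow_two, sq, one_pow, one_mul] at r4
    exact eq_one_of_pow (sq _) r4 rfl
  have hd := k .e .d 3 (by decide) rfl he
  exact subsingleton_of_forall fun x => by cases x <;> assumption

theorem subsingleton_Th (hE : No4 Th) : Subsingleton Th := by
  obtain ⟨g, hg⟩ : ∃ g, g = gn Th.edges Th.extra := ⟨_, rfl⟩
  have r0 : g .a ^ 2 = 1 := hg ▸ extra_rel 0 (by decide)
  have r1 : g .b ^ 2 = 1 := hg ▸ extra_rel 1 (by decide)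
  have r2 : g .c ^ 2 = 1 := hg ▸ extra_rel 2 (by decide)
  have r3 : g .d ^ 2 = 1 := hg ▸ extra_rel 3 (by decide)
  have r5 : (g .a * g .b) ^ 3 = 1 := hg ▸ extra_rel 5 (by decide)
  have r7 : (g .b * g .c) ^ 3 = 1 := hg ▸ extra_rel 7 (by decide)
  have r10 : g .a * ((g .c * g .d) ^ 4)⁻¹ = 1 := hg ▸ extra_rel 10 (by decide)
  have r12 : (g .d * g .e) ^ 3 = 1 := hg ▸ extra_rel 12 (by decide)
  have r14 : g .s ^ 7 = 1 := hg ▸ extra_rel 14 (by decide)
  have r18 : (g .s * g .d) ^ 2 = 1 := hg ▸ extra_rel 18 (by decide)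
  have r20 : g .t ^ 3 = 1 := hg ▸ extra_rel 20 (by decide)
  have r27 : g .u ^ 2 * (g .a * g .c)⁻¹ = 1 := hg ▸ extra_rel 27 (by decide)
  have r32 : ((g .u)⁻¹ * ((g .b)⁻¹ * (g .a * g .c) * g .b)⁻¹ * g .u * ((g .b)⁻¹ * (g .a * g .c) * g .b)) *
      (g .e)⁻¹ = 1 := hg ▸ extra_rel 32 (by decide)
  have r34 : ((g .u)⁻¹ * g .t * g .u) * ((g .t)⁻¹)⁻¹ = 1 := hg ▸ extra_rel 34 (by decide)
  have r36 : (g .a * g .c) * ((g .u * g .s) ^ 3)⁻¹ = 1 := hg ▸ extra_rel 36 (by decide)
  rw [mul_inv_eq_one] at r10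
  have h1 : (g .c * g .d) ^ 2 = 1 := hE.eight (by rw [show 8 = 4 * 2 from rfl, pow_mul, ← r10, r0])
  have ha : g .a = 1 := by rw [r10, show 4 = 2 * 2 from rfl, pow_mul, h1, one_pow]
  have hb : g .b = 1 := eq_one_of_pow r1 (by simpa [ha] using r5) rfl
  have hc : g .c = 1 := eq_one_of_pow r2 (by simpa [hb] using r7) rfl
  have he : g .e = 1 := by simpa [ha, hb, hc] using r32
  have hd : g .d = 1 := eq_one_of_pow r3 (by simpa [he] using r12) rfl
  have hs : g .s = 1 := eq_one_of_pow (m := 2) (by simpa [hd] using r18) r14 rfl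
  have hu : g .u = 1 :=
    eq_one_of_pow (m := 2) (n := 3) (by simpa [ha, hc] using r27) (by simpa [ha, hc, hs] using r36) rfl
  have ht : g .t = 1 := eq_one_of_pow (m := 2) (by simpa [hu, sq] using r34) r20 rfl
  subst hg
  exact subsingleton_of_forall fun x => by cases x <;> assumption

theorem j4_collapse {G : Type*} [Group G] {x y : G} (r0 : x ^ 2 = 1) (r1 : y ^ 3 = 1) (r2 : (x * y) ^ 23 = 1)
    (r3 : (x⁻¹ * y⁻¹ * x * y) ^ 6 = 1) (r4 : (x⁻¹ * (y * x * y)⁻¹ * x * (y * x * y)) ^ 5 = 1)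
    (r5 : (x * y * (x * y * x * y⁻¹) ^ 3) ^ 2 = 1)
    (r6 : (x * y * x * y * x * y⁻¹) ^ 3 * (x * y * x * y⁻¹ * x * y⁻¹) ^ 3 = 1) : x = 1 ∧ y = 1 := by
  have hx : x⁻¹ = x := by rw [inv_eq_iff_mul_eq_one, ← sq, r0]
  have h : CE.Sat (fun a => [x, y, y⁻¹].getD a 1) ⊥ 3 J4c.iv J4c.rels J4c.subs := by
    refine ⟨rfl, fun a ha => ?_, fun r hr => ⟨?_, ?_⟩, fun r hr => by simp [J4c.subs] at hr⟩
    · interval_cases a <;> simp [J4c.iv, hx]
    · revert r; decide
    · simp only [J4c.rels, List.mem_cons, List.not_mem_nil, or_false] at hr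
      simp only [mul_inv_rev, hx, pow_succ, pow_zero, one_mul, mul_assoc] at r0 r1 r2 r3 r4 r5 r6
      rcases hr with rfl | rfl | rfl | rfl | rfl | rfl | rfl | rfl | rfl <;>
        simp only [CE.ev, List.map_cons, List.map_nil, List.prod_cons, List.prod_nil, List.getD_cons_zero,
          List.getD_cons_succ, mul_one, mul_inv_cancel, inv_mul_cancel] <;> assumption
  obtain ⟨r, hr⟩ := J4c.covers h
  have k : ∀ z ∈ Subgroup.closure ((fun a => [x, y, y⁻¹].getD a 1) '' Set.Iio 3), z = r 0 := fun z hz => by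
    obtain ⟨v, hv, e⟩ := hr z hz
    obtain rfl : v = 0 := by omega
    exact mul_inv_eq_one.1 (Subgroup.mem_bot.1 e)
  have k1 := k 1 (one_mem _)
  exact ⟨(k x (Subgroup.subset_closure ⟨0, by simp, rfl⟩)).trans k1.symm,
    (k y (Subgroup.subset_closure ⟨1, by simp, rfl⟩)).trans k1.symm⟩

theorem subsingleton_J4 (hE : No4 J4) : Subsingleton J4 := by
  obtain ⟨g, hg⟩ : ∃ g, g = gn J4.edges J4.extra := ⟨_, rfl⟩
  have r3 : ((g .x)⁻¹ * (g .y)⁻¹ * g .x * g .y) ^ 12 = 1 := hg ▸ extra_rel 3 (by decide)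
  have r5 : (g .x * g .y * (g .x * g .y * g .x * (g .y)⁻¹) ^ 3) ^ 4 = 1 := hg ▸ extra_rel 5 (by decide)
  have r7 : g .t ^ 2 = 1 := hg ▸ extra_rel 7 (by decide)
  have r10 : (g .y * ((g .y * g .x * (g .y)⁻¹ * g .x * g .y * g .x * (g .y)⁻¹ * g .x)⁻¹ * g .t *
      (g .y * g .x * (g .y)⁻¹ * g .x * g .y * g .x * (g .y)⁻¹ * g .x))) ^ 3 = 1 := hg ▸ extra_rel 10 (by decide)
  have h3 := hE (((g .x)⁻¹ * (g .y)⁻¹ * g .x * g .y) ^ 3) (by rw [← pow_mul]; exact r3)
  rw [← pow_mul] at h3
  obtain ⟨hx, hy⟩ := j4_collapse (x := g .x) (y := g .y) (hg ▸ extra_rel 0 (by decide)) (hg ▸ extra_rel 1 (by decide))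
    (hg ▸ extra_rel 2 (by decide)) h3 (hg ▸ extra_rel 4 (by decide)) (hE _ r5) (hg ▸ extra_rel 6 (by decide))
  have ht : g .t = 1 := eq_one_of_pow r7 (by simpa [hx, hy] using r10) rfl
  subst hg
  exact subsingleton_of_forall fun x => by cases x <;> assumption

end CL.Exp2
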