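import Cfsg.Agent.TECH.SecC
import Cfsg.Agent.SOLV.CoprimeSylow

/-! A commutator variant of Thompson's `P × Q` lemma. -/

namespace CL.MSS
open Subgroup Cfsg

variable {G : Type*} [Group G] [Finite G] {p : ℕ} [hp : Fact p.Prime]

theorem pxq_commutator {P A B : Subgroup G} (hP : IsPGroup p P) (hA : IsPGroup p A)
    (hB : (Nat.card B).Coprime p) (hnA : A ≤ normalizer (P : Set G))
    (hnB : B ≤ normalizer (P : Set G)) (hAB : ⁅A, B⁆ = ⊥) (h : ⁅P, B⁆ ≤ ⁅P, A⁆) : ⁅P, B⁆ = ⊥ := by
  have hW : IsPGroup p (A ⊔ P : Subgroup G) := isPGroup_sup_of_normalizes hA hP hnA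
  have hBA : B ≤ normalizer (A : Set G) := le_normalizer_of_le_centralizer
    (le_centralizer_symm (commutator_eq_bot_iff_le_centralizer.1 hAB))
  have hAB' : A ≤ normalizer (B : Set G) :=
    le_normalizer_of_le_centralizer (commutator_eq_bot_iff_le_centralizer.1 hAB)
  have hQ : ⁅P, B⁆ ≤ P := commutator_le_left_of_normalizes hnB
  refine eq_bot_of_le_commutator_of_isNilpotent hW.isNilpotent (hQ.trans le_sup_right) ?_
  have h1 := coprime_commutator_commutator B P hnB (coprime_card_of_isPGroup hP hB)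
    (Or.inr (isSolvable_of_isPGroup hP))
  have hW' : A ⊔ P ≤ normalizer ((⁅⁅P, B⁆, A ⊔ P⁆ : Subgroup G) : Set G) :=
    normalizer_commutator_ge_right _ _
  refine h1.ge.trans ((commutator_mono h le_rfl).trans
    (three_subgroups_of_normalizes (le_sup_right.trans hW') (le_sup_left.trans hW') ?_ ?_ ?_))
  · exact le_normalizer_commutator (normalizer_commutator_ge_right _ _) (le_normalizer_sup hBA hnB)
  · rw [hAB, commutator_bot_left]; exact bot_le
  · rw [Subgroup.commutator_comm B P]; exact commutator_mono le_rfl le_sup_left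

end CL.MSS
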