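import Mathlib
import Cfsg.Agent.FGS.FrobSol
import Cfsg.Agent.SOLV.MinNormal
import Cfsg.Agent.FGS.OrderType
import Cfsg.Agent.FGS.PseudoSylow

/-!
# The Frobenius conjecture: reduction to simple groups and counting lemmas
-/

open Subgroup

namespace CL.FrC

universe u

/-- the number of solutions of `x ^ n = 1`. -/
noncomputable def cnt (G : Type*) [Group G] (n : ℕ) : ℕ := Nat.card {x : G // x ^ n = 1}

/-- the number of elements of order `n`. -/
noncomputable def ordc (G : Type*) [Group G] (n : ℕ) : ℕ := Nat.card {x : G // orderOf x = n}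

/-- the form of the Frobenius conjecture that holds in a simple group. -/
def FCs (G : Type*) [Group G] : Prop :=
  ∀ n, n ∣ Nat.card G → cnt G n = n → n = 1 ∨ n = Nat.card G

/-- all composition factors satisfy `FCs`. -/
def Sec (G : Type u) [Group G] : Prop :=
  ∀ H : Subgroup G, H.IsSubnormal → ∀ (X : Type u) [Group X] (f : H →* X), Function.Surjective f →
    IsSimpleGroup X → FCs X

variable {G : Type*} [Group G]

theorem cnt_congr {X : Type*} [Group X] (e : G ≃* X) (n : ℕ) : cnt G n = cnt X n :=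
  Nat.card_congr (e.toEquiv.subtypeEquiv fun x => by
    change _ ↔ e x ^ n = 1
    rw [← map_pow, EmbeddingLike.map_eq_one_iff])

theorem FCs.congr {X : Type*} [Group X] (h : FCs X) (e : G ≃* X) : FCs G := fun n hn hc => by
  rw [Nat.card_congr e.toEquiv] at hn ⊢
  exact h n hn (cnt_congr e n ▸ hc)

theorem cnt_eq_ncard (n : ℕ) : cnt G n = {x : G | x ^ n = 1}.ncard := rfl

theorem ordc_eq_ncard (n : ℕ) : ordc G n = {x : G | orderOf x = n}.ncard := rfl

theorem cnt_pos [Finite G] (n : ℕ) : 0 < cnt G n :=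
  @Nat.card_pos _ ⟨⟨1, one_pow _⟩⟩ inferInstance

theorem dvd_cnt [Finite G] {n : ℕ} (h : n ∣ Nat.card G) : n ∣ cnt G n :=
  CL.FrobSol.dvd_card_pow_eq_one dvd_rfl h

theorem eq_of_card [Finite G] {n : ℕ} (hc : cnt G n = n) (H : Subgroup G) (hH : Nat.card H = n) :
    (H : Set G) = {x : G | x ^ n = 1} :=
  Set.eq_of_subset_of_ncard_le (fun _ hx => orderOf_dvd_iff_pow_eq_one.mp
    (hH ▸ H.orderOf_dvd_natCard hx)) (le_of_eq (hc.trans hH.symm)) (Set.toFinite _)

theorem Sec.sub {G : Type u} [Group G] (h : Sec G) (N : Subgroup G) [hN : N.Normal] : Sec N :=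
  fun H hH X _ f hf hX => h (H.map N.subtype) (hH.trans' hN.isSubnormal) X
    (f.comp (H.equivMapOfInjective _ N.subtype_injective).symm.toMonoidHom)
    (hf.comp (H.equivMapOfInjective _ N.subtype_injective).symm.surjective) hX

theorem Sec.quot {G : Type u} [Group G] (h : Sec G) (N : Subgroup G) [N.Normal] : Sec (G ⧸ N) :=
  fun H hH X _ f hf hX => h (H.comap (QuotientGroup.mk' N)) (hH.comap _) X
    (f.comp ((QuotientGroup.mk' N).subgroupComap H))
    (hf.comp ((QuotientGroup.mk' N).subgroupComap_surjective_of_surjective H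
      (QuotientGroup.mk'_surjective N))) hX

/-- Frobenius' theorem in a coset. -/
theorem dvd_card_coset [Finite G] (N : Subgroup G) [N.Normal] (y : G ⧸ N) {d n : ℕ} (h1 : d ∣ n)
    (h2 : d ∣ Nat.card N) : d ∣ {x : G | x ^ n = 1 ∧ (x : G ⧸ N) = y}.ncard := by
  rw [Nat.dvd_iff_prime_pow_dvd_dvd]
  intro p k hp hd
  have := Fact.mk hp
  obtain ⟨H, hH⟩ := Sylow.exists_subgroup_card_pow_prime (G := N) p (hd.trans h2)
  rw [← hH, ← card_map_of_injective N.subtype_injective]
  have hle : H.map N.subtype ≤ N := map_subtype_le H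
  refine CL.FrobSol.card_dvd_of_closed (H.map N.subtype) {x : G | x ^ n = 1 ∧ (x : G ⧸ N) = y}
    (fun h hh x hx => ⟨?_, ?_⟩) (fun x hx u hu => ⟨?_, ?_⟩)
  · rw [conj_pow, hx.1]
    simp
  · simp [(QuotientGroup.eq_one_iff h).2 (hle hh), hx.2]
  · obtain ⟨w, -, hw⟩ := CL.FrobSol.brauer_lemma (CL.FrobSol.core (H.map N.subtype) x)
      (CL.FrobSol.mem_normalizer_core _ x) hu
    obtain ⟨m, hm⟩ : Nat.card (CL.FrobSol.core (H.map N.subtype) x) ∣ n :=
      (card_dvd_of_le (CL.FrobSol.core_le _ x)).trans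
        (by rw [card_map_of_injective N.subtype_injective, hH]; exact hd.trans h1)
    have h3 := hx.1
    rw [hm, pow_mul] at h3
    rw [hm, pow_mul, hw, show w⁻¹ * x ^ Nat.card (CL.FrobSol.core (H.map N.subtype) x) * w =
      w⁻¹ * x ^ Nat.card (CL.FrobSol.core (H.map N.subtype) x) * w⁻¹⁻¹ by rw [inv_inv], conj_pow, h3]
    simp
  · simp [(QuotientGroup.eq_one_iff u).2 (hle (CL.FrobSol.core_le _ x hu)), hx.2]

/-- passing to a normal subgroup and to the quotient. -/
theorem cnt_split [Finite G] (N : Subgroup G) [N.Normal] {n : ℕ} (hn : n ∣ Nat.card G)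
    (hc : cnt G n = n) :
    n / n.gcd (Nat.card N) ∣ Nat.card (G ⧸ N) ∧
      cnt (G ⧸ N) (n / n.gcd (Nat.card N)) = n / n.gcd (Nat.card N) ∧
      cnt N (n.gcd (Nat.card N)) = n.gcd (Nat.card N) := by
  classical
  have := Fintype.ofFinite G
  have := Fintype.ofFinite (G ⧸ N)
  set d := n.gcd (Nat.card N) with hd
  set m := n / d with hm
  have hg : 0 < d := Nat.gcd_pos_of_pos_right _ Nat.card_pos
  have hun : m * d = n := Nat.div_mul_cancel (Nat.gcd_dvd_left _ _)
  have hr : Nat.card N / d * d = Nat.card N := Nat.div_mul_cancel (Nat.gcd_dvd_right _ _)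
  have hcop : m.Coprime (Nat.card N / d) := Nat.coprime_div_gcd_div_gcd hg
  have hud : m ∣ Nat.card (G ⧸ N) := by
    refine hcop.dvd_of_dvd_mul_right (Nat.dvd_of_mul_dvd_mul_right hg ?_)
    rw [hun, mul_assoc, hr, ← card_eq_card_quotient_mul_card_subgroup]
    exact hn
  let a : G ⧸ N → ℕ := fun y => {x : G | x ^ n = 1 ∧ (x : G ⧸ N) = y}.ncard
  let K : Finset (G ⧸ N) := Finset.univ.filter fun y => y ^ m = 1
  have hK : K.card = cnt (G ⧸ N) m := by
    rw [cnt, Nat.card_eq_fintype_card, Fintype.card_subtype]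
  have ha : ∀ y ∈ K, d ≤ a y := by
    intro y hy
    obtain ⟨g, rfl⟩ := QuotientGroup.mk_surjective y
    have hy' : (g : G ⧸ N) ^ m = 1 := (Finset.mem_filter.1 hy).2
    refine Nat.le_of_dvd ((Set.ncard_pos (Set.toFinite _)).2 ?_)
      (dvd_card_coset N _ (Nat.gcd_dvd_left _ _) (Nat.gcd_dvd_right _ _))
    obtain ⟨t, ht⟩ := exists_pow_eq_self_of_coprime (x := (g : G ⧸ N))
      (hcop.symm.coprime_dvd_right (orderOf_dvd_of_pow_eq_one hy'))
    have h4 : g ^ m ∈ N := by
      rw [← QuotientGroup.eq_one_iff, QuotientGroup.mk_pow]; exact hy'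
    have h5 : (g ^ m) ^ Nat.card N = 1 :=
      congrArg Subtype.val (pow_card_eq_one' (x := (⟨_, h4⟩ : N)))
    refine ⟨(g ^ (Nat.card N / d)) ^ t, ?_, ht⟩
    rw [← pow_mul, ← pow_mul, ← hun, show Nat.card N / d * (t * (m * d)) =
      m * (Nat.card N / d * d) * t by ring, hr, pow_mul, pow_mul, h5, one_pow]
  have hsum : ∑ y ∈ K, a y ≤ n := by
    have h1 : (Finset.univ.filter fun x : G => x ^ n = 1).card = n := by
      rw [← Fintype.card_subtype, ← Nat.card_eq_fintype_card]; exact hc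
    rw [← h1, Finset.card_eq_sum_card_fiberwise (f := fun x : G => (x : G ⧸ N)) (t := Finset.univ)
      (fun _ _ => Finset.mem_coe.2 (Finset.mem_univ _))]
    refine le_trans (le_of_eq (Finset.sum_congr rfl fun y _ => ?_))
      (Finset.sum_le_sum_of_subset (Finset.subset_univ K))
    rw [← Set.ncard_coe_finset]
    exact congrArg Set.ncard (by ext x; simp)
  have h1K : (1 : G ⧸ N) ∈ K := by simp [K]
  have ha1 : a 1 = cnt N d := by
    refine Nat.card_congr ⟨fun x => ⟨⟨x.1, (QuotientGroup.eq_one_iff _).1 x.2.2⟩, ?_⟩,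
      fun x => ⟨x.1, ?_, (QuotientGroup.eq_one_iff _).2 x.1.2⟩, fun _ => rfl, fun _ => rfl⟩
    · rw [← orderOf_dvd_iff_pow_eq_one]
      refine Nat.dvd_gcd ?_ (orderOf_dvd_natCard _)
      rw [orderOf_dvd_iff_pow_eq_one]
      exact Subtype.ext x.2.1
    · rw [← hun, mul_comm, pow_mul, show (x.1 : G) ^ d = 1 from congrArg Subtype.val x.2, one_pow]
  rw [← Finset.add_sum_erase K a h1K] at hsum
  have h2 := Finset.card_nsmul_le_sum (K.erase 1) a d fun y hy => ha y (Finset.mem_of_mem_erase hy)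
  rw [Finset.card_erase_of_mem h1K, smul_eq_mul, hK] at h2
  have h3 := Nat.le_of_dvd (cnt_pos m) (dvd_cnt hud)
  have h4 := ha 1 h1K
  have h5 := cnt_pos (G := G ⧸ N) m
  obtain ⟨k, hk⟩ : ∃ k, cnt (G ⧸ N) m = k + 1 := ⟨_, (Nat.succ_pred_eq_of_pos h5).symm⟩
  rw [hk] at h2 h3 ⊢
  rw [Nat.add_sub_cancel] at h2
  have h6 : k + 1 ≤ m := Nat.le_of_mul_le_mul_right (by nlinarith) hg
  have h7 : m = k + 1 := le_antisymm h3 h6
  rw [h7] at hun
  exact ⟨hud, h7.symm, by nlinarith⟩

theorem reduction_aux (k : ℕ) : ∀ (G : Type u) [Group G] [Finite G], Nat.card G = k → Sec G →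
    ∀ n : ℕ, n ∣ Nat.card G → cnt G n = n → ∃ H : Subgroup G, Nat.card H = n := by
  induction k using Nat.strong_induction_on with
  | _ k ih =>
  intro G _ _ hk hS n hn hc
  rcases subsingleton_or_nontrivial G with h | h
  · exact ⟨⊤, by
      rw [card_top]
      rw [Nat.card_of_subsingleton (1 : G)] at hn ⊢
      exact (Nat.dvd_one.1 hn).symm⟩
  obtain ⟨K, hK⟩ := CL.exists_isMinNormal G
  have := hK.normal
  by_cases hT : K = ⊤
  · have hs : IsSimpleGroup G := ⟨fun L hL => hT ▸ hK.eq_bot_or_eq L hL (hT ▸ le_top)⟩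
    rcases hS ⊤ .top G (⊤ : Subgroup G).subtype (fun x => ⟨⟨x, trivial⟩, rfl⟩) hs n hn hc with e | e
    · exact ⟨⊥, by rw [e, card_bot]⟩
    · exact ⟨⊤, by rw [e, card_top]⟩
  have hcard := card_eq_card_quotient_mul_card_subgroup K
  have hK1 : 1 < Nat.card K := (one_lt_card_iff_ne_bot _).mpr hK.ne_bot
  have hK2 : 1 < Nat.card (G ⧸ K) := one_lt_index_of_ne_top hT
  obtain ⟨h1, h2, h3⟩ := cnt_split K hn hc
  obtain ⟨H, hH⟩ := ih _ (by nlinarith) (G ⧸ K) rfl (hS.quot K) _ h1 h2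
  obtain ⟨M, hM⟩ := ih _ (by nlinarith) K rfl (hS.sub K) _ (Nat.gcd_dvd_right _ _) h3
  have hM' := eq_of_card h3 M hM
  have hP : Nat.card (H.comap (QuotientGroup.mk' K)) = Nat.card K * Nat.card H :=
    CL.OrdType.card_subtype_quotient K fun x => x ∈ H
  have hch : M.Characteristic := characteristic_iff_comap_le.2 fun φ x hx => by
    rw [mem_comap, ← SetLike.mem_coe, hM'] at hx
    rw [← SetLike.mem_coe, hM']
    exact φ.injective (by rw [map_pow, map_one]; exact hx)
  rcases hK.eq_bot_or_top_of_characteristic M with e | e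
  · rw [e, card_bot] at hM
    rw [← hM, Nat.div_one] at hH
    have hKM : K ≤ H.comap (QuotientGroup.mk' K) := fun x hx => by
      rw [mem_comap, QuotientGroup.mk'_apply, (QuotientGroup.eq_one_iff x).mpr hx]
      exact one_mem _
    have hKc := Nat.card_congr (subgroupOfEquivOfLe hKM).toEquiv
    have hidx : (K.subgroupOf (H.comap (QuotientGroup.mk' K))).index = n := by
      have := (K.subgroupOf (H.comap (QuotientGroup.mk' K))).card_mul_index
      rw [hKc, hP, hH] at this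
      exact Nat.eq_of_mul_eq_mul_left Nat.card_pos this
    obtain ⟨L, hL⟩ := exists_right_complement'_of_coprime
      (N := K.subgroupOf (H.comap (QuotientGroup.mk' K)))
      (by rw [hKc, hidx]; exact (Nat.coprime_comm.1 hM.symm))
    exact ⟨L.map (Subgroup.subtype _), by
      rw [card_map_of_injective (subtype_injective _), ← hL.symm.index_eq_card, hidx]⟩
  · rw [e, card_top] at hM
    exact ⟨_, by rw [hP, hH, ← hM, Nat.mul_div_cancel' (hM ▸ Nat.gcd_dvd_left _ _)]⟩

/-- **Reduction of the Frobenius conjecture to the composition factors.** -/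
theorem reduction {G : Type u} [Group G] [Finite G] (hS : Sec G) {n : ℕ} (hn : n ∣ Nat.card G)
    (hc : cnt G n = n) : ∃ H : Subgroup G, (H : Set G) = {x : G | x ^ n = 1} := by
  obtain ⟨H, hH⟩ := reduction_aux _ G rfl hS n hn hc
  exact ⟨H, eq_of_card hc H hH⟩

/-! ### Counting in a simple group -/

variable [Finite G]

theorem of_subgroup [IsSimpleGroup G] {n : ℕ} (hc : cnt G n = n) (H : Subgroup G)
    (hH : Nat.card H = n) : n = 1 ∨ n = Nat.card G := by
  have h := eq_of_card hc H hH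
  have hN : H.Normal := ⟨fun x hx g => by
    rw [← SetLike.mem_coe, h] at hx ⊢
    show (g * x * g⁻¹) ^ n = 1
    rw [conj_pow, show x ^ n = 1 from hx]
    simp⟩
  rcases hN.eq_bot_or_eq_top with e | e
  · exact .inl (by rw [← hH, e, card_bot])
  · exact .inr (by rw [← hH, e, card_top])

theorem of_prime_pow [IsSimpleGroup G] {p k : ℕ} (hp : p.Prime) (hn : p ^ k ∣ Nat.card G)
    (hc : cnt G (p ^ k) = p ^ k) : p ^ k = 1 ∨ p ^ k = Nat.card G := by
  have := Fact.mk hp
  obtain ⟨H, hH⟩ := Sylow.exists_subgroup_card_pow_prime p hn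
  exact of_subgroup hc H hH

theorem fcs_of_comm [IsSimpleGroup G] (h : IsMulCommutative G) : FCs G := fun n hn _ =>
  letI : CommGroup G := { mul_comm := h.is_comm.comm }
  (Nat.dvd_prime (IsSimpleGroup.prime_card (α := G))).1 hn

/-- if no element has order divisible by `r ^ (e + 1)`, the `r`-part of `n` is full or below `r ^ e`. -/
theorem not_dvd_of_exp {r e n : ℕ} (hr : r.Prime) (h : ∀ x : G, ¬ r ^ (e + 1) ∣ orderOf x)
    (hc : cnt G n = n) (he : r ^ e ∣ n) : ¬ n * r ∣ Nat.card G := fun hn => by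
  have h1 : cnt G (n * r) = cnt G n := by
    refine Nat.card_congr (Equiv.subtypeEquivRight fun x => ?_)
    rw [← orderOf_dvd_iff_pow_eq_one, ← orderOf_dvd_iff_pow_eq_one]
    refine ⟨fun hx => ?_, fun hx => hx.mul_right r⟩
    obtain ⟨a, o, ho, e'⟩ := Nat.exists_eq_pow_mul_and_not_dvd (orderOf_pos x).ne' r hr.ne_one
    have h2 : o.Coprime r := ((Nat.Prime.coprime_iff_not_dvd hr).2 ho).symm
    have h3 : a ≤ e := by
      by_contra h3
      exact h x (e' ▸ (pow_dvd_pow r (by omega)).mul_right o)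
    rw [e'] at hx ⊢
    exact (h2.symm.pow_left a).mul_dvd_of_dvd_of_dvd ((pow_dvd_pow r h3).trans he)
      (h2.dvd_of_dvd_mul_right ((dvd_mul_left o _).trans hx))
  have h2 := Nat.le_of_dvd (cnt_pos _) (dvd_cnt hn)
  have h3 := cnt_pos (G := G) n
  have h4 := hr.two_le
  rw [h1, hc] at h2
  nlinarith

/-- an element whose order is divisible by the full `r`-part makes the Sylow subgroups cyclic. -/
theorem isCyclic_of_dvd_orderOf {r e : ℕ} [hr : Fact r.Prime] (h : ¬ r ^ (e + 1) ∣ Nat.card G)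
    {x : G} (hx : r ^ e ∣ orderOf x) (T : Subgroup G) (hT : IsPGroup r T) : IsCyclic T := by
  obtain ⟨k, hk⟩ := hx
  have hk0 : k ≠ 0 := fun e => (orderOf_pos x).ne' (by rw [hk, e, mul_zero])
  have h1 : Nat.card (zpowers (x ^ k)) = r ^ e := by
    rw [Nat.card_zpowers, orderOf_pow_of_dvd hk0 (hk ▸ dvd_mul_left _ _), hk,
      Nat.mul_div_cancel _ (Nat.pos_of_ne_zero hk0)]
  obtain ⟨P, hP⟩ := (IsPGroup.of_card h1).exists_le_sylow
  obtain ⟨P', hP'⟩ := hT.exists_le_sylow
  obtain ⟨j, hj⟩ := IsPGroup.iff_card.1 P.isPGroup'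
  have h2 : j ≤ e := by
    by_contra h2
    exact h ((pow_dvd_pow r (by omega)).trans (hj ▸ card_subgroup_dvd_card _))
  have h3 : zpowers (x ^ k) = P := eq_of_le_of_card_ge hP (by
    rw [h1, hj]; exact Nat.pow_le_pow_right hr.out.pos h2)
  have : IsCyclic P := h3 ▸ inferInstance
  have : IsCyclic P' := isCyclic_of_surjective _ (Sylow.equiv P P').surjective
  exact isCyclic_of_injective (inclusion hP') (inclusion_injective hP')

theorem not_two_pow_dvd_orderOf [IsSimpleGroup G] (hG : ¬ IsMulCommutative G) {e : ℕ}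
    (h : ¬ 2 ^ (e + 2) ∣ Nat.card G) (x : G) : ¬ 2 ^ (e + 1) ∣ orderOf x := fun hx => by
  obtain ⟨T⟩ : Nonempty (Sylow 2 G) := inferInstance
  have h1 := CL.PSyl.odd_card_of_isCyclic_sylow_two hG T (isCyclic_of_dvd_orderOf h hx _ T.isPGroup')
  exact Nat.not_even_iff_odd.2 h1 (even_iff_two_dvd.2
    ((dvd_pow_self 2 (Nat.succ_ne_zero e)).trans (hx.trans (orderOf_dvd_natCard x))))

theorem ordc_le {a n : ℕ} (h1 : a ≠ 1) (h : a ∣ n) : 1 + ordc G a ≤ cnt G n := by
  rw [ordc_eq_ncard, cnt_eq_ncard, add_comm, ← Set.ncard_insert_of_notMem (a := (1 : G))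
    (by simpa using h1.symm)]
  refine Set.ncard_le_ncard ?_
  rintro x (rfl | hx)
  · simp
  · exact orderOf_dvd_iff_pow_eq_one.1 ((show orderOf x = a from hx) ▸ h)

theorem ordc_le₂ {a b n : ℕ} (h1 : a ≠ 1) (h2 : b ≠ 1) (h3 : a ≠ b) (ha : a ∣ n) (hb : b ∣ n) :
    1 + ordc G a + ordc G b ≤ cnt G n := by
  rw [ordc_eq_ncard, ordc_eq_ncard, cnt_eq_ncard, add_assoc, ← Set.ncard_union_eq
    (s := {x : G | orderOf x = a}) (t := {x : G | orderOf x = b})
    (Set.disjoint_left.2 fun x k1 k2 => h3 (Eq.trans (Eq.symm k1) k2)),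
    add_comm, ← Set.ncard_insert_of_notMem (a := (1 : G)) (by simpa using ⟨h1.symm, h2.symm⟩)]
  refine Set.ncard_le_ncard ?_
  rintro x (rfl | hx | hx)
  · simp
  · exact orderOf_dvd_iff_pow_eq_one.1 ((show orderOf x = a from hx) ▸ ha)
  · exact orderOf_dvd_iff_pow_eq_one.1 ((show orderOf x = b from hx) ▸ hb)

/-- every element of order divisible by `p` has order `p`. -/
def Big (G : Type*) [Group G] (p : ℕ) : Prop := ∀ x : G, p ∣ orderOf x → orderOf x = p

theorem Big.cnt_mul {p n : ℕ} (hp : p.Prime) (h : Big G p) (hn : ¬ p ∣ n) :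
    cnt G (n * p) = cnt G n + ordc G p := by
  rw [ordc_eq_ncard, cnt_eq_ncard, cnt_eq_ncard, ← Set.ncard_union_eq
    (s := {x : G | x ^ n = 1}) (t := {x : G | orderOf x = p}) (Set.disjoint_left.2
      fun x k1 (k2 : orderOf x = p) => hn (k2 ▸ orderOf_dvd_of_pow_eq_one k1))]
  congr 1
  ext x
  simp only [Set.mem_setOf_eq, Set.mem_union, ← orderOf_dvd_iff_pow_eq_one]
  refine ⟨fun hx => ?_, fun hx => hx.elim (fun k => k.mul_right p) fun k => k ▸ dvd_mul_left _ _⟩
  by_cases k : p ∣ orderOf x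
  · exact .inr (h x k)
  · exact .inl (((Nat.Prime.coprime_iff_not_dvd hp).2 k).symm.dvd_of_dvd_mul_right hx)

omit [Finite G] in
theorem cnt_one : cnt G 1 = 1 := by
  simp [cnt]

theorem Big.dvd_succ {p : ℕ} (hp : p.Prime) (h : Big G p) (hG : p ∣ Nat.card G) :
    p ∣ 1 + ordc G p := by
  have h1 := h.cnt_mul hp hp.not_dvd_one
  rw [one_mul, cnt_one] at h1
  exact h1 ▸ dvd_cnt hG

theorem Big.mod {p n : ℕ} (hp : p.Prime) (h : Big G p) (hG : p ∣ Nat.card G) (hn : n ∣ Nat.card G)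
    (hc : cnt G n = n) (h1 : ¬ p ∣ n) : n % p = 1 := by
  have h2 := (dvd_mul_left p n).trans (dvd_cnt (G := G)
    (((Nat.Prime.coprime_iff_not_dvd hp).2 h1).symm.mul_dvd_of_dvd_of_dvd hn hG))
  rw [h.cnt_mul hp h1, hc] at h2
  have h3 : n + ordc G p ≡ 1 + ordc G p [MOD p] :=
    ((Nat.modEq_zero_iff_dvd.2 h2).trans (Nat.modEq_zero_iff_dvd.2 (h.dvd_succ hp hG)).symm)
  have h4 := Nat.ModEq.add_right_cancel' _ h3
  rwa [Nat.ModEq, Nat.mod_eq_of_lt hp.one_lt] at h4

theorem Big.le {p m j : ℕ} (hp : p.Prime) (h : Big G p) (hG : Nat.card G = m * p) (hm : ¬ p ∣ m)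
    (hj : ∀ i < j, ¬ p ∣ 1 + m * i) : m * j ≤ ordc G p := by
  have h1 := h.cnt_mul hp hm
  have h2 : cnt G (m * p) = m * p := by
    rw [← hG]
    exact Nat.card_congr (Equiv.subtypeUnivEquiv fun _ => pow_card_eq_one')
  have h3 : m ∣ cnt G m := dvd_cnt (hG ▸ dvd_mul_right _ _)
  obtain ⟨i, hi⟩ : m ∣ ordc G p := (Nat.dvd_add_right h3).1 (by
    rw [← h1, h2]; exact dvd_mul_right _ _)
  have h4 := h.dvd_succ hp (hG ▸ dvd_mul_left _ _)
  rw [hi] at h4 ⊢
  exact Nat.mul_le_mul_left _ (not_lt.1 fun k => hj i k h4)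

/-- the constraint coming from a prime `p` with self-centralizing Sylow subgroup of order `p`. -/
theorem Big.constraint {p m j n : ℕ} (hp : p.Prime) (h : Big G p) (hG : Nat.card G = m * p)
    (hm : ¬ p ∣ m) (hj : ∀ i < j, ¬ p ∣ 1 + m * i) (hn : n ∣ Nat.card G) (hc : cnt G n = n) :
    n % p = 1 ∨ (p ∣ n ∧ m * j < n) := by
  by_cases h1 : p ∣ n
  · have := ordc_le (G := G) hp.ne_one h1
    have := h.le hp hG hm hj
    exact .inr ⟨h1, by omega⟩
  · exact .inl (h.mod hp (hG ▸ dvd_mul_left _ _) hn hc h1)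

end CL.FrC
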