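import Mathlib
import Cfsg.Agent.TECH.FrobConj
import Cfsg.Agent.CHEV.SzCount
import Cfsg.Agent.CLAS.PGL2Max

/-!
# The Frobenius conjecture in `L₂(q)` and `Sz(q)`
-/

open Subgroup

namespace CL.FrC

variable {G : Type*} [Group G] [Finite G]

/-- the number of nonidentity solutions of `x ^ n = 1` with `x ^ c = 1`. -/
noncomputable def prt (G : Type*) [Group G] (n c : ℕ) : ℕ :=
  {x : G | x ≠ 1 ∧ x ^ n = 1 ∧ x ^ c = 1}.ncard

theorem prt_add {n c d : ℕ} (h : c.Coprime d) : prt G n c + prt G n d ≤ prt G n (c * d) := by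
  rw [prt, prt, prt, ← Set.ncard_union_eq (Set.disjoint_left.2 fun x k1 k2 => k1.1 (by
    have := Nat.dvd_gcd (orderOf_dvd_of_pow_eq_one k1.2.2) (orderOf_dvd_of_pow_eq_one k2.2.2)
    rwa [h, Nat.dvd_one, orderOf_eq_one_iff] at this))]
  refine Set.ncard_le_ncard ?_
  rintro x (hx | hx)
  · exact ⟨hx.1, hx.2.1, by rw [pow_mul, hx.2.2, one_pow]⟩
  · exact ⟨hx.1, hx.2.1, by rw [pow_mul', hx.2.2, one_pow]⟩

theorem prt_lt (n c : ℕ) : prt G n c + 1 ≤ cnt G n := by
  rw [prt, cnt_eq_ncard, ← Set.ncard_insert_of_notMem (a := (1 : G)) (by simp)]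
  refine Set.ncard_le_ncard ?_
  rintro x (rfl | hx)
  · simp
  · exact hx.2.1

theorem le_prt {C N : Subgroup G} (h : ∀ c ∈ C, c ≠ 1 → ∀ k, k⁻¹ * c * k ∈ C ↔ k ∈ N) {n m : ℕ}
    (hn : ∀ c ∈ C, c ^ n = 1) (hm : ∀ c ∈ C, c ^ m = 1) :
    Nat.card G * (Nat.card C - 1) ≤ prt G n m * Nat.card N := by
  rw [← CL.Sz.ncard_conjSet_mul C N h]
  refine Nat.mul_le_mul_right _ (Set.ncard_le_ncard ?_)
  rintro x ⟨h1, k, hk⟩
  have e : ∀ j : ℕ, (k⁻¹ * x * k) ^ j = 1 → x ^ j = 1 := fun j hj => by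
    have := conj_pow (a := k⁻¹) (b := x) (i := j)
    rw [inv_inv, hj] at this
    simpa [mul_eq_one_iff_eq_inv] using this.symm
  exact ⟨h1, e _ (hn _ hk), e _ (hm _ hk)⟩

theorem le_prt_cyclic {C N : Subgroup G} [IsCyclic C]
    (h : ∀ c ∈ C, c ≠ 1 → ∀ k, k⁻¹ * c * k ∈ C ↔ k ∈ N) (n : ℕ) :
    Nat.card G * (n.gcd (Nat.card C) - 1) ≤ prt G n (Nat.card C) * Nat.card N := by
  let : CommGroup C := IsCyclic.commGroup
  let D : Subgroup G := (powMonoidHom n : C →* C).ker.map C.subtype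
  have hD : ∀ x, x ∈ D ↔ x ∈ C ∧ x ^ n = 1 := fun x =>
    ⟨by rintro ⟨y, hy, rfl⟩; exact ⟨y.2, congrArg Subtype.val hy⟩,
      fun hx => ⟨⟨x, hx.1⟩, Subtype.ext hx.2, rfl⟩⟩
  have hc : Nat.card D = n.gcd (Nat.card C) := by
    rw [card_map_of_injective C.subtype_injective, IsCyclic.card_powMonoidHom_ker, Nat.gcd_comm]
  rw [← hc]
  refine le_prt (fun c hc h1 k => ?_) (fun c hc => ((hD c).1 hc).2) fun c hc =>
    orderOf_dvd_iff_pow_eq_one.1 (C.orderOf_dvd_natCard ((hD c).1 hc).1)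
  rw [hD, ← h c ((hD c).1 hc).1 h1 k, and_iff_left]
  have := conj_pow (a := k⁻¹) (b := c) (i := n)
  rw [inv_inv, ((hD c).1 hc).2] at this
  simpa using this

theorem le_two [IsSimpleGroup G] {n : ℕ} (hn : n ∣ Nat.card G) (hc : cnt G n = n) (h : n ∣ 2) :
    n = 1 ∨ n = Nat.card G := by
  rcases (Nat.dvd_prime Nat.prime_two).1 h with rfl | rfl
  · exact .inl rfl
  · exact of_prime_pow (k := 1) Nat.prime_two hn hc

theorem dvd_gcd4 {n x a b c : ℕ} (h : n ∣ x * a * b * c) :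
    n ∣ n.gcd x * n.gcd a * n.gcd b * n.gcd c := by
  conv_lhs => rw [← Nat.gcd_eq_left h]
  refine (Nat.gcd_mul_right_dvd_mul_gcd _ _ _).trans (Nat.mul_dvd_mul_right ?_ _)
  refine (Nat.gcd_mul_right_dvd_mul_gcd _ _ _).trans (Nat.mul_dvd_mul_right ?_ _)
  exact Nat.gcd_mul_right_dvd_mul_gcd _ _ _

theorem arith_l2 {q d A B a b n : ℕ} (hq : 0 < q) (hd : 0 < d) (hs : d * A + d * B = 2 * q)
    (ha : a + 1 ≤ A) (hb : b + 1 ≤ B) (h1 : n ≤ q * (a + 1) * (b + 1) * d)
    (h2 : 2 * (q * q) + q * B * d * a + q * A * d * b ≤ 2 * n) : q * A * B * d ≤ n := by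
  have h3 : q * d * (B * (a + 1) + A * (b + 1)) ≤ 2 * n := by
    have : 2 * (q * q) = q * (d * A + d * B) := by rw [hs]; ring
    nlinarith
  have h4 : B * (a + 1) + A * (b + 1) ≤ 2 * ((a + 1) * (b + 1)) :=
    Nat.le_of_mul_le_mul_left (by nlinarith) (Nat.mul_pos hq hd)
  obtain rfl : A = a + 1 := by nlinarith
  obtain rfl : B = b + 1 := by nlinarith
  nlinarith

theorem arith_small {q X x a n : ℕ} (hq : 4 ≤ q) (hx : x ≤ X) (h1 : n ≤ (a + 1) * x)
    (h2 : 2 + q * X * a ≤ 2 * n) : a = 0 := by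
  by_contra h
  obtain ⟨a, rfl⟩ := Nat.exists_eq_succ_of_ne_zero h
  have : 4 * x * (a + 1) ≤ q * X * (a + 1) := by gcongr
  nlinarith

open CL.PGL2 CL.Dk in
theorem fcs_pslIn {F : Type*} [Field F] [Finite F] (hF : 4 ≤ Nat.card F) [IsSimpleGroup (pslIn F)] :
    FCs (pslIn F) := fun n hn hc => by
  obtain ⟨p, hp⟩ := CharP.exists F
  have := Fintype.ofFinite F
  obtain ⟨k, hpp, hk⟩ := FiniteField.card F p
  rw [← Nat.card_eq_fintype_card] at hk
  set q := Nat.card F with hq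
  set d := Nat.gcd 2 (q - 1) with hd
  let f := algebraMap F (AlgebraicClosure F)
  let ρ := (mapG f).comp (pslIn F).subtype
  have hρ : Function.Injective ρ := (mapG_injective f).comp (pslIn F).subtype_injective
  have tor : ∀ {x y}, x ≠ y → pairT (mapG f) x y ≠ ⊥ →
      d * Nat.card (pairT ρ x y) = Nat.card (pairT (mapG f) x y) ∧
      Nat.card (pslIn F) * (n.gcd (Nat.card (pairT ρ x y)) - 1) ≤
        prt (pslIn F) n (Nat.card (pairT ρ x y)) * (2 * Nat.card (pairT ρ x y)) := by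
    intro x y hxy hne
    refine ⟨?_, ?_⟩
    · rw [← gcd_mul_card_pairT_inf_pslIn f hxy hne, ← card_map_of_injective
        (pslIn F).subtype_injective]
      exact congrArg (fun H : Subgroup _ => d * Nat.card H) (subgroupOf_map_subtype (pairT (mapG f) x y) _)
    · have := isCyclic_pairT hρ hxy
      have h1 := card_eq_two_mul_of_le_pairN (le_refl (pairN ρ x y)) fun h =>
        not_pairN_inf_pslIn_le f hxy hne fun g hg => h (x := ⟨g, hg.2⟩) hg.1
      rw [inf_eq_left.2 (pairT_le_pairN ρ x y)] at h1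
      rw [← h1]
      refine le_prt_cyclic (fun c hc h1 k => ⟨mem_pairN_of_conj hρ hxy hc h1, fun hk => ?_⟩) n
      by_cases h2 : k ∈ pairT ρ x y
      · exact mul_mem (mul_mem (inv_mem h2) hc) h2
      · have := conj_eq_inv_of_mem_pairN hρ hxy (inv_mem hk) (fun h => h2 (inv_mem_iff.1 h)) hc
        rw [inv_inv] at this
        exact this ▸ inv_mem hc
  obtain ⟨x, y, hxy, hne, hA⟩ := exists_split_pair f (by omega)
  obtain ⟨hA1, hA2⟩ := tor hxy hne
  obtain ⟨x', y', hxy', hne', hB⟩ := exists_nonsplit_pair f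
  obtain ⟨hB1, hB2⟩ := tor hxy' hne'
  rw [hA, ← hq] at hA1
  rw [hB, ← hq] at hB1
  set A := Nat.card (pairT ρ x y)
  set B := Nat.card (pairT ρ x' y')
  have hd0 : 0 < d := Nat.gcd_pos_of_pos_left _ two_pos
  have hA0 : 0 < A := Nat.card_pos
  have hB0 : 0 < B := Nat.card_pos
  have hG : Nat.card (pslIn F) = q * A * B * d := by
    refine Nat.eq_of_mul_eq_mul_left hd0 ?_
    rw [gcd_mul_card_pslIn, show d * (q * A * B * d) = q * ((d * B) * (d * A)) by ring, hA1, hB1,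
      ← Nat.sq_sub_sq]
  have hAB : A.Coprime B := by
    refine Nat.eq_of_mul_eq_mul_left hd0 ?_
    rw [mul_one, ← Nat.gcd_mul_left, hA1, hB1, show q + 1 = 2 + (q - 1) by omega,
      Nat.gcd_add_self_right, Nat.gcd_comm]
  have hq1 : q.Coprime (A * B) := Nat.Coprime.mul_right
    (Nat.Coprime.coprime_dvd_right (hA1 ▸ dvd_mul_left A d)
      ((Nat.coprime_self_sub_right (by omega)).2 (by simp)))
    (Nat.Coprime.coprime_dvd_right (hB1 ▸ dvd_mul_left B d) (by simp))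
  obtain ⟨a, ha⟩ := Nat.exists_eq_succ_of_ne_zero (Nat.gcd_pos_of_pos_right n hA0).ne'
  obtain ⟨b, hb⟩ := Nat.exists_eq_succ_of_ne_zero (Nat.gcd_pos_of_pos_right n hB0).ne'
  have haA : a + 1 ≤ A := ha.ge.trans (Nat.gcd_le_right n hA0)
  have hbB : b + 1 ≤ B := hb.ge.trans (Nat.gcd_le_right n hB0)
  rw [ha, hG, Nat.succ_sub_one] at hA2
  rw [hb, hG, Nat.succ_sub_one] at hB2
  have hA3 : q * B * d * a ≤ 2 * prt (pslIn F) n A := Nat.le_of_mul_le_mul_left (by nlinarith) hA0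
  have hB3 : q * A * d * b ≤ 2 * prt (pslIn F) n B := Nat.le_of_mul_le_mul_left (by nlinarith) hB0
  have h1 := dvd_gcd4 (hG ▸ hn)
  rw [ha, hb] at h1
  have h2 := prt_add (G := pslIn F) (n := n) hAB
  have h3 := prt_add (G := pslIn F) (n := n) hq1
  have h4 := prt_lt (G := pslIn F) n (q * (A * B))
  rw [hc] at h4
  by_cases hpn : p ∣ n
  · right
    refine le_antisymm (Nat.le_of_dvd Nat.card_pos hn) ?_
    have h5 := le_prt (C := (unipAt (inf : P1 F)).subgroupOf (pslIn F))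
      (N := (MulAction.stabilizer _ (inf : P1 F)).subgroupOf (pslIn F)) (n := n) (m := q)
      (fun c hc h1 k => ?_) (fun c hc => ?_) (fun c hc => ?_)
    · have h6 := gcd_mul_card_stabilizer_inf_pslIn (F := F) inf
      rw [← subgroupOf_map_subtype, card_map_of_injective (pslIn F).subtype_injective, ← hq, ← hd,
        ← hA1, mul_left_comm] at h6
      rw [Nat.eq_of_mul_eq_mul_left hd0 h6, Nat.card_congr
        (subgroupOfEquivOfLe (unipAt_le_pslIn _)).toEquiv, card_unipAt, hG, ← hq] at h5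
      have h7 : (q + 1) * (q - 1) ≤ prt (pslIn F) n q :=
        Nat.le_of_mul_le_mul_left (by rw [← hB1]; nlinarith) (Nat.mul_pos (by omega : 0 < q) hA0)
      rw [← Nat.sq_sub_sq, sq] at h7
      rw [hG]
      refine arith_l2 (by omega) hd0 (by omega) haA hbB ((Nat.le_of_dvd (by positivity) h1).trans ?_)
        (by omega)
      gcongr
      · exact Nat.gcd_le_right n (by omega)
      · exact Nat.gcd_le_right n hd0
    · rw [mem_subgroupOf, mem_subgroupOf, MulAction.mem_stabilizer_iff]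
      push_cast
      rw [← mem_unipAt_smul]
      refine ⟨fun h => ((mem_unipAt.1 hc).2 _ (mem_unipAt.1 h).1).resolve_right
        fun e => h1 (Subtype.ext e), fun h => h.symm ▸ hc⟩
    · obtain ⟨j, hj⟩ := hpn
      rw [hj, pow_mul, show c ^ p = 1 from Subtype.ext (pow_char_eq_one_of_mem_unipAt p hc), one_pow]
    · obtain ⟨j, hj⟩ : p ∣ q := hk ▸ dvd_pow_self p k.ne_zero
      rw [hj, pow_mul, show c ^ p = 1 from Subtype.ext (pow_char_eq_one_of_mem_unipAt p hc), one_pow]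
  · have h5 : n.gcd q = 1 := hk ▸ ((Nat.Prime.coprime_iff_not_dvd hpp).2 hpn).symm.pow_right _
    rw [h5, one_mul] at h1
    have h6 : n ≤ (a + 1) * (b + 1) * d := (Nat.le_of_dvd (by positivity) h1).trans
      (Nat.mul_le_mul_left _ (Nat.gcd_le_right n hd0))
    obtain rfl : a = 0 := arith_small (X := B * d) (x := (b + 1) * d) (n := n) hF (by gcongr)
      (by linarith) (by nlinarith)
    obtain rfl : b = 0 := arith_small (X := A * d) (x := (0 + 1) * d) (n := n) hF (by gcongr)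
      (by linarith) (by nlinarith)
    exact le_two hn hc ((by simpa using h1 : n ∣ n.gcd d).trans
      ((Nat.gcd_dvd_right _ _).trans (Nat.gcd_dvd_left _ _)))

theorem arith_sz {Q A B C a b c n : ℕ} (hQ : 0 < Q) (hs : 2 * (B * C) + A * C + A * B = 4 * Q)
    (ha : a + 1 ≤ A) (hb : b + 1 ≤ B) (hc : c + 1 ≤ C) (h1 : n ≤ Q * (a + 1) * (b + 1) * (c + 1))
    (h2 : 4 * (Q * Q) + 2 * (Q * B * C * a) + Q * A * C * b + Q * A * B * c ≤ 4 * n) :
    Q * A * B * C ≤ n := by
  have h3 : Q * (2 * (B * C * (a + 1)) + A * C * (b + 1) + A * B * (c + 1)) ≤ 4 * n := by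
    have : 4 * (Q * Q) = Q * (2 * (B * C) + A * C + A * B) := by rw [hs]; ring
    nlinarith
  have h4 : 2 * (B * C * (a + 1)) + A * C * (b + 1) + A * B * (c + 1) ≤
      4 * ((a + 1) * (b + 1) * (c + 1)) := Nat.le_of_mul_le_mul_left (by nlinarith) hQ
  have k1 : (b + 1) * (c + 1) * (a + 1) ≤ B * C * (a + 1) := by gcongr
  have k2 : (a + 1) * (c + 1) * (b + 1) ≤ A * C * (b + 1) := by gcongr
  have k3 : (a + 1) * (b + 1) * (c + 1) ≤ A * B * (c + 1) := by gcongr
  have k4 : B * C ≤ (b + 1) * (c + 1) := Nat.le_of_mul_le_mul_right (by nlinarith) (Nat.succ_pos a)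
  have k5 : A * C ≤ (a + 1) * (c + 1) := Nat.le_of_mul_le_mul_right (by nlinarith) (Nat.succ_pos b)
  obtain rfl : C = c + 1 := by nlinarith
  obtain rfl : B = b + 1 := by nlinarith
  obtain rfl : A = a + 1 := by nlinarith
  nlinarith

open CL.Sz in
theorem fcs_sz [IsSimpleGroup G] {F : Type*} [Field F] [CharP F 2] [Fintype F] {m : ℕ} (hm : 1 ≤ m)
    (hF : Fintype.card F = 2 ^ (2 * m + 1)) (M : Model (theta F m) G) : FCs G := fun n hn hc => by
  have hq := natCard_eq hF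
  have tor : ∀ {k}, k = kPlus m ∨ k = kMinus m →
      Nat.card G * (n.gcd k - 1) ≤ prt G n k * (4 * k) := fun hk => by
    obtain ⟨⟨g, h1, h2⟩, h3⟩ := M.torus hm hF hk
    obtain ⟨h4, -, h5, h6⟩ := h3 g h1 h2
    have := h4.isCyclic_centralizer
    have h7 := le_prt_cyclic (fun c hc h1 k => h4.conj_mem_centralizer_iff hc h1 k) n
    rwa [h5, h6] at h7
  have hB2 := tor (.inl rfl)
  have hC2 := tor (.inr rfl)
  have := M.isCyclic_H
  have hA2 := le_prt_cyclic (fun c hc h1 k => M.conj_mem_H_iff hc h1 k) n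
  have hBC := kPlus_mul_kMinus m
  have hs := kPlus_add_kMinus m
  have hcBC := coprime_kPlus_kMinus m
  have hB0 := one_lt_kPlus m
  have hC0 := one_lt_kMinus hm
  have c1 := Model.coprime_four_sq_add_one (F := F)
  have c2 := Model.coprime_four_sub_one (F := F)
  have c3 := Model.coprime_sub_one_sq_add_one (F := F)
  have hG := M.card_G
  have hU := M.ncard_conjSet_U
  rw [M.card_H, M.card_N] at hA2
  have h8 : 8 ≤ Nat.card F := hq ▸ Nat.pow_le_pow_right (n := 2) two_pos (show 3 ≤ _ by omega)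
  rw [← hq] at hBC hs
  rw [← hBC] at c1 c3 hG
  set B := kPlus m
  set C := kMinus m
  obtain ⟨A, hA⟩ : ∃ A, Nat.card F = A + 1 := ⟨Nat.card F - 1, by omega⟩
  rw [hA, Nat.add_sub_cancel] at hA2 c2 c3 hG
  have hA0 : 0 < A := by omega
  have hG' : Nat.card G = (A + 1) ^ 2 * A * B * C := by rw [hG]; ring
  obtain ⟨a, ha⟩ := Nat.exists_eq_succ_of_ne_zero (Nat.gcd_pos_of_pos_right n hA0).ne'
  obtain ⟨b, hb⟩ := Nat.exists_eq_succ_of_ne_zero (Nat.gcd_pos_of_pos_right n (by omega : 0 < B)).ne'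
  obtain ⟨c, hc'⟩ := Nat.exists_eq_succ_of_ne_zero (Nat.gcd_pos_of_pos_right n (by omega : 0 < C)).ne'
  have haA : a + 1 ≤ A := ha.ge.trans (Nat.gcd_le_right n hA0)
  have hbB : b + 1 ≤ B := hb.ge.trans (Nat.gcd_le_right n (by omega))
  have hcC : c + 1 ≤ C := hc'.ge.trans (Nat.gcd_le_right n (by omega))
  rw [ha, hG', Nat.succ_sub_one] at hA2
  rw [hb, hG', Nat.succ_sub_one] at hB2
  rw [hc', hG', Nat.succ_sub_one] at hC2
  have h1 := dvd_gcd4 (hG' ▸ hn)
  rw [ha, hb, hc'] at h1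
  have hQ : 64 ≤ (A + 1) ^ 2 := by nlinarith
  have hQ' : (A + 1) ^ 2 = 2 ^ ((2 * m + 1) * 2) := by rw [← hA, hq, pow_mul]
  have hs' : 2 * (B * C) + A * C + A * B = 4 * (A + 1) ^ 2 := by
    rw [hA] at hBC hs
    have : A * C + A * B = A * (B + C) := by ring
    rw [add_assoc, this, hBC, hs]; ring
  rw [hA] at hU
  generalize (A + 1) ^ 2 = Q at *
  have hA3 : Q * B * C * a ≤ 2 * prt G n A := Nat.le_of_mul_le_mul_left (by nlinarith) hA0
  have hB3 : Q * A * C * b ≤ 4 * prt G n B :=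
    Nat.le_of_mul_le_mul_left (by nlinarith) (by omega : 0 < B)
  have hC3 : Q * A * B * c ≤ 4 * prt G n C :=
    Nat.le_of_mul_le_mul_left (by nlinarith) (by omega : 0 < C)
  have h2 := prt_add (G := G) (n := n) hcBC
  have h3 := prt_add (G := G) (n := n) c3
  have h4 := prt_add (G := G) (n := n) (c2.mul_right c1)
  have h5 := prt_lt (G := G) n (4 * (A * (B * C)))
  rw [hc] at h5
  by_cases h4n : 4 ∣ n
  · right
    refine le_antisymm (Nat.le_of_dvd Nat.card_pos hn) ?_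
    have h6 : (conjSet M.U).ncard ≤ prt G n 4 := Set.ncard_le_ncard fun x hx => by
      obtain ⟨j, rfl⟩ := h4n
      have := M.mem_conjSet_U_iff.1 hx
      exact ⟨this.1, by rw [pow_mul, this.2, one_pow], this.2⟩
    rw [hU, ← Nat.sq_sub_sq, sq] at h6
    rw [hG']
    refine arith_sz (by omega) hs' haA hbB hcC ((Nat.le_of_dvd (by positivity) h1).trans ?_)
      (by omega)
    gcongr
    exact Nat.gcd_le_right n (by omega)
  · have h6 : n.gcd Q ∣ 2 := by
      obtain ⟨j, -, hj⟩ := (Nat.dvd_prime_pow Nat.prime_two).1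
        ((Nat.gcd_dvd_right n Q).trans hQ'.dvd)
      have : j ≤ 1 := by
        by_contra h
        exact h4n ((pow_dvd_pow 2 (show 2 ≤ j by omega)).trans (hj ▸ Nat.gcd_dvd_left n Q))
      exact hj.dvd.trans (pow_dvd_pow 2 this)
    have h7 : n ≤ 2 * (a + 1) * (b + 1) * (c + 1) := (Nat.le_of_dvd (by positivity) h1).trans (by
      gcongr
      exact Nat.le_of_dvd two_pos h6)
    have k1 : 64 * B * C * a ≤ Q * B * C * a := by gcongr
    have k2 : 64 * A * C * b ≤ Q * A * C * b := by gcongr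
    have k3 : 64 * A * B * c ≤ Q * A * B * c := by gcongr
    obtain rfl : a = 0 := arith_small (q := 4) (X := 2 * (B * C)) (x := 2 * ((b + 1) * (c + 1)))
      (n := n) le_rfl (by gcongr) (by linarith) (by nlinarith)
    obtain rfl : b = 0 := arith_small (q := 4) (X := 2 * (A * C)) (x := 2 * ((0 + 1) * (c + 1)))
      (n := n) le_rfl (by gcongr) (by linarith) (by nlinarith)
    obtain rfl : c = 0 := arith_small (q := 4) (X := 2 * (A * B)) (x := 2 * ((0 + 1) * (0 + 1)))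
      (n := n) le_rfl (by gcongr) (by linarith) (by nlinarith)
    exact le_two hn hc ((by simpa using h1 : n ∣ n.gcd Q).trans h6)

end CL.FrC
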