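/-
Quadratic action of a `Y`-minimal group on `O_p(L)/C_Y(L)`: products of two elements of
conjugates of `Y` that are not `p`-elements act without fixed points.
-/
import Mathlib
import Cfsg.Agent.CHEV.SzTor
import Cfsg.Agent.CHEV.SzConcrete

set_option autoImplicit false

namespace CL.FrakL

open Subgroup

variable {H : Type*} [Group H]

/-- The abstract setting. -/
structure Setup (p : ℕ) (A Y : Subgroup H) : Prop where
  normal : A.Normal
  pA : IsPGroup p A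
  pY : IsPGroup p Y
  comm : ∀ a ∈ Y, ∀ b ∈ Y, a * b = b * a
  norm : A ≤ normalizer (Y : Set H)
  max : ∀ X : Subgroup H, Y ≤ X → X ≠ ⊤ → X ≤ normalizer (Y : Set H)
  ne_top : normalizer (Y : Set H) ≠ ⊤
  ncl : normalClosure (Y : Set H) = ⊤
  gen : A ≤ normalClosure ((Y ⊓ A : Subgroup H) : Set H)

/-- Conjugate subgroup. -/
abbrev cj (g : H) (Y : Subgroup H) : Subgroup H := Y.map (MulAut.conj g).toMonoidHom

theorem mem_cj {g x : H} {Y : Subgroup H} : x ∈ cj g Y ↔ g⁻¹ * x * g ∈ Y := by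
  constructor
  · rintro ⟨y, hy, rfl⟩
    simpa [mul_assoc] using hy
  · intro h
    exact ⟨_, h, by simp [mul_assoc]⟩

theorem mem_normalizer_cj {g x : H} {Y : Subgroup H} :
    x ∈ normalizer (cj g Y : Set H) ↔ g⁻¹ * x * g ∈ normalizer (Y : Set H) := by
  simp only [mem_normalizer_iff, mem_cj]
  constructor
  · intro h y
    have := h (g * y * g⁻¹)
    simpa [mul_assoc] using this
  · intro h y
    have := h (g⁻¹ * y * g)
    simpa [mul_assoc] using this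

theorem cj_cj (g k : H) (Y : Subgroup H) : cj g (cj k Y) = cj (g * k) Y := by
  ext x; simp only [mem_cj]; simp [mul_assoc]

theorem cj_one (Y : Subgroup H) : cj 1 Y = Y := by ext x; simp

theorem normalClosure_le_cj (g : H) (Y : Subgroup H) :
    normalClosure (Y : Set H) ≤ normalClosure (cj g Y : Set H) := by
  refine normalClosure_le_normal fun y hy => ?_
  have h1 : g * y * g⁻¹ ∈ normalClosure (cj g Y : Set H) :=
    subset_normalClosure (mem_cj.2 (by simpa [mul_assoc] using hy))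
  simpa [mul_assoc] using (normalClosure_normal).conj_mem _ h1 g⁻¹

namespace Setup

variable {p : ℕ} {A Y : Subgroup H}

theorem conj (h : Setup p A Y) (g : H) : Setup p A (cj g Y) where
  normal := h.normal
  pA := h.pA
  pY := h.pY.map _
  comm := by
    rintro _ ⟨a, ha, rfl⟩ _ ⟨b, hb, rfl⟩
    rw [← map_mul, ← map_mul, h.comm a ha b hb]
  norm := fun a ha => mem_normalizer_cj.2 (h.norm (by simpa using h.normal.conj_mem a ha g⁻¹))
  max := by
    intro X hX hX' x hx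
    rw [mem_normalizer_cj]
    refine h.max (cj g⁻¹ X) (fun y hy => mem_cj.2 (hX (mem_cj.2 (by simpa [mul_assoc] using hy))))
      (fun ht => hX' ?_) (mem_cj.2 (by simpa [mul_assoc] using hx))
    rw [eq_top_iff]
    intro z _
    have : g⁻¹ * z * g ∈ cj g⁻¹ X := ht ▸ mem_top _
    simpa [mem_cj, mul_assoc] using this
  ne_top := fun ht => h.ne_top (by
    rw [eq_top_iff]
    intro z _
    have : g * z * g⁻¹ ∈ normalizer (cj g Y : Set H) := ht ▸ mem_top _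
    simpa [mul_assoc] using mem_normalizer_cj.1 this)
  ncl := top_le_iff.1 (h.ncl ▸ normalClosure_le_cj g Y)
  gen := h.gen.trans ((normalClosure_le_cj g _).trans (normalClosure_mono fun x hx => by
    have hx' := mem_cj.1 hx
    refine ⟨mem_cj.2 hx'.1, ?_⟩
    simpa [mul_assoc] using h.normal.conj_mem _ hx'.2 g))

theorem inf_center_cj (g : H) (Y : Subgroup H) : cj g Y ⊓ center H = Y ⊓ center H := by
  ext x
  simp only [mem_inf, mem_cj]
  constructor
  · rintro ⟨h1, h2⟩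
    refine ⟨?_, h2⟩
    rwa [mul_assoc, ← mem_center_iff.1 h2 g, ← mul_assoc, inv_mul_cancel, one_mul] at h1
  · rintro ⟨h1, h2⟩
    refine ⟨?_, h2⟩
    rwa [mul_assoc, ← mem_center_iff.1 h2 g, ← mul_assoc, inv_mul_cancel, one_mul]

/-- The elements fixing `a` modulo a central subgroup. -/
def fixMod (C : Subgroup H) (hC : C ≤ center H) (a : H) : Subgroup H where
  carrier := {x | x * a * x⁻¹ * a⁻¹ ∈ C}
  one_mem' := by simp
  mul_mem' := by
    intro x y hx hy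
    simp only [Set.mem_ofPred_eq] at hx hy ⊢
    have e : x * y * a * (x * y)⁻¹ * a⁻¹ =
        x * (y * a * y⁻¹ * a⁻¹) * x⁻¹ * (x * a * x⁻¹ * a⁻¹) := by group
    rw [e, mem_center_iff.1 (hC hy) x, mul_inv_cancel_right]
    exact C.mul_mem hy hx
  inv_mem' := by
    intro x hx
    simp only [Set.mem_ofPred_eq] at hx ⊢
    have e : x⁻¹ * a * x⁻¹⁻¹ * a⁻¹ = x⁻¹ * (x * a * x⁻¹ * a⁻¹)⁻¹ * x := by group
    rw [e, mem_center_iff.1 (hC (C.inv_mem hx)) x⁻¹, inv_mul_cancel_right]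
    exact C.inv_mem hx

theorem mem_fixMod {C : Subgroup H} {hC : C ≤ center H} {a x : H} :
    x ∈ fixMod C hC a ↔ x * a * x⁻¹ * a⁻¹ ∈ C := Iff.rfl

variable {Y' : Subgroup H}

theorem sup_eq_top (h : Setup p A Y) {g : H} (hg : g ∉ normalizer (Y : Set H)) :
    Y ⊔ cj g Y = ⊤ := by
  by_contra hne
  have h1 : cj g Y ≤ normalizer (Y : Set H) := le_sup_right.trans (h.max _ le_sup_left hne)
  have h2 : normalizer (Y : Set H) ≤ normalizer (cj g Y : Set H) :=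
    (h.conj g).max _ h1 h.ne_top
  -- `N ≤ N^g`, hence equality by maximality of `N`
  have h3 : normalizer (cj g Y : Set H) ≤ normalizer (Y : Set H) :=
    h.max _ (le_normalizer.trans h2) (h.conj g).ne_top
  have h4 : normalizer (Y : Set H) ⊔ zpowers g = ⊤ := by
    by_contra h5
    exact hg (h.max _ (le_normalizer.trans le_sup_left) h5 (le_sup_right (a := normalizer _)
      (mem_zpowers g)))
  have h5 : (normalizer (Y : Set H)).Normal := by
    rw [← normalizer_eq_top_iff, eq_top_iff, ← h4]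
    refine sup_le le_normalizer (zpowers_le.2 ?_)
    rw [mem_normalizer_iff'']
    intro x
    exact ⟨fun hx => mem_normalizer_cj.1 (h2 hx), fun hx => h3 (mem_normalizer_cj.2 hx)⟩
  exact h.ne_top (top_le_iff.1 (h.ncl ▸ normalClosure_le_normal le_normalizer))

theorem inf_le_center (h : Setup p A Y) {g : H} (hg : g ∉ normalizer (Y : Set H)) :
    Y ⊓ cj g Y ≤ center H := by
  intro x hx
  have : Y ⊔ cj g Y ≤ centralizer {x} := sup_le
    (fun y hy => mem_centralizer_singleton_iff.2 (h.comm y hy x hx.1))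
    (fun y hy => mem_centralizer_singleton_iff.2 ((h.conj g).comm y hy x hx.2))
  rw [h.sup_eq_top hg] at this
  exact mem_center_iff.2 fun y => mem_centralizer_singleton_iff.1 (this (mem_top y))

theorem comm_mem (h : Setup p A Y) {a y : H} (ha : a ∈ A) (hy : y ∈ Y) :
    y * a * y⁻¹ * a⁻¹ ∈ Y ⊓ A := by
  refine ⟨?_, A.mul_mem (h.normal.conj_mem a ha y) (A.inv_mem ha)⟩
  have := (mem_normalizer_iff.1 (h.norm ha) y⁻¹).1 (Y.inv_mem hy)
  rw [mul_assoc, mul_assoc, ← mul_assoc a]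
  exact Y.mul_mem hy this

/-- `A = (Y ∩ A)(Y^g ∩ A)`. -/
theorem exists_mul (h : Setup p A Y) {g : H} (hg : g ∉ normalizer (Y : Set H)) {a : H}
    (ha : a ∈ A) : ∃ b ∈ Y ⊓ A, ∃ b' ∈ cj g Y ⊓ A, a = b * b' := by
  have h' := h.conj g
  let D : Subgroup H :=
    { carrier := {x | ∃ b ∈ Y ⊓ A, ∃ b' ∈ cj g Y ⊓ A, x = b * b'}
      one_mem' := ⟨1, one_mem _, 1, one_mem _, by simp⟩
      mul_mem' := by
        rintro _ _ ⟨b, hb, b', hb', rfl⟩ ⟨c, hc, c', hc', rfl⟩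
        refine ⟨b * c, mul_mem hb hc, c⁻¹ * b' * c * c', mul_mem ⟨?_, ?_⟩ hc', by group⟩
        · simpa using (mem_normalizer_iff.1 (h'.norm (A.inv_mem hc.2)) b').1 hb'.1
        · simpa using h.normal.conj_mem _ hb'.2 c⁻¹
      inv_mem' := by
        rintro _ ⟨b, hb, b', hb', rfl⟩
        refine ⟨b⁻¹, inv_mem hb, b * b'⁻¹ * b⁻¹, ⟨?_, ?_⟩, by group⟩
        · exact (mem_normalizer_iff.1 (h'.norm hb.2) _).1 (inv_mem hb'.1)
        · exact h.normal.conj_mem _ (inv_mem hb'.2) b }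
  have hDA : D ≤ A := by
    rintro _ ⟨b, hb, b', hb', rfl⟩
    exact mul_mem hb.2 hb'.2
  have hY : Y ⊓ A ≤ D := fun b hb => ⟨b, hb, 1, one_mem _, by simp⟩
  have hY' : cj g Y ⊓ A ≤ D := fun b hb => ⟨1, one_mem _, b, hb, by simp⟩
  have key : ∀ Z : Subgroup H, Setup p A Z → Z ⊓ A ≤ D → Z ≤ normalizer (D : Set H) := by
    intro Z hZ hZD y hy
    have k : ∀ y ∈ Z, ∀ x ∈ D, y * x * y⁻¹ ∈ D := fun y hy x hx => by
      have := D.mul_mem (hZD (hZ.comm_mem (hDA hx) hy)) hx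
      simpa using this
    refine mem_normalizer_iff.2 fun x => ⟨k y hy x, fun hx => ?_⟩
    simpa [mul_assoc] using k _ (Z.inv_mem hy) _ hx
  have hn : D.Normal := by
    rw [← normalizer_eq_top_iff, eq_top_iff, ← h.sup_eq_top hg]
    exact sup_le (key _ h hY) (key _ h' hY')
  exact (h.gen.trans (normalClosure_le_normal hY)) ha

theorem exists_not_mem (h : Setup p A Y) : ∃ g, g ∉ normalizer (Y : Set H) := by
  by_contra hc
  push Not at hc
  exact h.ne_top (eq_top_iff.2 fun g _ => hc g)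

/-- `A / C` is abelian. -/
theorem le_fixMod (h : Setup p A Y) {a : H} (ha : a ∈ A) :
    A ≤ fixMod (Y ⊓ center H) inf_le_right a := by
  obtain ⟨g, hg⟩ := h.exists_not_mem
  have h' := h.conj g
  have k : ∀ b ∈ Y ⊓ A, ∀ b' ∈ cj g Y ⊓ A, b * b' * b⁻¹ * b'⁻¹ ∈ Y ⊓ center H := by
    intro b hb b' hb'
    have h1 := (h.comm_mem hb'.2 hb.1).1
    have h2 : b * b' * b⁻¹ * b'⁻¹ ∈ cj g Y := by
      have := (cj g Y).inv_mem (h'.comm_mem hb.2 hb'.1).1
      simpa [mul_assoc] using this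
    exact ⟨h1, h.inf_le_center hg ⟨h1, h2⟩⟩
  obtain ⟨b, hb, b', hb', rfl⟩ := h.exists_mul hg ha
  intro x hx
  obtain ⟨c, hc, c', hc', rfl⟩ := h.exists_mul hg hx
  refine mul_mem ?_ ?_
  · rw [mem_fixMod]
    have e : c * (b * b') * c⁻¹ * (b * b')⁻¹ = b * (c * b' * c⁻¹ * b'⁻¹) * b⁻¹ := by
      rw [← mul_assoc, h.comm c hc.1 b hb.1]; group
    have h1 := k c hc b' hb'
    rw [e, mem_center_iff.1 h1.2 b, mul_inv_cancel_right]
    exact h1
  · rw [mem_fixMod]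
    have e : c' * (b * b') * c'⁻¹ * (b * b')⁻¹ = (b * c' * b⁻¹ * c'⁻¹)⁻¹ := by
      rw [mul_assoc c' (b * b'), mul_assoc b b', ← h'.comm _ (inv_mem hc'.1) b' hb'.1]; group
    rw [e]
    exact inv_mem (k b hb c' hc')

/-- An element of `Y` not normalizing `Y^g` fixes only `Y ∩ A` modulo `C`. -/
theorem mem_of_fix (h : Setup p A Y) {g y a : H} (hy : y ∈ Y)
    (hyn : y ∉ normalizer (cj g Y : Set H)) (ha : a ∈ A)
    (hf : y * a * y⁻¹ * a⁻¹ ∈ Y ⊓ center H) : a ∈ Y := by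
  have h' := h.conj g
  have hg : g ∉ normalizer (Y : Set H) := fun hg => hyn (mem_normalizer_cj.2
    (mul_mem (mul_mem (inv_mem hg) (le_normalizer hy)) hg))
  obtain ⟨b, hb, b', hb', rfl⟩ := h.exists_mul hg ha
  have e : y * (b * b') * y⁻¹ * (b * b')⁻¹ = b * (y * b' * y⁻¹ * b'⁻¹) * b⁻¹ := by
    rw [← mul_assoc, h.comm y hy b hb.1]; group
  have h1 : y * b' * y⁻¹ * b'⁻¹ ∈ Y ⊓ center H := by
    have h2 := mem_center_iff.1 hf.2 b⁻¹
    have e2 : y * b' * y⁻¹ * b'⁻¹ = b⁻¹ * (y * (b * b') * y⁻¹ * (b * b')⁻¹) * b := by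
      rw [e]; group
    rw [e2, h2, inv_mul_cancel_right]
    exact hf
  have h2 : fixMod (Y ⊓ center H) inf_le_right b' = ⊤ := by
    by_contra hne
    refine hyn (h'.max _ (fun z hz => ?_) hne h1)
    rw [mem_fixMod, h'.comm z hz b' hb'.1]
    simp
  have h3 : g⁻¹ ∈ fixMod (Y ⊓ center H) inf_le_right b' := h2 ▸ mem_top _
  rw [mem_fixMod] at h3
  have h4 : b' ∈ Y := by
    have := Y.mul_mem (Y.inv_mem h3.1) (mem_cj.1 hb'.1)
    simpa [mul_assoc] using this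
  exact mul_mem hb.1 h4

/-- Not a `p`-element. -/
def NP (p : ℕ) {X : Type*} [Group X] (x : X) : Prop := ∀ k : ℕ, x ^ p ^ k ≠ 1

theorem fpf_aux [Finite H] [Fact p.Prime] (h : Setup p A Y) {g y y' a0 : H} (hy : y ∈ Y)
    (hy' : y' ∈ cj g Y) (ha0 : a0 ∈ A) (hnp : NP p (y * y' * a0)) {a : H} (ha : a ∈ A)
    (hf : y * y' * a0 ∈ fixMod (Y ⊓ center H) inf_le_right a) : a ∈ Y ⊓ center H := by
  have h' := h.conj g
  have := h.normal
  have k : ∀ (Z : Subgroup H) (u : H), IsPGroup p Z → IsPGroup p (zpowers u) →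
      u ∈ normalizer (Z : Set H) → y ∈ zpowers u ⊔ Z → y' ∈ zpowers u ⊔ Z → False := by
    intro Z u hZ hu hn h1 h2
    have h3 := (hu.to_sup_of_normal_right' hZ (zpowers_le.2 hn)).to_sup_of_normal_right h.pA
    obtain ⟨k, hk⟩ := h3 ⟨y * y' * a0, mul_mem (mem_sup_left (mul_mem h1 h2)) (mem_sup_right ha0)⟩
    exact hnp k (congrArg Subtype.val hk)
  have n1 : y ∉ normalizer (cj g Y : Set H) := fun hn =>
    k _ y h'.pY (h.pY.to_le (zpowers_le.2 hy)) hn (mem_sup_left (mem_zpowers _)) (mem_sup_right hy')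
  have n2 : y' ∉ normalizer (Y : Set H) := fun hn =>
    k _ y' h.pY (h'.pY.to_le (zpowers_le.2 hy')) hn (mem_sup_right hy) (mem_sup_left (mem_zpowers _))
  have hg : g ∉ normalizer (Y : Set H) := fun hg => n1 (mem_normalizer_cj.2
    (mul_mem (mul_mem (inv_mem hg) (le_normalizer hy)) hg))
  have f1 : y * y' ∈ fixMod (Y ⊓ center H) inf_le_right a := by
    simpa using mul_mem hf (inv_mem (h.le_fixMod ha ha0))
  rw [mem_fixMod] at f1
  -- `[y', a] = c * [y⁻¹, a]`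
  have e : y' * a * y'⁻¹ * a⁻¹ =
      y⁻¹ * (y * y' * a * (y * y')⁻¹ * a⁻¹) * y * (y⁻¹ * a * y⁻¹⁻¹ * a⁻¹) := by group
  have m1 : y' * a * y'⁻¹ * a⁻¹ ∈ Y := by
    rw [e]
    exact mul_mem (mul_mem (mul_mem (inv_mem hy) f1.1) hy) (h.comm_mem ha (inv_mem hy)).1
  have m2 : y' * a * y'⁻¹ * a⁻¹ ∈ Y ⊓ center H :=
    ⟨m1, h.inf_le_center hg ⟨m1, (h'.comm_mem ha hy').1⟩⟩
  have m3 : y ∈ fixMod (Y ⊓ center H) inf_le_right a := by
    have : y' ∈ fixMod (Y ⊓ center H) inf_le_right a := m2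
    have f2 : y * y' ∈ fixMod (Y ⊓ center H) inf_le_right a := f1
    simpa using mul_mem f2 (inv_mem this)
  have a1 : a ∈ Y := h.mem_of_fix hy n1 ha m3
  have a2 : a ∈ cj g Y := h'.mem_of_fix (g := g⁻¹) hy'
    (by rwa [cj_cj, inv_mul_cancel, cj_one]) ha (by rwa [inf_center_cj])
  exact ⟨a1, h.inf_le_center hg ⟨a1, a2⟩⟩

variable {X : Type*} [Group X]

/-- `x` is a product of two elements of conjugates of `W`. -/
def Prod2 (W : Subgroup X) (x : X) : Prop :=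
  ∃ g g' y y' : X, y ∈ cj g W ∧ y' ∈ cj g' W ∧ x = y * y'

theorem np_iff [Finite H] (h : Setup p A Y) (π : H →* X) (hk : π.ker = A) (x : H) :
    NP p x ↔ NP p (π x) := by
  constructor
  · intro hx k hk'
    obtain ⟨j, hj⟩ := h.pA ⟨x ^ p ^ k, by rw [← hk, MonoidHom.mem_ker, map_pow, hk']⟩
    refine hx (k + j) ?_
    rw [pow_add, pow_mul]
    exact congrArg Subtype.val hj
  · intro hx k hk'
    exact hx k (by rw [← map_pow, hk', map_one])

theorem fpf [Finite H] [Fact p.Prime] (h : Setup p A Y) (π : H →* X) (hs : Function.Surjective π)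
    (hk : π.ker = A) {x : H} (hnp : NP p (π x)) (hx : Prod2 (Y.map π) (π x)) {a : H} (ha : a ∈ A)
    (hf : x ∈ fixMod (Y ⊓ center H) inf_le_right a) : a ∈ Y ⊓ center H := by
  obtain ⟨g, g', y, y', hy, hy', e⟩ := hx
  obtain ⟨g, rfl⟩ := hs g
  obtain ⟨g', rfl⟩ := hs g'
  obtain ⟨_, ⟨z, hz, rfl⟩, rfl⟩ := hy
  obtain ⟨_, ⟨z', hz', rfl⟩, rfl⟩ := hy'
  have ha0 : (g * z * g⁻¹ * (g' * z' * g'⁻¹))⁻¹ * x ∈ A := by
    rw [← hk, MonoidHom.mem_ker, map_mul, map_inv, e]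
    simp [mul_assoc]
  have e2 : g * z * g⁻¹ * (g' * z' * g'⁻¹) * ((g * z * g⁻¹ * (g' * z' * g'⁻¹))⁻¹ * x) = x := by
    group
  have := (h.conj g).fpf_aux (g := g' * g⁻¹) (y := g * z * g⁻¹) (y' := g' * z' * g'⁻¹)
    (mem_cj.2 (by simpa [mul_assoc] using hz))
    (by rw [cj_cj]; exact mem_cj.2 (by simpa [mul_assoc] using hz')) ha0
    (by rw [e2]; exact (h.np_iff π hk x).2 hnp) ha
    (by rw [e2, mem_fixMod, inf_center_cj]; exact hf)
  rwa [inf_center_cj] at this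

/-- The case of a central square. -/
theorem fpf_sq [Finite H] [Fact p.Prime] (h : Setup p A Y) (π : H →* X)
    (hs : Function.Surjective π) (hk : π.ker = A) {x : H} {w t : X} (hxw : π x = w * w)
    (hc : π x ∈ center X) (hw : NP p w) (hw2 : Prod2 (Y.map π) w)
    (ht : NP p (t * w * t⁻¹ * w⁻¹)) (ht2 : Prod2 (Y.map π) (t * w * t⁻¹ * w⁻¹)) {a : H}
    (ha : a ∈ A) (hf : x ∈ fixMod (Y ⊓ center H) inf_le_right a) : a ∈ Y ⊓ center H := by
  obtain ⟨w, rfl⟩ := hs w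
  obtain ⟨t, rfl⟩ := hs t
  set C := Y ⊓ center H with hC
  have hA := h.normal
  have cong : ∀ u v b : H, b ∈ A → π u = π v → u ∈ fixMod C inf_le_right b →
      v ∈ fixMod C inf_le_right b := by
    intro u v b hb huv hu
    have : u⁻¹ * v ∈ A := by rw [← hk, MonoidHom.mem_ker, map_mul, map_inv, huv, inv_mul_cancel]
    simpa using mul_mem hu (h.le_fixMod hb this)
  -- `w` inverts every fixed point of `x`
  have inv : ∀ b ∈ A, x ∈ fixMod C inf_le_right b → w * b * w⁻¹ * b ∈ C := by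
    intro b hb hxb
    have h1 : w * w ∈ fixMod C inf_le_right b := cong x _ b hb (by rw [map_mul, hxw]) hxb
    have hb' : w * b * w⁻¹ ∈ A := hA.conj_mem b hb w
    refine h.fpf π hs hk hw hw2 (mul_mem hb' hb) ?_
    rw [mem_fixMod] at h1 ⊢
    have h2 : b ∈ fixMod C inf_le_right (w * b * w⁻¹) := h.le_fixMod hb' hb
    rw [mem_fixMod] at h2
    have e : w * (w * b * w⁻¹ * b) * w⁻¹ * (w * b * w⁻¹ * b)⁻¹ =
        (w * w * b * (w * w)⁻¹ * b⁻¹) * (b * (w * b * w⁻¹) * b⁻¹ * (w * b * w⁻¹)⁻¹) := by group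
    rw [e]
    exact mul_mem h1 h2
  have cen : ∀ c ∈ C, ∀ u : H, u * c * u⁻¹ = c := fun c hc u => by
    rw [mem_center_iff.1 hc.2 u, mul_inv_cancel_right]
  have stab : ∀ u : H, x ∈ fixMod C inf_le_right (u⁻¹ * a * u) := by
    intro u
    have h1 : u * x * u⁻¹ ∈ fixMod C inf_le_right a := cong x _ a ha (by
      rw [map_mul, map_mul, mem_center_iff.1 hc (π u), map_inv, mul_inv_cancel_right]) hf
    rw [mem_fixMod] at h1 ⊢
    have e : x * (u⁻¹ * a * u) * x⁻¹ * (u⁻¹ * a * u)⁻¹ =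
        u⁻¹ * (u * x * u⁻¹ * a * (u * x * u⁻¹)⁻¹ * a⁻¹) * u⁻¹⁻¹ := by group
    rw [e, cen _ h1]
    exact h1
  have conjA : ∀ u : H, u⁻¹ * a * u ∈ A := fun u => by simpa using hA.conj_mem a ha u⁻¹
  refine h.fpf π hs hk (x := t * w * t⁻¹ * w⁻¹) (by simpa using ht) (by simpa using ht2) ha ?_
  rw [mem_fixMod]
  have i1 := inv _ (conjA w) (stab w)
  have i2 := inv _ (conjA t) (stab t)
  set c1 := w * (w⁻¹ * a * w) * w⁻¹ * (w⁻¹ * a * w) with hc1
  set c2 := w * (t⁻¹ * a * t) * w⁻¹ * (t⁻¹ * a * t) with hc2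
  have e1 : w⁻¹ * a * w = a⁻¹ * c1 := by rw [hc1]; group
  have e : t * w * t⁻¹ * w⁻¹ * a * (t * w * t⁻¹ * w⁻¹)⁻¹ * a⁻¹ =
      (t * w * t⁻¹) * (w⁻¹ * a * w) * (t * w * t⁻¹)⁻¹ * a⁻¹ := by group
  have e2 : (t * w * t⁻¹) * a⁻¹ * (t * w * t⁻¹)⁻¹ = a * (t * c2 * t⁻¹)⁻¹ := by rw [hc2]; group
  have e3 : (t * w * t⁻¹) * (a⁻¹ * c1) * (t * w * t⁻¹)⁻¹ * a⁻¹ =
      ((t * w * t⁻¹) * a⁻¹ * (t * w * t⁻¹)⁻¹) * ((t * w * t⁻¹) * c1 * (t * w * t⁻¹)⁻¹) * a⁻¹ := by
    group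
  rw [e, e1, e3, e2, cen _ i1, cen _ i2, mul_assoc a, cen _ (mul_mem (inv_mem i2) i1)]
  exact mul_mem (inv_mem i2) i1

end Setup

end CL.FrakL
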