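/-
Products of two elements of conjugates of a `p`-subgroup in `SL₂(q)`, `Sz(q)`, `D_{2r}`.
-/
import Mathlib
import Cfsg.Agent.TECH.FrakLFix

set_option autoImplicit false

namespace CL.FrakL

open Subgroup Setup Matrix

theorem prod2_of_inv {X : Type*} [Group X] {W : Subgroup X} {y : X} (hy : y ∈ W)
    {x s t : X} (hs : IsConj y s) (ht : IsConj y t) (e : x = s * t) : Prod2 W x := by
  obtain ⟨a, rfl⟩ := isConj_iff.1 hs
  obtain ⟨b, rfl⟩ := isConj_iff.1 ht
  exact ⟨a, b, _, _, mem_cj.2 (by simpa [mul_assoc] using hy),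
    mem_cj.2 (by simpa [mul_assoc] using hy), e⟩

theorem prod2_dihedral {r : ℕ} (hr : Odd r) {W : Subgroup (DihedralGroup r)} {y : DihedralGroup r}
    (hy : y ∈ W) (h1 : y ≠ 1) (h2 : y ^ 2 = 1) {x : DihedralGroup r} (hx : NP 2 x) :
    Prod2 W x := by
  have hu : IsUnit (2 : ZMod r) := by
    have := (ZMod.isUnit_iff_coprime 2 r).2 (Nat.coprime_two_left.2 hr)
    simpa using this
  obtain ⟨u, hu⟩ := hu.exists_left_inv
  rcases y with j | j
  · exfalso
    apply h1
    rw [pow_two, DihedralGroup.r_mul_r, DihedralGroup.one_def, DihedralGroup.r.injEq] at h2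
    rw [DihedralGroup.one_def, DihedralGroup.r.injEq]
    linear_combination u * h2 - j * hu
  have key : ∀ i, IsConj (DihedralGroup.sr j : DihedralGroup r) (DihedralGroup.sr i) := by
    intro i
    refine isConj_iff.2 ⟨DihedralGroup.r (u * (j - i)), ?_⟩
    rw [DihedralGroup.inv_r, DihedralGroup.r_mul_sr, DihedralGroup.sr_mul_r,
      DihedralGroup.sr.injEq]
    linear_combination (i - j) * hu
  rcases x with i | i
  · exact prod2_of_inv hy (key 0) (key i) (by simp)
  · exact absurd (by simp [pow_two]) (hx 1)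

theorem sz_inv {F : Type*} [Field F] [CharP F 2] [Fintype F] {m : ℕ} {G : Type*} [Group G]
    (M : CL.Sz.Model (CL.Sz.theta F m) G) (hF : Fintype.card F = 2 ^ (2 * m + 1)) {x : G}
    (hx : NP 2 x) : ∃ t : G, orderOf t = 2 ∧ t * x * t = x⁻¹ := by
  have := M.finite_G
  have key : ∀ (P N : Subgroup G) (s : ℕ), CL.Sz.Tor P N s → ∀ c ∈ P,
      ∃ t : G, orderOf t = 2 ∧ t * c * t = c⁻¹ := by
    intro P N s T c hc
    obtain ⟨⟨t, ht⟩, h2⟩ := exists_prime_orderOf_dvd_card' (G := N) 2 (by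
      rw [T.card]; rcases T.s_eq with rfl | rfl <;> omega)
    rw [Subgroup.orderOf_mk] at h2
    exact ⟨t, h2, T.conj_eq_inv ht h2 hc⟩
  have h1 : x ≠ 1 := by simpa using hx 0
  rcases M.trichotomy h1 with h | h | h
  · exact absurd (M.pow_four_of_mem_conjSet_U h) (hx 2)
  · obtain ⟨-, k, l, hl⟩ := h
    have hl' : k⁻¹ * x * k = M.h l := hl.symm
    have l1 : (l : F) ≠ 1 := fun h => CL.Sz.inv_conj_ne_one k h1 (by
      rw [hl', show l = 1 from Units.ext h, map_one])
    obtain ⟨t, ht, e⟩ := key _ _ _ (M.tor_H l.ne_zero l1) _ (M.h_mem_H l)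
    refine ⟨k * t * k⁻¹, ?_, ?_⟩
    · rw [← ht]; exact (MulAut.conj k).orderOf_eq t
    · rw [← hl'] at e
      calc k * t * k⁻¹ * x * (k * t * k⁻¹) = k * (t * (k⁻¹ * x * k) * t) * k⁻¹ := by group
        _ = _ := by rw [e]; group
  · rcases Nat.eq_zero_or_pos m with rfl | hm
    · have hq : Nat.card F = 2 := by rw [Nat.card_eq_fintype_card, hF]; rfl
      have hG : Nat.card G = 20 := by rw [M.card_G, hq]; rfl
      have h5 : Nat.card (centralizer {x}) = 5 := by
        have a1 := h.card_centralizer_dvd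
        have a2 := h.five_le_card_centralizer
        rw [hq] at a1
        exact le_antisymm (Nat.le_of_dvd (by norm_num) a1) a2
      have : Fact (Nat.Prime 5) := ⟨by norm_num⟩
      have hf : (Nat.card G).factorization 5 = 1 := by
        rw [hG, show (20 : ℕ) = 5 * 4 from rfl, Nat.factorization_mul (by norm_num) (by norm_num)]
        simp [Nat.Prime.factorization_self (by norm_num : Nat.Prime 5),
          Nat.factorization_eq_zero_of_not_dvd (by norm_num : ¬ 5 ∣ 4)]
      let P : Sylow 5 G := Sylow.ofCard (centralizer {x}) (by rw [hf, h5]; rfl)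
      have hP : (P : Subgroup G) = centralizer {x} := rfl
      have i4 : (P : Subgroup G).index = 4 := by
        have := (P : Subgroup G).card_mul_index
        rw [hP, h5, hG] at this
        rw [hP]; omega
      have c1 : Nat.card (Sylow 5 G) = 1 := by
        have a1 := P.card_dvd_index
        have a2 := card_sylow_modEq_one 5 G
        rw [i4] at a1
        have a3 := Nat.le_of_dvd (by norm_num) a1
        unfold Nat.ModEq at a2
        omega
      have hn : normalizer (centralizer {x} : Set G) = ⊤ := by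
        rw [← index_eq_one, ← c1]
        exact (Sylow.card_eq_index_normalizer P).symm
      refine key (centralizer {x}) (normalizer (centralizer {x} : Set G)) 4
        ⟨by rw [h5]; decide, ?_, fun _ hc h1 => h.centralizer_eq hc h1,
          fun _ hc h1 => h.conj_mem_centralizer_iff hc h1, by rw [hn, card_top, hG, h5],
          Or.inr rfl⟩ x (mem_centralizer_singleton_iff.2 rfl)
      intro hb
      rw [hb, card_bot] at h5
      omega
    · exact key _ _ _ (h.tor hm hF) x (mem_centralizer_singleton_iff.2 rfl)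

theorem prod2_sz {F : Type*} [Field F] [CharP F 2] [Fintype F] {m : ℕ} {G : Type*} [Group G]
    (M : CL.Sz.Model (CL.Sz.theta F m) G) (hF : Fintype.card F = 2 ^ (2 * m + 1))
    {W : Subgroup G} {y : G} (hy : y ∈ W) (h1 : y ≠ 1) (h2 : y ^ 2 = 1) {x : G} (hx : NP 2 x) :
    Prod2 W x := by
  obtain ⟨t, ht, e⟩ := sz_inv M hF hx
  have hy2 : orderOf y = 2 := orderOf_eq_prime h2 h1
  have htt : t * t = 1 := by rw [← pow_two, ← ht, pow_orderOf_eq_one]
  have h3 : orderOf (t * x) = 2 := by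
    refine orderOf_eq_prime ?_ fun h => hx 1 ?_
    · rw [pow_two, ← mul_assoc, e, inv_mul_cancel]
    · rw [pow_one, pow_two, ← (inv_eq_of_mul_eq_one_right h), ← _root_.mul_inv_rev, htt, inv_one]
  have c : ∀ s, orderOf s = 2 → IsConj y s := fun s hs => by
    obtain ⟨k, hk⟩ := M.conj_of_orderOf_two hy2 hs
    exact isConj_iff.2 ⟨k⁻¹, by rw [hk, inv_inv]⟩
  exact prod2_of_inv hy (c t ht) (c _ h3) (by rw [← mul_assoc, htt, one_mul])

section SL2

variable {F : Type*} [Field F] [Fintype F]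

omit [Fintype F] in
theorem smul_ap (g : SpecialLinearGroup (Fin 2) F) (v : Fin 2 → F) (i : Fin 2) :
    (g • v) i = g.1 i 0 * v 0 + g.1 i 1 * v 1 := by
  change (g.1 *ᵥ v) i = _
  simp [mulVec, dotProduct]

omit [Fintype F] in
theorem exists_sl (a b c d : F) (h : a * d - b * c = 1) : ∃ g : SpecialLinearGroup (Fin 2) F,
    ∀ v : Fin 2 → F, (g • v) 0 = a * v 0 + b * v 1 ∧ (g • v) 1 = c * v 0 + d * v 1 :=
  ⟨⟨!![a, b; c, d], by rw [det_fin_two_of, h]⟩, fun v => ⟨smul_ap _ v 0, smul_ap _ v 1⟩⟩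

omit [Field F] [Fintype F] in
theorem ext2 {u v : Fin 2 → F} (h0 : u 0 = v 0) (h1 : u 1 = v 1) : u = v := by
  ext i; fin_cases i
  exacts [h0, h1]

omit [Fintype F] in
theorem exists_smul_eq {u v : Fin 2 → F} (hu : u ≠ 0) (hv : v ≠ 0) :
    ∃ g : SpecialLinearGroup (Fin 2) F, g • u = v := by
  have key : ∀ u : Fin 2 → F, u ≠ 0 → ∃ g : SpecialLinearGroup (Fin 2) F, g • ![1, 0] = u := by
    intro u hu
    by_cases h0 : u 0 = 0
    · have h1 : u 1 ≠ 0 := fun h1 => hu (by ext i; fin_cases i <;> simp [h0, h1])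
      obtain ⟨g, hg⟩ := exists_sl 0 (-(u 1)⁻¹) (u 1) 0 (by simp [h1])
      exact ⟨g, ext2 (by simp [(hg _).1, h0]) (by simp [(hg _).2])⟩
    · obtain ⟨g, hg⟩ := exists_sl (u 0) 0 (u 1) (u 0)⁻¹ (by simp [h0])
      exact ⟨g, ext2 (by simp [(hg _).1]) (by simp [(hg _).2])⟩
  obtain ⟨a, rfl⟩ := key u hu
  obtain ⟨b, rfl⟩ := key v hv
  exact ⟨b * a⁻¹, by rw [smul_smul, inv_mul_cancel_right]⟩

theorem card_stabilizer_le {v : Fin 2 → F} (hv : v ≠ 0) :
    Nat.card (MulAction.stabilizer (SpecialLinearGroup (Fin 2) F) v) ≤ Fintype.card F := by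
  obtain ⟨g, hg⟩ := exists_smul_eq (u := ![1, 0]) (by simp) hv
  rw [← hg, MulAction.stabilizer_smul_eq_stabilizer_map_conj,
    card_map_of_injective (MulAut.conj g).injective, ← Nat.card_eq_fintype_card]
  refine Nat.card_le_card_of_injective (fun a => a.1.1 0 1) ?_
  rintro ⟨a, ha⟩ ⟨b, hb⟩ h
  have k : ∀ a : SpecialLinearGroup (Fin 2) F, a ∈ MulAction.stabilizer _ (![1, 0] : Fin 2 → F) →
      a.1 0 0 = 1 ∧ a.1 1 0 = 0 ∧ a.1 1 1 = 1 := by
    intro a ha
    have h0 := congrFun ha 0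
    have h1 := congrFun ha 1
    simp [smul_ap] at h0 h1
    have hd := a.det_coe
    rw [det_fin_two, h0, h1] at hd
    exact ⟨h0, h1, by simpa using hd⟩
  obtain ⟨a0, a1, a2⟩ := k a ha
  obtain ⟨b0, b1, b2⟩ := k b hb
  refine Subtype.ext (Subtype.ext ?_)
  ext i j
  fin_cases i <;> fin_cases j
  · exact a0.trans b0.symm
  · exact h
  · exact a1.trans b1.symm
  · exact a2.trans b2.symm

theorem exists_eq_stabilizer {p : ℕ} [Fact p.Prime] [CharP F p]
    {W : Subgroup (SpecialLinearGroup (Fin 2) F)} (hW : IsPGroup p W)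
    (hc : Nat.card W = Fintype.card F) :
    ∃ v : Fin 2 → F, v ≠ 0 ∧ W = MulAction.stabilizer _ v := by
  have hd : p ∣ Nat.card (Fin 2 → F) := by
    obtain ⟨n, -, hn⟩ := FiniteField.card F p
    rw [Nat.card_fun, Nat.card_eq_fintype_card, hn]
    exact (dvd_pow_self p n.ne_zero).trans (dvd_pow_self _ (by simp))
  obtain ⟨v, hv, h0⟩ := hW.exists_fixed_point_of_prime_dvd_card_of_fixed_point (Fin 2 → F) hd
    (a := 0) (fun g => smul_zero g)
  refine ⟨v, h0.symm, eq_of_le_of_card_ge (fun g hg => hv ⟨g, hg⟩) ?_⟩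
  rw [hc]
  exact card_stabilizer_le h0.symm

theorem prod2_sl {p : ℕ} [Fact p.Prime] [CharP F p]
    {W : Subgroup (SpecialLinearGroup (Fin 2) F)} (hW : IsPGroup p W)
    (hc : Nat.card W = Fintype.card F) {x : SpecialLinearGroup (Fin 2) F}
    (hx : ¬ (x.1 0 1 = 0 ∧ x.1 1 0 = 0 ∧ x.1 0 0 = x.1 1 1)) : Prod2 W x := by
  obtain ⟨v, hv, rfl⟩ := exists_eq_stabilizer hW hc
  have mem : ∀ (u : Fin 2 → F) (y : SpecialLinearGroup (Fin 2) F), u ≠ 0 → y • u = u →
      ∃ g, y ∈ cj g (MulAction.stabilizer _ v) := by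
    intro u y hu hy
    obtain ⟨g, rfl⟩ := exists_smul_eq hv hu
    refine ⟨g, mem_cj.2 ?_⟩
    rw [MulAction.mem_stabilizer_iff, mul_smul, mul_smul, hy, inv_smul_smul]
  -- a vector that is not an eigenvector
  obtain ⟨u, hu⟩ : ∃ u : Fin 2 → F, u 0 * (x • u) 1 - u 1 * (x • u) 0 ≠ 0 := by
    by_contra hn
    push Not at hn
    have h0 := hn ![1, 0]
    have h1 := hn ![0, 1]
    have h2 := hn ![1, 1]
    simp [smul_ap] at h0 h1 h2
    exact hx ⟨h1, h0, by linear_combination h0 - h1 - h2⟩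
  set d := u 0 * (x • u) 1 - u 1 * (x • u) 0 with hd
  set a := (x • u) 0 - u 0 with ha
  set b := (x • u) 1 - u 1 with hb
  have hd' : d = u 0 * b - u 1 * a := by rw [hd, ha, hb]; ring
  obtain ⟨y, hy⟩ := exists_sl (1 + a * b / d) (-(a * a) / d) (b * b / d) (1 - a * b / d)
    (by field_simp; ring)
  have y1 : y • ![a, b] = ![a, b] := by
    refine ext2 ?_ ?_
    · rw [(hy _).1]; simp only [cons_val_zero, cons_val_one]; ring
    · rw [(hy _).2]; simp only [cons_val_zero, cons_val_one]; ring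
  have y2 : y • u = x • u := by
    refine ext2 ?_ ?_
    · rw [(hy _).1, show (x • u) 0 = a + u 0 by rw [ha]; ring]
      field_simp
      rw [hd']; ring
    · rw [(hy _).2, show (x • u) 1 = b + u 1 by rw [hb]; ring]
      field_simp
      rw [hd']; ring
  obtain ⟨g, hg⟩ := mem ![a, b] y (fun h => hu (by
    have h0 : a = 0 := congrFun h 0
    have h1 : b = 0 := congrFun h 1
    rw [hd', h0, h1]; ring)) y1
  obtain ⟨g', hg'⟩ := mem u (y⁻¹ * x) (fun h => hu (by rw [hd, h]; simp))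
    (by rw [mul_smul, ← y2, inv_smul_smul])
  exact ⟨g, g', _, _, hg, hg', by group⟩

omit [Fintype F] in
theorem np_of_trace {p : ℕ} [Fact p.Prime] [CharP F p] {x : SpecialLinearGroup (Fin 2) F}
    (hx : x.1 0 0 + x.1 1 1 ≠ 2) : NP p x := by
  intro k hk
  apply hx
  have h0 : (x : Matrix (Fin 2) (Fin 2) F) ^ p ^ k = 1 :=
    (Matrix.SpecialLinearGroup.coe_pow x (p ^ k)).symm.trans (congrArg Subtype.val hk)
  change (x : Matrix (Fin 2) (Fin 2) F) 0 0 + (x : Matrix (Fin 2) (Fin 2) F) 1 1 = 2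
  generalize (x : Matrix (Fin 2) (Fin 2) F) = y at h0
  have h1 : (y - 1) ^ p ^ k = 0 := by
    rw [sub_pow_char_pow_of_commute p k (Commute.one_right _), one_pow, h0, sub_self]
  have h2 := (Matrix.isNilpotent_trace_of_isNilpotent ⟨_, h1⟩).eq_zero
  rw [trace_fin_two] at h2
  simp only [Matrix.sub_apply, one_apply_eq] at h2
  linear_combination h2

theorem fpf_sl {H : Type*} [Group H] [Finite H] {p : ℕ} [Fact p.Prime] {A Y : Subgroup H}
    (h : Setup p A Y) (π : H →* SpecialLinearGroup (Fin 2) F) (hs : Function.Surjective π)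
    (hk : π.ker = A) (hc : Nat.card (Y.map π) = Fintype.card F) {x : H} (hx : NP p (π x)) {a : H}
    (ha : a ∈ A) (hf : x ∈ fixMod (Y ⊓ center H) inf_le_right a) : a ∈ Y ⊓ center H := by
  have hW := h.pY.map π
  have hp : CharP F p := by
    obtain ⟨r, hr⟩ := CharP.exists F
    obtain ⟨n, hr', hn⟩ := FiniteField.card F r
    obtain ⟨k, hk⟩ := IsPGroup.iff_card.1 hW
    have h1 : r ∣ p ^ k := by rw [← hk, hc, hn]; exact dvd_pow_self r n.ne_zero
    rwa [(Nat.prime_dvd_prime_iff_eq hr' Fact.out).1 (hr'.dvd_of_dvd_pow h1)] at hr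
  by_cases hsc : (π x).1 0 1 = 0 ∧ (π x).1 1 0 = 0 ∧ (π x).1 0 0 = (π x).1 1 1
  swap
  · exact h.fpf π hs hk hx (prod2_sl hW hc hsc) ha hf
  obtain ⟨h1, h2, h3⟩ := hsc
  have hd : (π x).1 0 0 * (π x).1 1 1 - (π x).1 0 1 * (π x).1 1 0 = 1 :=
    (det_fin_two _).symm.trans (π x).2
  rw [h1, ← h3, zero_mul, sub_zero] at hd
  have ext : ∀ u v : SpecialLinearGroup (Fin 2) F, u.1 0 0 = v.1 0 0 → u.1 0 1 = v.1 0 1 →
      u.1 1 0 = v.1 1 0 → u.1 1 1 = v.1 1 1 → u = v := by
    intro u v a b c d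
    refine Subtype.ext ?_
    ext i j
    fin_cases i <;> fin_cases j
    exacts [a, b, c, d]
  have n1 : (π x).1 0 0 ≠ 1 := fun h => by
    simpa using (hx 0) (by rw [pow_zero, pow_one]; exact ext _ _ h h1 h2 (h3 ▸ h))
  have e1 : (π x).1 0 0 = -1 := (mul_self_eq_one_iff.1 hd).resolve_left n1
  have n2 : (2 : F) ≠ 0 := fun h => n1 (by rw [e1]; linear_combination -h)
  have hm : π x = -1 := ext _ _ (by simp [e1]) (by simp [h1]) (by simp [h2]) (by simp [← h3, e1])
  let w : SpecialLinearGroup (Fin 2) F := ⟨!![0, -1; 1, 0], by simp [det_fin_two]⟩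
  let t : SpecialLinearGroup (Fin 2) F := ⟨!![1, 1; 0, 1], by simp [det_fin_two]⟩
  let u : SpecialLinearGroup (Fin 2) F := ⟨!![2, 1; 1, 1], by rw [det_fin_two_of]; ring⟩
  have hu : t * w * t⁻¹ * w⁻¹ = u := by
    rw [mul_inv_eq_iff_eq_mul, mul_inv_eq_iff_eq_mul]
    refine Subtype.ext ?_
    change !![1, 1; 0, 1] * !![0, -1; 1, 0] = !![(2 : F), 1; 1, 1] * !![0, -1; 1, 0] * !![1, 1; 0, 1]
    simp only [mul_fin_two]
    norm_num
  refine h.fpf_sq π hs hk (w := w) (t := t) ?_ ?_ (np_of_trace ?_) (prod2_sl hW hc ?_) ?_ ?_ ha hf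
  · rw [hm]
    refine Subtype.ext ?_
    change -1 = !![(0 : F), -1; 1, 0] * !![0, -1; 1, 0]
    rw [one_fin_two]
    simp
  · rw [hm]
    exact mem_center_iff.2 fun g => by simp
  · simpa [w] using n2.symm
  · simp [w]
  · rw [hu]
    refine np_of_trace ?_
    simp [u]
  · rw [hu]
    refine prod2_sl hW hc ?_
    simp [u]

end SL2

end CL.FrakL
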