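/-
Subgroups of symmetric groups containing two four-groups with disjoint supports.
-/
import Mathlib
import Cfsg.Agent.TECH.AltOver
import Cfsg.Agent.KSG.AltInvol
import Cfsg.Agent.PERM.JordanCycle

set_option autoImplicit false
set_option linter.unusedSectionVars false
set_option maxHeartbeats 400000

namespace CL.AltOver

open Equiv Equiv.Perm Subgroup CL.KSG CL.Misc CL.Comp Cfsg CL.AltInvol
open scoped commutatorElement

variable {α : Type*} [Fintype α] [DecidableEq α]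

/-- The regular four-group on `{a, b, c, d}` lies in `H`. -/
structure Qd (H : Subgroup (Perm α)) (a b c d : α) : Prop where
  ab : a ≠ b
  ac : a ≠ c
  ad : a ≠ d
  bc : b ≠ c
  bd : b ≠ d
  cd : c ≠ d
  m1 : swap a b * swap c d ∈ H
  m2 : swap a c * swap b d ∈ H

variable {H : Subgroup (Perm α)} {a b c d e f g : α}

theorem ss_comm (ac : a ≠ c) (ad : a ≠ d) (bc : b ≠ c) (bd : b ≠ d) :
    swap a b * swap c d = swap c d * swap a b := by
  ext x
  simp only [coe_mul, Function.comp_apply, swap_apply_def]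
  grind

theorem Qd.nodup (h : Qd H a b c d) : [a, b, c, d].Nodup := by
  simp [h.ab, h.ac, h.ad, h.bc, h.bd, h.cd]

theorem Qd.s12 (h : Qd H a b c d) : Qd H b a c d :=
  ⟨h.ab.symm, h.bc, h.bd, h.ac, h.ad, h.cd, by rw [swap_comm b a]; exact h.m1, by
    rw [← swap_swap_mul_swap_swap h.nodup]; exact mul_mem h.m1 h.m2⟩

theorem Qd.s23 (h : Qd H a b c d) : Qd H a c b d :=
  ⟨h.ac, h.ab, h.ad, h.bc.symm, h.cd, h.bd, h.m2, h.m1⟩

theorem Qd.s34 (h : Qd H a b c d) : Qd H a b d c :=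
  ⟨h.ab, h.ad, h.ac, h.bd, h.bc, h.cd.symm, by rw [swap_comm d c]; exact h.m1, by
    rw [ss_comm h.ab h.ac h.bd.symm h.cd.symm]; exact h.s12.m2⟩

theorem Qd.conj (h : Qd H a b c d) {k : Perm α} (hk : k ∈ H) : Qd H (k a) (k b) (k c) (k d) := by
  have key : ∀ x y u v : α, swap (k x) (k y) * swap (k u) (k v) = k * (swap x y * swap u v) * k⁻¹ :=
    fun x y u v => by rw [swap_apply_apply, swap_apply_apply]; group
  exact ⟨k.injective.ne h.ab, k.injective.ne h.ac, k.injective.ne h.ad, k.injective.ne h.bc,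
    k.injective.ne h.bd, k.injective.ne h.cd,
    by rw [key]; exact mul_mem (mul_mem hk h.m1) (inv_mem hk),
    by rw [key]; exact mul_mem (mul_mem hk h.m2) (inv_mem hk)⟩

theorem ss_1 (h : Qd H a b c d) : (swap a b * swap c d) a = b := by
  simp [swap_apply_of_ne_of_ne h.ac h.ad]

theorem ss_2 (h : Qd H a b c d) : (swap a b * swap c d) b = a := by
  simp [swap_apply_of_ne_of_ne h.bc h.bd]

theorem ss_3 (h : Qd H a b c d) : (swap a b * swap c d) c = d := by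
  simp [swap_apply_of_ne_of_ne h.ad.symm h.bd.symm]

theorem ss_4 (h : Qd H a b c d) : (swap a b * swap c d) d = c := by
  simp [swap_apply_of_ne_of_ne h.ac.symm h.bc.symm]

theorem ss_o {x : α} (h1 : x ≠ a) (h2 : x ≠ b) (h3 : x ≠ c) (h4 : x ≠ d) :
    (swap a b * swap c d) x = x := by
  simp [swap_apply_of_ne_of_ne, *]

theorem Qd.ne_one (h : Qd H a b c d) : swap a b * swap c d ≠ 1 := fun e =>
  h.ab (by have := ss_1 h; rw [e] at this; exact this)

theorem Qd.card_le (h : Qd H a b c d) : (swap a b * swap c d).support.card ≤ 4 :=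
  (card_support_swap_swap h.nodup).le

theorem ss_mem_permOn {S : Finset α} (ha : a ∈ S) (hb : b ∈ S) (hc : c ∈ S) (hd : d ∈ S) :
    swap a b * swap c d ∈ permOn S := mul_mem (swap_mem_permOn ha hb) (swap_mem_permOn hc hd)

/-- symmetric difference -/
theorem Qd.symmDiff (h : Qd H a b c d) (h' : Qd H a b e f) (ce : c ≠ e) (cf : c ≠ f) (de : d ≠ e)
    (df : d ≠ f) : Qd H c d e f := by
  have := h'.conj h.m2
  rwa [ss_1 h.s23, ss_3 h.s23, ss_o h'.ac.symm ce.symm h'.bc.symm de.symm,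
    ss_o h'.ad.symm cf.symm h'.bd.symm df.symm] at this

/-- blocks -/
def Blk (H : Subgroup (Perm α)) (S : Finset α) : Prop := ∃ a b c d, Qd H a b c d ∧ S = {a, b, c, d}

variable {S : Finset α}

theorem Qd.blk (h : Qd H a b c d) : Blk H {a, b, c, d} := ⟨a, b, c, d, h, rfl⟩

theorem Blk.card (h : Blk H S) : S.card = 4 := by
  obtain ⟨a, b, c, d, h, rfl⟩ := h
  simpa using List.toFinset_card_of_nodup h.nodup

theorem Blk.map (h : Blk H S) {k : Perm α} (hk : k ∈ H) : Blk H (S.map k.toEmbedding) := by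
  obtain ⟨a, b, c, d, h, rfl⟩ := h
  exact ⟨_, _, _, _, h.conj hk, by simp⟩

theorem mem_map_inv {k : Perm α} {x : α} : x ∈ S.map k⁻¹.toEmbedding ↔ k x ∈ S :=
  Finset.mem_map_equiv

theorem Blk.one (h : Blk H S) (ha : a ∈ S) : ∃ b c d, Qd H a b c d ∧ S = {a, b, c, d} := by
  obtain ⟨p, q, r, s, h, rfl⟩ := h
  simp only [Finset.mem_insert, Finset.mem_singleton] at ha
  rcases ha with rfl | rfl | rfl | rfl
  · exact ⟨_, _, _, h, rfl⟩
  · exact ⟨_, _, _, h.s12, by ext; simp; tauto⟩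
  · exact ⟨_, _, _, h.s23.s12, by ext; simp; tauto⟩
  · exact ⟨_, _, _, h.s34.s23.s12, by ext; simp; tauto⟩

theorem Blk.two (h0 : Blk H S) (ha : a ∈ S) (hb : b ∈ S) (ab : a ≠ b) :
    ∃ c d, Qd H a b c d ∧ S = {a, b, c, d} := by
  obtain ⟨q, r, s, h, hS⟩ := h0.one ha
  subst hS
  simp only [Finset.mem_insert, Finset.mem_singleton] at hb
  rcases hb with rfl | rfl | rfl | rfl
  · exact absurd rfl ab
  · exact ⟨_, _, h, rfl⟩
  · exact ⟨_, _, h.s23, by ext; simp; tauto⟩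
  · exact ⟨_, _, h.s34.s23, by ext; simp; tauto⟩

theorem Blk.three (h0 : Blk H S) (ha : a ∈ S) (hb : b ∈ S) (hc : c ∈ S) (ab : a ≠ b) (ac : a ≠ c)
    (bc : b ≠ c) : ∃ d, Qd H a b c d ∧ S = {a, b, c, d} := by
  obtain ⟨r, s, h, hS⟩ := h0.two ha hb ab
  subst hS
  simp only [Finset.mem_insert, Finset.mem_singleton] at hc
  rcases hc with rfl | rfl | rfl | rfl
  · exact absurd rfl ac
  · exact absurd rfl bc
  · exact ⟨_, h, rfl⟩
  · exact ⟨_, h.s34, by ext; simp; tauto⟩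

/-- `H` contains no three-cycle. -/
def No3 (H : Subgroup (Perm α)) : Prop := ∀ c ∈ H, ¬ c.IsThreeCycle

theorem No3.not_one (hn : No3 H) (h : Qd H a b c d) (hS : Blk H S) (ha : a ∈ S) (hb : b ∉ S)
    (hc : c ∉ S) (hd : d ∉ S) : False := by
  obtain ⟨q, r, s, h', rfl⟩ := hS.one ha
  refine hn _ (mul_mem (mul_mem (mul_mem h.m1 h'.m1) (inv_mem h.m1)) (inv_mem h'.m1))
    (CL.Perm.isThreeCycle_commutator_of_inter_eq (a := a) (by rw [ss_1 h]; exact h.ab.symm)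
      (by rw [ss_1 h']; exact h'.ab.symm) fun x hx => ?_)
  by_cases hxS : x ∈ ({a, q, r, s} : Finset α)
  · exact Or.inl (ss_o hx (fun e => hb (e ▸ hxS)) (fun e => hc (e ▸ hxS)) (fun e => hd (e ▸ hxS)))
  · simp only [Finset.mem_insert, Finset.mem_singleton, not_or] at hxS
    exact Or.inr (ss_o hxS.1 hxS.2.1 hxS.2.2.1 hxS.2.2.2)

theorem No3.not_three (hn : No3 H) (h : Qd H a b c d) (hS : Blk H S) (ha : a ∈ S) (hb : b ∈ S)
    (hc : c ∈ S) (hd : d ∉ S) : False := by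
  obtain ⟨e, h', rfl⟩ := hS.three ha hb hc h.ab h.ac h.bc
  have de : d ≠ e := fun h1 => hd (by simp [h1])
  refine hn _ (mul_mem (inv_mem h.m1) h'.m1) ?_
  have : (swap a b * swap c d)⁻¹ * (swap a b * swap c e) = swap c d * swap c e := by
    simp [mul_assoc]
  rw [this]
  exact isThreeCycle_swap_mul_swap_same h.cd h'.cd de

theorem No3.par (hn : No3 H) (h : Qd H a b c d) (hS : Blk H S) :
    (a ∈ S ↔ b ∈ S) ↔ (c ∈ S ↔ d ∈ S) := by
  have t1 := hn.not_one h hS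
  have t2 := hn.not_one h.s12 hS
  have t3 := hn.not_one h.s23.s12 hS
  have t4 := hn.not_one h.s34.s23.s12 hS
  have u1 := hn.not_three h hS
  have u2 := hn.not_three h.s34 hS
  have u3 := hn.not_three h.s23.s34 hS
  have u4 := hn.not_three h.s12.s23.s34 hS
  by_cases ha : a ∈ S <;> by_cases hb : b ∈ S <;> by_cases hc : c ∈ S <;> by_cases hd : d ∈ S <;>
    simp only [ha, hb, hc, hd, not_true, not_false_iff, forall_const, iff_self, iff_false,
      iff_true] at t1 t2 t3 t4 u1 u2 u3 u4 ⊢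

theorem commute_of_fix {L : Subgroup (Perm α)} {B : Finset α} (hL : ∀ k ∈ L, ∀ x ∈ B, k x = x)
    {z : Perm α} (hz : z ∈ permOn B) : z ∈ centralizer (L : Set (Perm α)) := fun k hk =>
  (commute_of_mem_permOn disjoint_compl_right hz
    (mem_permOn.2 fun x hx => hL k hk x (by simpa using hx))).symm

section FS

variable (hF : IsQuasisimple (fstarOf H))
include hF

theorem not_invariant (h : Qd H a b c d) :
    ¬ ∀ k ∈ fstarOf H, ∀ x ∈ ({a, b, c, d} : Finset α), k x ∈ ({a, b, c, d} : Finset α) := fun hL =>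
  not_mem_centralizer hF h.m1 h.ne_one h.card_le (commute_of_fix
    (fun _ hk _ hx => fix_of_perfect hF.commutator_self h.blk.card.le hL hk hx)
    (ss_mem_permOn (by simp) (by simp) (by simp) (by simp)))

theorem exists_sep (hn : No3 H) (h : Qd H a b c d) : ∃ S, Blk H S ∧ a ∈ S ∧ b ∉ S := by
  suffices h1 : ∃ S, Blk H S ∧ ¬ (a ∈ S ↔ b ∈ S) by
    obtain ⟨S, hS, h1⟩ := h1
    by_cases ha : a ∈ S
    · exact ⟨S, hS, ha, fun hb => h1 (iff_of_true ha hb)⟩
    · refine ⟨_, hS.map (inv_mem h.m1), ?_, ?_⟩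
      · rw [mem_map_inv, ss_1 h]; tauto
      · rw [mem_map_inv, ss_2 h]; exact ha
  by_contra hcon
  push Not at hcon
  let K : Subgroup (Perm α) :=
    { carrier := {k | k ∈ H ∧ ∀ S, Blk H S → ∀ x, k x ∈ S ↔ x ∈ S}
      one_mem' := ⟨one_mem _, fun _ _ _ => Iff.rfl⟩
      mul_mem' := fun hg hk => ⟨mul_mem hg.1 hk.1, fun S hS x => (hg.2 S hS _).trans (hk.2 S hS x)⟩
      inv_mem' := fun {k} hk => ⟨inv_mem hk.1, fun S hS x => by
        simpa using (hk.2 S hS (k⁻¹ x)).symm⟩ }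
  have hKn : H ≤ normalizer (K : Set (Perm α)) := fun k hk => mem_normalizer_fintype fun l hl =>
    ⟨mul_mem (mul_mem hk hl.1) (inv_mem hk), fun S hS x => by
      have := hl.2 _ (hS.map (inv_mem hk)) (k⁻¹ x)
      rw [mem_map_inv, mem_map_inv] at this
      simpa using this⟩
  have hLK : fstarOf H ≤ K := le_of_mem hF (fun _ hk => hk.1) ((fstarOf_le H).trans hKn)
    (z := swap a b * swap c d) ⟨h.m1, fun S hS x => by
      have h1 := hcon S hS
      have h2 := (hn.par h hS).1 h1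
      by_cases e1 : x = a
      · rw [e1, ss_1 h, h1]
      by_cases e2 : x = b
      · rw [e2, ss_2 h, h1]
      by_cases e3 : x = c
      · rw [e3, ss_3 h, h2]
      by_cases e4 : x = d
      · rw [e4, ss_4 h, h2]
      · rw [ss_o e1 e2 e3 e4]⟩ h.ne_one h.card_le
  exact not_invariant hF h fun k hk x hx => ((hLK hk).2 _ h.blk x).2 hx

theorem exists_fano (hn : No3 H) {B : Finset α} (hB : Blk H B) : ∃ a b c d e f g : α,
    B = {a, b, c, d} ∧ Qd H a b c d ∧ Qd H a c e f ∧ Qd H a d e g ∧ b ≠ e ∧ b ≠ f ∧ d ≠ f ∧ b ≠ g ∧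
      c ≠ g ∧ f ≠ g := by
  have step1 : ∃ a b c d e f : α, B = {a, b, c, d} ∧ Qd H a b c d ∧ Qd H a c e f ∧ b ≠ e ∧ b ≠ f ∧
      d ≠ e ∧ d ≠ f := by
    obtain ⟨a, b, c, d, h, rfl⟩ := hB
    obtain ⟨S, hS, ha, hb⟩ := exists_sep hF hn h
    have h1 := hn.par h hS
    by_cases hc : c ∈ S
    · have hd : d ∉ S := by tauto
      obtain ⟨e, f, h', rfl⟩ := hS.two ha hc h.ac
      exact ⟨a, b, c, d, e, f, rfl, h, h', fun e => hb (by simp [e]), fun e => hb (by simp [e]),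
        fun e => hd (by simp [e]), fun e => hd (by simp [e])⟩
    · have hd : d ∈ S := by tauto
      obtain ⟨e, f, h', rfl⟩ := hS.two ha hd h.ad
      exact ⟨a, b, d, c, e, f, by ext; simp; tauto, h.s34, h', fun e => hb (by simp [e]),
        fun e => hb (by simp [e]), fun e => hc (by simp [e]), fun e => hc (by simp [e])⟩
  have step2 : ∃ a b c d e f : α, ∃ S, B = {a, b, c, d} ∧ Qd H a b c d ∧ Qd H a c e f ∧ b ≠ e ∧
      b ≠ f ∧ d ≠ e ∧ d ≠ f ∧ Blk H S ∧ a ∈ S ∧ d ∈ S ∧ b ∉ S ∧ c ∉ S := by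
    obtain ⟨a, b, c, d, e, f, rfl, h, h', be, bf, de, df⟩ := step1
    obtain ⟨S, hS, ha, hc⟩ := exists_sep hF hn h.s23
    have h1 := hn.par h hS
    by_cases hd : d ∈ S
    · exact ⟨a, b, c, d, e, f, S, rfl, h, h', be, bf, de, df, hS, ha, hd, by tauto, hc⟩
    · exact ⟨a, d, c, b, e, f, S, by ext; simp; tauto, h.s34.s23.s34, h', de, df, be, bf, hS, ha,
        by tauto, hd, hc⟩
  obtain ⟨a, b, c, d, e, f, S, rfl, h, h', be, bf, de, df, hS, ha, hd, hb, hc⟩ := step2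
  have h1 := hn.par h' hS
  by_cases he : e ∈ S
  · have hf : f ∉ S := by tauto
    obtain ⟨g, h'', rfl⟩ := hS.three ha hd he h.ad h'.ac de
    exact ⟨a, b, c, d, e, f, g, rfl, h, h', h'', be, bf, df, fun e => hb (by simp [e]),
      fun e => hc (by simp [e]), fun e => hf (by simp [e])⟩
  · have hf : f ∈ S := by tauto
    obtain ⟨g, h'', rfl⟩ := hS.three ha hd hf h.ad h'.ad df
    exact ⟨a, b, c, d, f, e, g, rfl, h, h'.s34, h'', bf, be, de, fun e => hb (by simp [e]),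
      fun e => hc (by simp [e]), fun e => he (by simp [e])⟩

theorem le_permOn_of_closed (h : Qd H a b c d) {Ω : Finset α} (ha : a ∈ Ω)
    (hΩ : ∀ S, Blk H S → ∀ x ∈ S, ∀ y ∈ S, x ∈ Ω → y ∈ Ω) : fstarOf H ≤ permOn Ω := by
  let K : Subgroup (Perm α) :=
    { carrier := {k | k ∈ H ∧ ∀ Ω : Finset α, (∀ S, Blk H S → ∀ x ∈ S, ∀ y ∈ S, x ∈ Ω → y ∈ Ω) →
        ∀ x, k x ∈ Ω ↔ x ∈ Ω}
      one_mem' := ⟨one_mem _, fun _ _ _ => Iff.rfl⟩
      mul_mem' := fun hg hk => ⟨mul_mem hg.1 hk.1, fun S hS x => (hg.2 S hS _).trans (hk.2 S hS x)⟩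
      inv_mem' := fun {k} hk => ⟨inv_mem hk.1, fun S hS x => by
        simpa using (hk.2 S hS (k⁻¹ x)).symm⟩ }
  have hKn : H ≤ normalizer (K : Set (Perm α)) := fun k hk => mem_normalizer_fintype fun l hl =>
    ⟨mul_mem (mul_mem hk hl.1) (inv_mem hk), fun Ω hΩ x => by
      have := hl.2 (Ω.map k⁻¹.toEmbedding) (fun S hS u hu v hv h1 => by
        rw [mem_map_inv] at h1 ⊢
        exact hΩ _ (hS.map hk) _ (Finset.mem_map_of_mem _ hu) _ (Finset.mem_map_of_mem _ hv) h1)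
        (k⁻¹ x)
      rw [mem_map_inv, mem_map_inv] at this
      simpa using this⟩
  have hLK : fstarOf H ≤ K := le_of_mem hF (fun _ hk => hk.1) ((fstarOf_le H).trans hKn)
    (z := swap a b * swap c d) ⟨h.m1, fun Ω hΩ x => by
      by_cases hx : x ∈ ({a, b, c, d} : Finset α)
      · have h1 := apply_mem_of_mem_permOn (ss_mem_permOn (S := {a, b, c, d}) (a := a) (b := b)
          (c := c) (d := d) (by simp) (by simp) (by simp) (by simp)) hx
        exact ⟨hΩ _ h.blk _ h1 _ hx, hΩ _ h.blk _ hx _ h1⟩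
      · simp only [Finset.mem_insert, Finset.mem_singleton, not_or] at hx
        rw [ss_o hx.1 hx.2.1 hx.2.2.1 hx.2.2.2]⟩ h.ne_one h.card_le
  have hB := fun y hy => hΩ _ h.blk a (by simp) y hy ha
  refine le_trans (le_of_mem hF (K := H ⊓ permOn Ω) inf_le_left (fun k hk => ?_)
    (mem_inf.2 ⟨h.m1, ss_mem_permOn ha (hB b (by simp)) (hB c (by simp)) (hB d (by simp))⟩)
    h.ne_one h.card_le) inf_le_right
  refine mem_normalizer_fintype fun l hl => mem_inf.2 ⟨mul_mem (mul_mem (hLK hk).1 hl.1)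
    (inv_mem (hLK hk).1), mem_permOn.2 fun x hx => ?_⟩
  have h1 : k⁻¹ x ∉ Ω := by rw [(hLK (inv_mem hk)).2 Ω hΩ]; exact hx
  rw [mul_apply, mul_apply, mem_permOn.1 hl.2 _ h1]
  simp

omit hF in
theorem Blk.sub4 (hS : Blk H S) {p q r s : α} (hp : p ∈ S) (hq : q ∈ S) (hr : r ∈ S) (hs : s ∈ S)
    (pq : p ≠ q) (pr : p ≠ r) (ps : p ≠ s) (qr : q ≠ r) (qs : q ≠ s) (rs : r ≠ s) {y : α}
    (hy : y ∈ S) : y = p ∨ y = q ∨ y = r ∨ y = s := by
  obtain ⟨x, -, rfl⟩ := hS.three hp hq hr pq pr qr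
  simp only [Finset.mem_insert, Finset.mem_singleton] at hs hy
  rcases hs with h | h | h | h
  · exact absurd h.symm ps
  · exact absurd h.symm qs
  · exact absurd h.symm rs
  · rw [h]; exact hy

omit hF in
theorem half_of_perfect {L : Subgroup (Perm α)} (hL : ⁅L, L⁆ = L) {Ω B : Finset α}
    (hΩ : L ≤ permOn Ω) (hB : B ⊆ Ω)
    (h : ∀ k ∈ L, (∀ y ∈ Ω, k y ∈ B ↔ y ∈ B) ∨ (∀ y ∈ Ω, k y ∈ B ↔ y ∉ B)) :
    ∀ k ∈ L, ∀ x ∈ B, k x ∈ B := by
  let N : Subgroup (Perm α) :=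
    { carrier := {k | k ∈ permOn Ω ∧ ∀ y ∈ Ω, k y ∈ B ↔ y ∈ B}
      one_mem' := ⟨one_mem _, fun _ _ => Iff.rfl⟩
      mul_mem' := fun hg hk => ⟨mul_mem hg.1 hk.1, fun y hy =>
        (hg.2 _ (apply_mem_of_mem_permOn hk.1 hy)).trans (hk.2 y hy)⟩
      inv_mem' := fun {k} hk => ⟨inv_mem hk.1, fun y hy => by
        simpa using (hk.2 _ (apply_mem_of_mem_permOn (inv_mem hk.1) hy)).symm⟩ }
  have h1 : ⁅L, L⁆ ≤ N := commutator_le.2 fun k hk l hl => ⟨hΩ (mul_mem (mul_mem (mul_mem hk hl)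
    (inv_mem hk)) (inv_mem hl)), fun y hy => by
      have m1 := apply_mem_of_mem_permOn (hΩ (inv_mem hl)) hy
      have m2 := apply_mem_of_mem_permOn (hΩ (inv_mem hk)) m1
      have m3 := apply_mem_of_mem_permOn (hΩ hl) m2
      have e1 : l (l⁻¹ y) = y := by simp
      have e2 : k (k⁻¹ (l⁻¹ y)) = l⁻¹ y := by simp
      change k (l (k⁻¹ (l⁻¹ y))) ∈ B ↔ y ∈ B
      rcases h k hk with a1 | a1 <;> rcases h l hl with a2 | a2 <;>
      · have b1 := a1 _ m3
        have b2 := a2 _ m2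
        have b3 := a1 _ m2
        have b4 := a2 _ m1
        rw [e1] at b4
        rw [e2] at b3
        clear * - b1 b2 b3 b4
        tauto⟩
  rw [hL] at h1
  exact fun k hk x hx => ((h1 hk).2 x (hB hx)).2 hx

omit hF in
theorem code8 {A B C D E F G H : Prop} (p1 : (A ↔ B) ↔ (C ↔ D)) (p2 : (A ↔ C) ↔ (E ↔ F))
    (p3 : (A ↔ D) ↔ (E ↔ G)) (p4 : (E ↔ F) ↔ (G ↔ H)) (hx : A ∨ B ∨ C ∨ D ∨ E ∨ F ∨ G ∨ H) :
    (A ∧ B ∧ C ∧ D) ∨ (A ∧ B ∧ E ∧ H) ∨ (A ∧ B ∧ F ∧ G) ∨ (A ∧ C ∧ E ∧ F) ∨ (A ∧ C ∧ G ∧ H) ∨ (A ∧ D ∧ E ∧ G) ∨ (A ∧ D ∧ F ∧ H) ∨ (B ∧ C ∧ E ∧ G) ∨ (B ∧ C ∧ F ∧ H) ∨ (B ∧ D ∧ E ∧ F) ∨ (B ∧ D ∧ G ∧ H) ∨ (C ∧ D ∧ E ∧ H) ∨ (C ∧ D ∧ F ∧ G) ∨ (E ∧ F ∧ G ∧ H) := by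
  by_cases A <;> by_cases B <;> by_cases C <;> by_cases E <;> simp_all

theorem false_of_eight (hn : No3 H) {h : α} (q1 : Qd H a b c d) (q2 : Qd H a c e f)
    (q3 : Qd H a d e g) (q4 : Qd H e f g h) (be : b ≠ e) (bf : b ≠ f) (df : d ≠ f) (bg : b ≠ g)
    (cg : c ≠ g) : False := by
  have ae := q2.ac
  have af := q2.ad
  have ag := q3.ad
  have ce := q2.bc
  have cf := q2.bd
  have de := q3.bc
  have dg := q3.bd
  have hpar := hn.par q1 q4.blk
  have hpar2 := hn.par q2 q4.blk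
  have hpar3 := hn.par q3 q4.blk
  simp only [Finset.mem_insert, Finset.mem_singleton, ae, af, ag, be, bf, bg, ce, cf, cg, de, df, dg,
    false_or, true_or, or_true, iff_true, iff_self] at hpar hpar2 hpar3
  have ah : a ≠ h := fun e => q1.ac (e.trans (hpar2.1 e).symm)
  have ch : c ≠ h := fun e => ah (hpar2.2 e)
  have dh : d ≠ h := fun e => ah (hpar3.2 e)
  have bh : b ≠ h := fun e => by clear * - hpar ah ch dh e; tauto
  have ab := q1.ab
  have ac := q1.ac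
  have ad := q1.ad
  have bc := q1.bc
  have bd := q1.bd
  have cd := q1.cd
  have ef := q4.ab
  have eg := q4.ac
  have eh := q4.ad
  have fg := q4.bc
  have fh := q4.bd
  have gh := q4.cd
  set Ω : Finset α := {a, b, c, d, e, f, g, h} with hΩ
  have hcl : ∀ S, Blk H S → ∀ x ∈ S, ∀ y ∈ S, x ∈ Ω → y ∈ Ω := by
    intro S hS x hx y hy hxΩ
    have p1 := hn.par q1 hS
    have p2 := hn.par q2 hS
    have p3 := hn.par q3 hS
    have p4 := hn.par q4 hS
    have hx' : a ∈ S ∨ b ∈ S ∨ c ∈ S ∨ d ∈ S ∨ e ∈ S ∨ f ∈ S ∨ g ∈ S ∨ h ∈ S := by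
      simp only [hΩ, Finset.mem_insert, Finset.mem_singleton] at hxΩ
      rcases hxΩ with rfl | rfl | rfl | rfl | rfl | rfl | rfl | rfl <;> simp [hx]
    have s4 := fun (p q r s : α) (hp : p ∈ S) (hq : q ∈ S) (hr : r ∈ S) (hs : s ∈ S) pq pr ps qr qs
      rs => hS.sub4 hp hq hr hs pq pr ps qr qs rs hy
    simp only [hΩ, Finset.mem_insert, Finset.mem_singleton]
    rcases code8 p1 p2 p3 p4 hx' with ⟨h1, h2, h3, h4⟩ | ⟨h1, h2, h3, h4⟩ | ⟨h1, h2, h3, h4⟩ | ⟨h1, h2, h3, h4⟩ | ⟨h1, h2, h3, h4⟩ | ⟨h1, h2, h3, h4⟩ | ⟨h1, h2, h3, h4⟩ | ⟨h1, h2, h3, h4⟩ | ⟨h1, h2, h3, h4⟩ | ⟨h1, h2, h3, h4⟩ | ⟨h1, h2, h3, h4⟩ | ⟨h1, h2, h3, h4⟩ | ⟨h1, h2, h3, h4⟩ | ⟨h1, h2, h3, h4⟩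
    · rcases s4 a b c d h1 h2 h3 h4 ab ac ad bc bd cd with h | h | h | h <;> simp [h]
    · rcases s4 a b e h h1 h2 h3 h4 ab ae ah be bh eh with h | h | h | h <;> simp [h]
    · rcases s4 a b f g h1 h2 h3 h4 ab af ag bf bg fg with h | h | h | h <;> simp [h]
    · rcases s4 a c e f h1 h2 h3 h4 ac ae af ce cf ef with h | h | h | h <;> simp [h]
    · rcases s4 a c g h h1 h2 h3 h4 ac ag ah cg ch gh with h | h | h | h <;> simp [h]
    · rcases s4 a d e g h1 h2 h3 h4 ad ae ag de dg eg with h | h | h | h <;> simp [h]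
    · rcases s4 a d f h h1 h2 h3 h4 ad af ah df dh fh with h | h | h | h <;> simp [h]
    · rcases s4 b c e g h1 h2 h3 h4 bc be bg ce cg eg with h | h | h | h <;> simp [h]
    · rcases s4 b c f h h1 h2 h3 h4 bc bf bh cf ch fh with h | h | h | h <;> simp [h]
    · rcases s4 b d e f h1 h2 h3 h4 bd be bf de df ef with h | h | h | h <;> simp [h]
    · rcases s4 b d g h h1 h2 h3 h4 bd bg bh dg dh gh with h | h | h | h <;> simp [h]
    · rcases s4 c d e h h1 h2 h3 h4 cd ce ch de dh eh with h | h | h | h <;> simp [h]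
    · rcases s4 c d f g h1 h2 h3 h4 cd cf cg df dg fg with h | h | h | h <;> simp [h]
    · rcases s4 e f g h h1 h2 h3 h4 ef eg eh fg fh gh with h | h | h | h <;> simp [h]
  have hL := le_permOn_of_closed hF q1 (by simp [hΩ]) hcl
  have hBΩ : ({a, b, c, d} : Finset α) ⊆ Ω := fun x hx => by
    simp only [hΩ, Finset.mem_insert, Finset.mem_singleton] at hx ⊢; clear * - hx; tauto
  refine not_invariant hF q1 (half_of_perfect hF.commutator_self hL hBΩ ?_)
  let K : Subgroup (Perm α) :=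
    { carrier := {k | k ∈ H ∧ k ∈ permOn Ω ∧ ∀ S, Blk H S →
        (∀ y ∈ Ω, k y ∈ S ↔ y ∈ S) ∨ (∀ y ∈ Ω, k y ∈ S ↔ y ∉ S)}
      one_mem' := ⟨one_mem _, one_mem _, fun _ _ => Or.inl fun _ _ => Iff.rfl⟩
      mul_mem' := fun {k l} hk hl => ⟨mul_mem hk.1 hl.1, mul_mem hk.2.1 hl.2.1, fun S hS => by
        have m := fun y (hy : y ∈ Ω) => apply_mem_of_mem_permOn hl.2.1 hy
        rcases hk.2.2 S hS with a1 | a1 <;> rcases hl.2.2 S hS with a2 | a2
        · exact Or.inl fun y hy => (a1 _ (m y hy)).trans (a2 y hy)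
        · exact Or.inr fun y hy => (a1 _ (m y hy)).trans (a2 y hy)
        · exact Or.inr fun y hy => (a1 _ (m y hy)).trans (a2 y hy).not
        · exact Or.inl fun y hy => (a1 _ (m y hy)).trans ((a2 y hy).not.trans not_not)⟩
      inv_mem' := fun {k} hk => ⟨inv_mem hk.1, inv_mem hk.2.1, fun S hS => by
        have m := fun y (hy : y ∈ Ω) => apply_mem_of_mem_permOn (inv_mem hk.2.1) hy
        have e : ∀ y, k (k⁻¹ y) = y := fun y => by simp
        refine (hk.2.2 S hS).imp (fun a1 y hy => ?_) fun a1 y hy => ?_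
        · have := a1 _ (m y hy); rw [e] at this; exact this.symm
        · have := a1 _ (m y hy); rw [e] at this; exact iff_not_comm.1 this⟩ }
  have hKn : fstarOf H ≤ normalizer (K : Set (Perm α)) := fun k hk =>
    mem_normalizer_fintype fun l hl => by
      have hkH := fstarOf_le H hk
      refine ⟨mul_mem (mul_mem hkH hl.1) (inv_mem hkH), mul_mem (mul_mem (hL hk) hl.2.1)
        (inv_mem (hL hk)), fun S hS => ?_⟩
      have m := fun y (hy : y ∈ Ω) => apply_mem_of_mem_permOn (inv_mem (hL hk)) hy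
      have e : ∀ y, k (k⁻¹ y) = y := fun y => by simp
      refine (hl.2.2 _ (hS.map (inv_mem hkH))).imp (fun a1 y hy => ?_) fun a1 y hy => ?_
      · have := a1 _ (m y hy); rwa [mem_map_inv, mem_map_inv, e] at this
      · have := a1 _ (m y hy); rwa [mem_map_inv, mem_map_inv, e] at this
  rcases le_or_le_centralizer hF (K := K) (fun _ hk => hk.1) hKn with h1 | h1
  · exact fun k hk => (h1 hk).2.2 _ q1.blk
  -- two translations
  have tr : ∀ {a b c d e f g h : α}, Qd H a b c d → Qd H e f g h → a ≠ e → a ≠ f → a ≠ g → a ≠ h →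
      b ≠ e → b ≠ f → b ≠ g → b ≠ h → c ≠ e → c ≠ f → c ≠ g → c ≠ h → d ≠ e → d ≠ f → d ≠ g → d ≠ h →
      (∀ x, x ∈ Ω ↔ x = a ∨ x = b ∨ x = c ∨ x = d ∨ x = e ∨ x = f ∨ x = g ∨ x = h) →
      (∀ S, Blk H S → ((a ∈ S ↔ b ∈ S) ↔ (e ∈ S ↔ f ∈ S))) → ∃ t ∈ K, t a = b ∧ t b = a ∧ t c = d ∧
        t d = c ∧ t e = f ∧ t f = e ∧ t g = h ∧ t h = g := by
    intro a b c d e f g h q q' ae af ag ah be bf bg bh ce cf cg ch de df dg dh hm hp
    have v1 : (swap a b * swap c d * (swap e f * swap g h)) a = b := by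
      rw [mul_apply, ss_o ae af ag ah, ss_1 q]
    have v2 : (swap a b * swap c d * (swap e f * swap g h)) b = a := by
      rw [mul_apply, ss_o be bf bg bh, ss_2 q]
    have v3 : (swap a b * swap c d * (swap e f * swap g h)) c = d := by
      rw [mul_apply, ss_o ce cf cg ch, ss_3 q]
    have v4 : (swap a b * swap c d * (swap e f * swap g h)) d = c := by
      rw [mul_apply, ss_o de df dg dh, ss_4 q]
    have v5 : (swap a b * swap c d * (swap e f * swap g h)) e = f := by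
      rw [mul_apply, ss_1 q', ss_o af.symm bf.symm cf.symm df.symm]
    have v6 : (swap a b * swap c d * (swap e f * swap g h)) f = e := by
      rw [mul_apply, ss_2 q', ss_o ae.symm be.symm ce.symm de.symm]
    have v7 : (swap a b * swap c d * (swap e f * swap g h)) g = h := by
      rw [mul_apply, ss_3 q', ss_o ah.symm bh.symm ch.symm dh.symm]
    have v8 : (swap a b * swap c d * (swap e f * swap g h)) h = g := by
      rw [mul_apply, ss_4 q', ss_o ag.symm bg.symm cg.symm dg.symm]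
    refine ⟨_, ⟨mul_mem q.m1 q'.m1, mul_mem (ss_mem_permOn ?_ ?_ ?_ ?_) (ss_mem_permOn ?_ ?_ ?_ ?_),
      fun S hS => ?_⟩, v1, v2, v3, v4, v5, v6, v7, v8⟩
    any_goals simp only [hm, true_or, or_true]
    have p1 := hn.par q hS
    have p2 := hn.par q' hS
    have p3 := hp S hS
    by_cases hab : a ∈ S ↔ b ∈ S
    · left
      have hcd := p1.1 hab
      have hef := p3.1 hab
      have hgh := p2.1 hef
      rintro y (rfl | rfl | rfl | rfl | rfl | rfl | rfl | rfl) <;>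
        simp only [v1, v2, v3, v4, v5, v6, v7, v8]
      exacts [hab.symm, hab, hcd.symm, hcd, hef.symm, hef, hgh.symm, hgh]
    · right
      have nf : ∀ {A B : Prop}, ¬ (A ↔ B) → (B ↔ ¬ A) ∧ (A ↔ ¬ B) := fun h => by
        clear * - h; tauto
      have hcd := mt p1.2 hab
      have hef := mt p3.2 hab
      have hgh := mt p2.2 hef
      rintro y (rfl | rfl | rfl | rfl | rfl | rfl | rfl | rfl) <;>
        simp only [v1, v2, v3, v4, v5, v6, v7, v8]
      exacts [(nf hab).1, (nf hab).2, (nf hcd).1, (nf hcd).2, (nf hef).1, (nf hef).2, (nf hgh).1,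
        (nf hgh).2]
  obtain ⟨s, hs, s1, s2, s3, s4, s5, s6, s7, s8⟩ := tr q1 q4.s12.s23 af ag ae ah bf bg be bh cf cg ce
    ch df dg de dh (fun x => by simp only [hΩ, Finset.mem_insert, Finset.mem_singleton]; clear * -; tauto)
    fun S hS => by
      have p1 := hn.par q1 hS
      have p2 := hn.par q2 hS
      have p3 := hn.par q3 hS
      have p4 := hn.par q4 hS
      clear * - p1 p2 p3 p4
      by_cases a ∈ S <;> by_cases b ∈ S <;> by_cases c ∈ S <;> by_cases e ∈ S <;> simp_all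
  obtain ⟨t, ht, t1, t2, t3, t4, t5, t6, t7, t8⟩ := tr q1.s23 q4 ae af ag ah ce cf cg ch be bf bg bh
    de df dg dh (fun x => by simp only [hΩ, Finset.mem_insert, Finset.mem_singleton]; clear * -; tauto)
    fun S hS => hn.par q2 hS
  intro k hk
  set B : Finset α := {a, b, c, d} with hB
  have hsB : ∀ y ∈ Ω, s y ∈ B ↔ y ∈ B := ((hs.2.2 _ q1.blk).resolve_right fun h2 => by
    have := h2 a (by simp [hΩ]); rw [s1] at this; simp at this)
  have htB : ∀ y ∈ Ω, t y ∈ B ↔ y ∈ B := ((ht.2.2 _ q1.blk).resolve_right fun h2 => by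
    have := h2 a (by simp [hΩ]); rw [t1] at this; simp at this)
  have ks : ∀ y ∈ Ω, k (s y) ∈ B ↔ k y ∈ B := fun y hy => by
    rw [← mul_apply, h1 hs k hk, mul_apply, hsB _ (apply_mem_of_mem_permOn (hL hk) hy)]
  have kt : ∀ y ∈ Ω, k (t y) ∈ B ↔ k y ∈ B := fun y hy => by
    rw [← mul_apply, h1 ht k hk, mul_apply, htB _ (apply_mem_of_mem_permOn (hL hk) hy)]
  have c1 := ks a (by simp [hΩ])
  have c2 := kt a (by simp [hΩ])
  have c3 := ks c (by simp [hΩ])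
  have c4 := kt e (by simp [hΩ])
  have c5 := ks f (by simp [hΩ])
  have c6 := ks e (by simp [hΩ])
  rw [s1] at c1; rw [t1] at c2; rw [s3] at c3; rw [t5] at c4; rw [s5] at c5; rw [s7] at c6
  have five : ∀ {S : Finset α}, Blk H S → k a ∈ S → k b ∈ S → k c ∈ S → k d ∈ S → k e ∈ S → False :=
    fun hS h1 h2 h3 h4 h5 => by
      have := hS.sub4 h1 h2 h3 h4 (k.injective.ne ab) (k.injective.ne ac) (k.injective.ne ad)
        (k.injective.ne bc) (k.injective.ne bd) (k.injective.ne cd) h5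
      simp only [k.injective.eq_iff] at this
      rcases this with h | h | h | h
      exacts [ae h.symm, be h.symm, ce h.symm, de h.symm]
  have hae : k a ∈ B ↔ k e ∉ B := by
    constructor
    · exact fun h1 h2 => five q1.blk h1 (c1.2 h1) (c2.2 h1) (c3.2 (c2.2 h1)) h2
    · intro h2
      by_contra h1
      have out : ∀ y ∈ Ω, k y ∉ B → k y ∈ ({e, f, g, h} : Finset α) := fun y hy h3 => by
        have := apply_mem_of_mem_permOn (hL hk) hy
        simp only [hΩ, hB, Finset.mem_insert, Finset.mem_singleton] at this h3 ⊢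
        clear * - this h3
        tauto
      exact five q4.blk (out a (by simp [hΩ]) h1) (out b (by simp [hΩ]) (mt c1.1 h1))
        (out c (by simp [hΩ]) (mt c2.1 h1)) (out d (by simp [hΩ]) (mt (fun h => c2.1 (c3.1 h)) h1))
        (out e (by simp [hΩ]) h2)
  have ma : a ∈ B := by simp [hB]
  have mb : b ∈ B := by simp [hB]
  have mc : c ∈ B := by simp [hB]
  have md : d ∈ B := by simp [hB]
  have me : e ∉ B := by simp [hB, ae.symm, be.symm, ce.symm, de.symm]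
  have mf : f ∉ B := by simp [hB, af.symm, bf.symm, cf.symm, df.symm]
  have mg : g ∉ B := by simp [hB, ag.symm, bg.symm, cg.symm, dg.symm]
  have mh : h ∉ B := by simp [hB, ah.symm, bh.symm, ch.symm, dh.symm]
  by_cases hka : k a ∈ B
  · left
    have hke := hae.1 hka
    intro y hy
    simp only [hΩ, Finset.mem_insert, Finset.mem_singleton] at hy
    rcases hy with rfl | rfl | rfl | rfl | rfl | rfl | rfl | rfl <;>
      simp only [ma, mb, mc, md, me, mf, mg, mh, c1, c2, c3, c4, c5, c6, hka, hke, not_true,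
        not_false_iff]
  · right
    have hke := not_not.1 (mt hae.2 hka)
    intro y hy
    simp only [hΩ, Finset.mem_insert, Finset.mem_singleton] at hy
    rcases hy with rfl | rfl | rfl | rfl | rfl | rfl | rfl | rfl <;>
      simp only [ma, mb, mc, md, me, mf, mg, mh, c1, c2, c3, c4, c5, c6, hka, hke, not_true,
        not_false_iff]

omit hF in
theorem code7 {A B C D E F G : Prop} (p1 : (A ↔ B) ↔ (C ↔ D)) (p2 : (A ↔ C) ↔ (E ↔ F))
    (p3 : (A ↔ D) ↔ (E ↔ G)) (hx : A ∨ B ∨ C ∨ D ∨ E ∨ F ∨ G) :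
    (A ∧ B ∧ C ∧ D) ∨ (A ∧ B ∧ F ∧ G) ∨ (A ∧ C ∧ E ∧ F) ∨ (A ∧ D ∧ E ∧ G) ∨ (B ∧ C ∧ E ∧ G) ∨ (B ∧ D ∧ E ∧ F) ∨ (C ∧ D ∧ F ∧ G) ∨ (E ∧ F ∧ G) ∨ (B ∧ D ∧ G ∧ ¬ E ∧ ¬ F) ∨ (A ∧ C ∧ G ∧ ¬ E ∧ ¬ F) ∨ (A ∧ D ∧ F ∧ ¬ E ∧ ¬ G) ∨ (B ∧ C ∧ F ∧ ¬ E ∧ ¬ G) ∨ (A ∧ B ∧ E ∧ ¬ F ∧ ¬ G) ∨ (C ∧ D ∧ E ∧ ¬ F ∧ ¬ G) := by
  by_cases A <;> by_cases B <;> by_cases C <;> by_cases E <;> simp_all

/-- If `F*(H)` is quasisimple and `H` contains two regular four-groups with disjoint supports,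
then `H` contains a three-cycle. -/
theorem not_no3 {B B' : Finset α} (hB : Blk H B) (hB' : Blk H B') (hd : Disjoint B B') :
    ¬ No3 H := fun hn => by
  obtain ⟨a, b, c, d, e, f, g, rfl, q1, q2, q3, be, bf, df, bg, cg, fg⟩ := exists_fano hF hn hB
  by_cases h8 : ∃ h, Qd H e f g h
  · obtain ⟨h, q4⟩ := h8
    exact false_of_eight hF hn q1 q2 q3 q4 be bf df bg cg
  have ae := q2.ac
  have af := q2.ad
  have ag := q3.ad
  have ce := q2.bc
  have cf := q2.bd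
  have de := q3.bc
  have dg := q3.bd
  have ab := q1.ab
  have ac := q1.ac
  have ad := q1.ad
  have bc := q1.bc
  have bd := q1.bd
  have cd := q1.cd
  have ef := q2.cd
  have eg := q3.cd
  have r1 : Qd H b d e f := q1.s23.symmDiff q2 be bf de df
  have r2 : Qd H b c e g := q1.s34.s23.symmDiff q3 be bg ce cg
  have r3 : Qd H c d f g := (q2.s23.symmDiff q3.s23 cd cg df.symm fg).s23
  have r4 : Qd H a b f g := q1.s23.s12.s34.s23.symmDiff r3 af ag bf bg
  set Ω : Finset α := {a, b, c, d, e, f, g} with hΩ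
  have hcl : ∀ S, Blk H S → ∀ x ∈ S, ∀ y ∈ S, x ∈ Ω → y ∈ Ω := by
    intro S hS x hx y hy hxΩ
    have p1 := hn.par q1 hS
    have p2 := hn.par q2 hS
    have p3 := hn.par q3 hS
    have hx' : a ∈ S ∨ b ∈ S ∨ c ∈ S ∨ d ∈ S ∨ e ∈ S ∨ f ∈ S ∨ g ∈ S := by
      simp only [hΩ, Finset.mem_insert, Finset.mem_singleton] at hxΩ
      rcases hxΩ with rfl | rfl | rfl | rfl | rfl | rfl | rfl <;> simp [hx]
    have s4 := fun (p q r s : α) (hp : p ∈ S) (hq : q ∈ S) (hr : r ∈ S) (hs : s ∈ S) pq pr ps qr qs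
      rs => hS.sub4 hp hq hr hs pq pr ps qr qs rs hy
    simp only [hΩ, Finset.mem_insert, Finset.mem_singleton]
    rcases code7 p1 p2 p3 hx' with ⟨h1, h2, h3, h4⟩ | ⟨h1, h2, h3, h4⟩ | ⟨h1, h2, h3, h4⟩ | ⟨h1, h2, h3, h4⟩ | ⟨h1, h2, h3, h4⟩ | ⟨h1, h2, h3, h4⟩ | ⟨h1, h2, h3, h4⟩ | ⟨h1, h2, h3⟩ | ⟨h1, h2, h3, h4, h5⟩ | ⟨h1, h2, h3, h4, h5⟩ | ⟨h1, h2, h3, h4, h5⟩ | ⟨h1, h2, h3, h4, h5⟩ | ⟨h1, h2, h3, h4, h5⟩ | ⟨h1, h2, h3, h4, h5⟩
    · rcases s4 a b c d h1 h2 h3 h4 ab ac ad bc bd cd with h | h | h | h <;> simp [h]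
    · rcases s4 a b f g h1 h2 h3 h4 ab af ag bf bg fg with h | h | h | h <;> simp [h]
    · rcases s4 a c e f h1 h2 h3 h4 ac ae af ce cf ef with h | h | h | h <;> simp [h]
    · rcases s4 a d e g h1 h2 h3 h4 ad ae ag de dg eg with h | h | h | h <;> simp [h]
    · rcases s4 b c e g h1 h2 h3 h4 bc be bg ce cg eg with h | h | h | h <;> simp [h]
    · rcases s4 b d e f h1 h2 h3 h4 bd be bf de df ef with h | h | h | h <;> simp [h]
    · rcases s4 c d f g h1 h2 h3 h4 cd cf cg df dg fg with h | h | h | h <;> simp [h]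
    · obtain ⟨x, q, -⟩ := hS.three h1 h2 h3 ef eg fg
      exact absurd ⟨x, q⟩ h8
    · obtain ⟨x, q, rfl⟩ := hS.three h1 h2 h3 bd bg dg
      have n4 : e ≠ x := fun e => h4 (by simp [e])
      have n5 : f ≠ x := fun e => h5 (by simp [e])
      exact absurd ⟨x, r1.symmDiff q eg n4 fg n5⟩ h8
    · obtain ⟨x, q, rfl⟩ := hS.three h1 h2 h3 ac ag cg
      have n4 : e ≠ x := fun e => h4 (by simp [e])
      have n5 : f ≠ x := fun e => h5 (by simp [e])
      exact absurd ⟨x, q2.symmDiff q eg n4 fg n5⟩ h8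
    · obtain ⟨x, q, rfl⟩ := hS.three h1 h2 h3 ad af df
      have n4 : e ≠ x := fun e => h4 (by simp [e])
      have n5 : g ≠ x := fun e => h5 (by simp [e])
      exact absurd ⟨x, (q3.symmDiff q ef n4 fg.symm n5).s23⟩ h8
    · obtain ⟨x, q, rfl⟩ := hS.three h1 h2 h3 bc bf cf
      have n4 : e ≠ x := fun e => h4 (by simp [e])
      have n5 : g ≠ x := fun e => h5 (by simp [e])
      exact absurd ⟨x, (r2.symmDiff q ef n4 fg.symm n5).s23⟩ h8
    · obtain ⟨x, q, rfl⟩ := hS.three h1 h2 h3 ab ae be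
      have n4 : f ≠ x := fun e => h4 (by simp [e])
      have n5 : g ≠ x := fun e => h5 (by simp [e])
      exact absurd ⟨x, (r4.symmDiff q ef.symm n4 eg.symm n5).s23.s12⟩ h8
    · obtain ⟨x, q, rfl⟩ := hS.three h1 h2 h3 cd ce de
      have n4 : f ≠ x := fun e => h4 (by simp [e])
      have n5 : g ≠ x := fun e => h5 (by simp [e])
      exact absurd ⟨x, (r3.symmDiff q ef.symm n4 eg.symm n5).s23.s12⟩ h8
  have hL := le_permOn_of_closed hF q1 (by simp [hΩ]) hcl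
  have hdis : Disjoint B' Ω := Finset.disjoint_left.2 fun x hx hxΩ => by
    have h1 : B' ⊆ {e, f, g} := fun y hy => by
      have h2 := hcl _ hB' x hx y hy hxΩ
      have h3 := Finset.disjoint_right.1 hd hy
      simp only [hΩ, Finset.mem_insert, Finset.mem_singleton] at h2 h3 ⊢
      clear * - h2 h3
      tauto
    have h2 := (Finset.card_le_card h1).trans Finset.card_le_three
    rw [hB'.card] at h2
    omega
  obtain ⟨p, q, r, s, h', rfl⟩ := hB'
  exact not_mem_centralizer hF h'.m1 h'.ne_one h'.card_le fun k hk =>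
    (commute_of_mem_permOn hdis (ss_mem_permOn (by simp) (by simp) (by simp) (by simp)) (hL hk)).symm

end FS

end CL.AltOver
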