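import Cfsg.Agent.TECH.PGVMod
import Cfsg.Agent.CHAR.Burnside

/-!
The norm map `k ↦ k · k^a ⋯ k^{a^{p-1}}` for an element `a` of prime order permuting a component,
and its use in the proof of the `P(G,V)`-theorem.
-/

set_option autoImplicit false

namespace CL.PGV

open Cfsg Subgroup
open scoped commutatorElement

variable {G : Type*} [Group G]

/-- `a ^ i k a ^ (-i)`. -/
def cj (a : G) (i : ℕ) (k : G) : G := a ^ i * k * (a ^ i)⁻¹

/-- The product of the first `n` conjugates. -/
def nm (a k : G) (n : ℕ) : G := (k * a) ^ n * (a ^ n)⁻¹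

theorem cj_zero (a k : G) : cj a 0 k = k := by simp [cj]

theorem cj_one (a k : G) : cj a 1 k = a * k * a⁻¹ := by simp [cj]

theorem cj_mul (a : G) (i : ℕ) (z k : G) : cj a i (z * k) = cj a i z * cj a i k := by
  simp only [cj]; group

theorem cj_inv (a : G) (i : ℕ) (k : G) : cj a i k⁻¹ = (cj a i k)⁻¹ := by
  simp only [cj]; group

theorem cj_comm (a : G) (i : ℕ) (z k : G) : cj a i ⁅z, k⁆ = ⁅cj a i z, cj a i k⁆ := by
  simp only [cj, commutatorElement_def]; group

theorem cj_pow (a : G) (i : ℕ) (k : G) (n : ℕ) : cj a i (k ^ n) = cj a i k ^ n := by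
  simp only [cj, conj_pow]

theorem nm_zero (a k : G) : nm a k 0 = 1 := by simp [nm]

theorem nm_succ (a k : G) (n : ℕ) : nm a k (n + 1) = nm a k n * cj a n k := by
  simp only [nm, cj, pow_succ]; group

theorem nm_two (a k : G) : nm a k 2 = k * (a * k * a⁻¹) := by
  rw [nm_succ, nm_succ, nm_zero, cj_zero, cj_one, one_mul]

theorem nm_conj {a b : G} (h : b * a = a * b) (k : G) (n : ℕ) :
    b * nm a k n * b⁻¹ = nm a (b * k * b⁻¹) n := by
  have h1 : b * k * b⁻¹ * a = b * (k * a) * b⁻¹ := by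
    have : b⁻¹ * a = a * b⁻¹ := by
      calc b⁻¹ * a = b⁻¹ * (a * b) * b⁻¹ := by group
        _ = _ := by rw [← h]; group
    rw [mul_assoc, this]; group
  have h2 : Commute b (a ^ n)⁻¹ := (Commute.pow_right h n).inv_right
  simp only [nm]
  rw [h1, conj_pow]
  calc b * ((k * a) ^ n * (a ^ n)⁻¹) * b⁻¹ = b * (k * a) ^ n * b⁻¹ * (b * (a ^ n)⁻¹) * b⁻¹ := by group
    _ = _ := by rw [h2.eq]; group

theorem nm_mem {a k : G} {S : Subgroup G} {n : ℕ} (h : ∀ i < n, cj a i k ∈ S) : nm a k n ∈ S := by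
  induction n with
  | zero => rw [nm_zero]; exact one_mem _
  | succ n ih => rw [nm_succ]; exact mul_mem (ih fun i hi => h i (by omega)) (h n (by omega))

/-- `a` has order `p` and the `p` conjugates of `K` under `a` commute pairwise. -/
structure Tw (p : ℕ) (K : Subgroup G) (a : G) : Prop where
  pow : a ^ p = 1
  comm : ∀ i < p, ∀ j < p, i ≠ j → ∀ z ∈ K, ∀ k ∈ K, Commute (cj a i z) (cj a j k)

theorem commute_conj_of_not_mem {K : Subgroup G} (hK : IsComponent K) {g : G}
    (hg : g ∉ normalizer (K : Set G)) {z k : G} (hz : z ∈ K) (hk : k ∈ K) :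
    Commute z (g * k * g⁻¹) := by
  have h := hK.commutator_conj_eq_bot hg
  have : ⁅z, g * k * g⁻¹⁆ ∈ ⁅K, K.map (MulAut.conj g).toMonoidHom⁆ :=
    commutator_mem_commutator hz ⟨k, hk, rfl⟩
  rw [h, mem_bot] at this
  exact commutatorElement_eq_one_iff_commute.1 this

theorem tw_of_component {p : ℕ} (hp : p.Prime) {K : Subgroup G} (hK : IsComponent K) {a : G}
    (ha : a ^ p = 1) (hn : a ∉ normalizer (K : Set G)) : Tw p K a := by
  have key : ∀ i j : ℕ, i < j → j < p → ∀ z ∈ K, ∀ k ∈ K, Commute (cj a i z) (cj a j k) := by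
    intro i j hij hj z hz k hk
    obtain ⟨d, rfl⟩ := Nat.exists_eq_add_of_lt hij
    have hd : a ^ (d + 1) ∉ normalizer (K : Set G) := by
      intro h
      apply hn
      have hco : (d + 1).Coprime (orderOf a) :=
        Nat.Coprime.coprime_dvd_right (orderOf_dvd_of_pow_eq_one ha)
          (Nat.Coprime.symm (Nat.coprime_of_lt_prime (by omega) (by omega) hp))
      obtain ⟨m, hm⟩ := exists_pow_eq_self_of_coprime hco
      rw [← hm]; exact pow_mem h m
    have := commute_conj_of_not_mem hK hd hz hk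
    have e : cj a (i + d + 1) k = a ^ i * (a ^ (d + 1) * k * (a ^ (d + 1))⁻¹) * (a ^ i)⁻¹ := by
      simp only [cj]; group
    rw [e, cj]
    exact this.conj _
  refine ⟨ha, fun i hi j hj hij z hz k hk => ?_⟩
  rcases lt_or_gt_of_ne hij with h | h
  · exact key i j h hj z hz k hk
  · exact (key j i h hi k hk z hz).symm

namespace Tw

variable {p : ℕ} {K : Subgroup G} {a : G} (h : Tw p K a)
include h

theorem commute_nm {j n : ℕ} (hj : j < p) (hn : n ≤ j) {z k : G} (hz : z ∈ K) (hk : k ∈ K) :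
    Commute (cj a j z) (nm a k n) := by
  have : nm a k n ∈ centralizer ({cj a j z} : Set G) := nm_mem fun i hi => by
    rw [mem_centralizer_singleton_iff]
    exact (h.comm i (by omega) j hj (by omega) k hk z hz).eq
  exact (mem_centralizer_singleton_iff.1 this).symm

theorem nm_mul {n : ℕ} (hn : n ≤ p) {z k : G} (hz : z ∈ K) (hk : k ∈ K) :
    nm a (z * k) n = nm a z n * nm a k n := by
  induction n with
  | zero => simp [nm_zero]
  | succ n ih =>
    rw [nm_succ, nm_succ, nm_succ, ih (by omega), cj_mul]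
    have := (h.commute_nm (j := n) (by omega) le_rfl hz hk).eq
    calc nm a z n * nm a k n * (cj a n z * cj a n k)
        = nm a z n * (nm a k n * cj a n z) * cj a n k := by group
      _ = _ := by rw [← this]; group

theorem nm_one : nm a 1 p = 1 := by simp [nm]

theorem nm_inv {k : G} (hk : k ∈ K) : nm a k⁻¹ p = (nm a k p)⁻¹ := by
  rw [eq_inv_iff_mul_eq_one, ← h.nm_mul le_rfl (inv_mem hk) hk, inv_mul_cancel, h.nm_one]

theorem nm_comm {z k : G} (hz : z ∈ K) (hk : k ∈ K) :
    nm a ⁅z, k⁆ p = ⁅nm a z p, nm a k p⁆ := by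
  simp only [commutatorElement_def]
  rw [h.nm_mul le_rfl (mul_mem (mul_mem hz hk) (inv_mem hz)) (inv_mem hk),
    h.nm_mul le_rfl (mul_mem hz hk) (inv_mem hz), h.nm_mul le_rfl hz hk, h.nm_inv hz, h.nm_inv hk]

theorem commute_cj_nm {j : ℕ} (hj : j < p) {k : G} (hk : k ∈ K) :
    Commute (cj a j k) (nm a k p) := by
  have : nm a k p ∈ centralizer ({cj a j k} : Set G) := nm_mem fun i hi => by
    rw [mem_centralizer_singleton_iff]
    by_cases hij : i = j
    · rw [hij]
    · exact (h.comm i hi j hj hij k hk k hk).eq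
  exact (mem_centralizer_singleton_iff.1 this).symm

theorem nm_commute (hp : 0 < p) {k : G} (hk : k ∈ K) : nm a k p * a = a * nm a k p := by
  have h1 := h.commute_cj_nm hp hk
  rw [cj_zero] at h1
  have h2 : Commute (k * a) (nm a k p) := by
    rw [nm, h.pow, inv_one, mul_one]; exact (Commute.refl _).pow_right p
  have : a = k⁻¹ * (k * a) := by group
  have h3 : Commute a (nm a k p) := by
    nth_rewrite 1 [this]; exact h1.inv_left.mul_left h2
  exact h3.eq.symm

theorem inv_mul_nm_mem {l : ℕ} (hl : l < p) {k : G} (hk : k ∈ K) {S : Subgroup G}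
    (hS : ∀ i < p, i ≠ l → cj a i k ∈ S) : (cj a l k)⁻¹ * nm a k p ∈ S := by
  have : ∀ n ≤ p, l < n → (cj a l k)⁻¹ * nm a k n ∈ S := by
    intro n hn hln
    induction n with
    | zero => omega
    | succ n ih =>
      rw [nm_succ]
      by_cases e : l = n
      · subst e
        rw [← (h.commute_nm hl le_rfl hk hk).eq, inv_mul_cancel_left]
        exact nm_mem fun i hi => hS i (by omega) (by omega)
      · rw [← mul_assoc]
        exact mul_mem (ih (by omega) (by omega)) (hS n (by omega) (Ne.symm e))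
  exact this p le_rfl hl

/-- The elements of `K` whose norm lies in `S`. -/
def pre (S : Subgroup G) : Subgroup G where
  carrier := {k | k ∈ K ∧ nm a k p ∈ S}
  one_mem' := ⟨one_mem _, by rw [h.nm_one]; exact one_mem _⟩
  mul_mem' := fun {x y} hx hy => ⟨mul_mem hx.1 hy.1, by
    rw [h.nm_mul le_rfl hx.1 hy.1]; exact mul_mem hx.2 hy.2⟩
  inv_mem' := fun {x} hx => ⟨inv_mem hx.1, by rw [h.nm_inv hx.1]; exact inv_mem hx.2⟩

theorem nm_mem_of_normalizer (hp : 0 < p) (hK : IsComponent K) {S : Subgroup G}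
    (hS : ∀ x, x * a = a * x → ∀ s ∈ S, x * s * x⁻¹ ∈ S) {b : G} (hbS : b ∈ S)
    (hba : b * a = a * b) (hbn : b ∈ normalizer (K : Set G))
    (hbc : b ∉ centralizer (K : Set G)) : ∀ k ∈ K, nm a k p ∈ S := by
  let U := S ⊓ centralizer ({a} : Set G) ⊓ normalizer (K : Set G)
  have hbU : b ∈ U := ⟨⟨hbS, mem_centralizer_singleton_iff.2 hba⟩, hbn⟩
  rcases hK.commutator_eq_bot_or_eq (U := U) inf_le_right with h1 | h1
  · exact absurd (CL.Comp.le_centralizer_comm.1 (commutator_eq_bot_iff_le_centralizer.1 h1) hbU) hbc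
  have : K ≤ h.pre S := by
    refine h1.ge.trans (commutator_le.2 ?_)
    rintro k hk u ⟨⟨hu1, hu2⟩, hu3⟩
    have hu4 : u * k⁻¹ * u⁻¹ ∈ K := (mem_normalizer_iff.1 hu3 _).1 (inv_mem hk)
    have e : ⁅k, u⁆ = k * (u * k⁻¹ * u⁻¹) := by simp only [commutatorElement_def]; group
    refine ⟨by rw [e]; exact mul_mem hk hu4, ?_⟩
    rw [e, h.nm_mul le_rfl hk hu4, ← nm_conj (mem_centralizer_singleton_iff.1 hu2), h.nm_inv hk]
    have := mul_mem (hS _ (h.nm_commute hp hk) u hu1) (inv_mem hu1)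
    convert this using 1; group
  exact fun k hk => (this hk).2

theorem nm_mem_of_commute (hp : 0 < p) (hK : ⁅K, K⁆ = K) {S : Subgroup G}
    (hS : ∀ x, x * a = a * x → ∀ s ∈ S, x * s * x⁻¹ ∈ S) {b : G} (hbS : b ∈ S)
    (hb : ∀ z ∈ K, ∀ k ∈ K, Commute (b * nm a z p * b⁻¹) (nm a k p)) :
    ∀ k ∈ K, nm a k p ∈ S := by
  have : K ≤ h.pre S := le_of_commutator_mem hK fun z hz k hk => by
    refine ⟨mul_mem (mul_mem (mul_mem hz hk) (inv_mem hz)) (inv_mem hk), ?_⟩
    rw [h.nm_comm hz hk]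
    have hs : nm a z p * b * (nm a z p)⁻¹ * b⁻¹ ∈ S :=
      mul_mem (hS _ (h.nm_commute hp hz) b hbS) (inv_mem hbS)
    have := mul_mem hs (hS _ (h.nm_commute hp hk) _ (inv_mem hs))
    convert this using 1
    have e := (hb z hz k hk).eq
    generalize nm a z p = y at *
    generalize nm a k p = w at *
    simp only [commutatorElement_def]
    calc y * w * y⁻¹ * w⁻¹ = y * b * y⁻¹ * b⁻¹ * (b * y * b⁻¹ * w) * y⁻¹ * w⁻¹ := by group
      _ = _ := by rw [e]; group
  exact fun k hk => (this hk).2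

end Tw

end CL.PGV
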