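import Cfsg.Agent.TECH.ZPRk2a
import Cfsg.Agent.PLOC.AlperinGoldschmidt
import Cfsg.Agent.PLOC.FrobeniusNPC
import Cfsg.Agent.PLOC.PFrattini

/-! Fusion in a group of `p`-rank two with a central element of order `p`. -/

set_option autoImplicit false
set_option linter.unusedSectionVars false

namespace CL.ZP

open Subgroup Cfsg CL.Tr
open scoped commutatorElement

variable {G : Type*} [Group G] {p : ℕ}

/-- the elements of `N` acting trivially on `U / W` -/
def St (N U W : Subgroup G) (hW : N ≤ normalizer (W : Set G)) : Subgroup G where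
  carrier := {g | g ∈ N ∧ ∀ u ∈ U, ⁅g, u⁆ ∈ W}
  one_mem' := ⟨one_mem _, fun u _ => by simp⟩
  mul_mem' {a b} ha hb := ⟨mul_mem ha.1 hb.1, fun u hu => by
    have e : ⁅a * b, u⁆ = a * ⁅b, u⁆ * a⁻¹ * ⁅a, u⁆ := by simp only [commutatorElement_def]; group
    rw [e]
    exact mul_mem (conj_mem_of_mem_normalizer (hW ha.1) (hb.2 u hu)) (ha.2 u hu)⟩
  inv_mem' {a} ha := ⟨inv_mem ha.1, fun u hu => by
    have e : ⁅a⁻¹, u⁆ = a⁻¹ * ⁅a, u⁆⁻¹ * a⁻¹⁻¹ := by simp only [commutatorElement_def]; group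
    rw [e]
    exact conj_mem_of_mem_normalizer (hW (inv_mem ha.1)) (inv_mem (ha.2 u hu))⟩

theorem mem_St {N U W : Subgroup G} {hW : N ≤ normalizer (W : Set G)} {g : G} :
    g ∈ St N U W hW ↔ g ∈ N ∧ ∀ u ∈ U, ⁅g, u⁆ ∈ W := Iff.rfl

theorem le_normalizer_St [Finite G] {N U W : Subgroup G} (hW : N ≤ normalizer (W : Set G))
    (hU : N ≤ normalizer (U : Set G)) : N ≤ normalizer ((St N U W hW : Subgroup G) : Set G) :=
  fun n hn => mem_normalizer_fintype fun g hg => ⟨mul_mem (mul_mem hn hg.1) (inv_mem hn), fun u hu => by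
    have e : ⁅n * g * n⁻¹, u⁆ = n * ⁅g, n⁻¹ * u * n⁻¹⁻¹⁆ * n⁻¹ := by
      simp only [commutatorElement_def]; group
    rw [e]
    exact conj_mem_of_mem_normalizer (hW hn)
      (hg.2 _ (conj_mem_of_mem_normalizer (hU (inv_mem hn)) hu))⟩

variable [Finite G] [hp : Fact p.Prime]

theorem St.cent {N U W : Subgroup G} {hW : N ≤ normalizer (W : Set G)} (hWp : IsPGroup p W) {g : G}
    (hg : g ∈ St N U W hW) (ho : (orderOf g).Coprime p) (hc : g ∈ centralizer (W : Set G)) :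
    g ∈ centralizer (U : Set G) := by
  have := CL.coprime_le_centralizer_of_trivial_on_factors (zpowers g) U W (zpowers_le.2 (hW hg.1))
    (CL.coprime_card_of_isPGroup hWp (by rwa [Nat.card_zpowers])) (le_centralizer_iff.1 (zpowers_le.2 hc))
    (commutator_le.2 fun u hu a ha => by
      rw [← commutatorElement_inv]
      exact inv_mem (((zpowers_le.2 hg) ha).2 u hu))
  exact le_centralizer_iff.1 this (mem_zpowers g)

theorem rad {P : Sylow p G} {H K : Subgroup G} (h : Essential P H) (hKN : K ≤ normalizer (H : Set G))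
    (hNK : normalizer (H : Set G) ≤ normalizer (K : Set G))
    (hK : ∀ g ∈ K, (orderOf g).Coprime p → g ∈ centralizer (H : Set G)) : (P : Subgroup G) ⊓ K ≤ H := by
  obtain ⟨hlt, hN, M, hCM, hM, hNM⟩ := h
  have hS := not_dvd_relIndex_inf_of_normal P.isPGroup'.to_inf_left hN hKN hNK
  rw [inf_assoc, inf_eq_right.mpr hKN] at hS
  by_contra hPK
  refine hNM (normalizer_le_of_frattini P hN hM hKN hNK hPK fun k hk => ?_)
  obtain ⟨z, hz, -, hz'⟩ := exists_sylowIn_conj_eq (E := H) hKN P.isPGroup'.to_inf_left hS hK hk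
  have h2 : z⁻¹ * k ∈ centralizer (H : Set G) := fun a ha => by
    have := hz' a ha
    calc a * (z⁻¹ * k) = z⁻¹ * (z * a * z⁻¹) * k := by group
      _ = _ := by rw [this]; group
  have h3 : z ∈ M := le_of_lt_sylow_of_larger hlt hM ⟨hz.1, hKN hz.2⟩
  simpa using mul_mem h3 (hCM h2)

theorem comm_mem_cent {B : Subgroup G} (he : ∀ b ∈ B, b ^ p = 1) (hB : Nat.card B = p ^ 2) {r : G}
    (hr : r ∈ normalizer (B : Set G)) (hrp : IsPGroup p (zpowers r)) {b : G} (hb : b ∈ B) :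
    ⁅r, b⁆ ∈ B ⊓ centralizer ({r} : Set G) := by
  have hBp := isPGroup_of_exp he
  have hne : B ≠ ⊥ := fun h => by
    rw [h, card_bot] at hB
    exact (Nat.one_lt_pow two_ne_zero hp.out.one_lt).ne hB
  have h1 := CL.commutator_lt_of_isPGroup hBp hrp (zpowers_le.2 hr) hne
  have h2 : Nat.card ↥⁅B, zpowers r⁆ ≤ p := by
    have h3 := card_dvd_of_le h1.le
    rw [hB] at h3
    obtain ⟨j, hj, hj'⟩ := (Nat.dvd_prime_pow hp.out).1 h3
    have : j ≠ 2 := fun h => h1.ne (eq_of_le_of_card_ge h1.le (by rw [hj', hB, h]))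
    rw [hj']
    calc p ^ j ≤ p ^ 1 := Nat.pow_le_pow_right hp.out.pos (by omega)
      _ = p := pow_one p
  have h4 := CL.le_centralizer_of_card_le_prime (zpowers r) ⁅B, zpowers r⁆ hrp
    (normalizer_commutator_ge_right B (zpowers r)) h2
  have h5 : ⁅r, b⁆ ∈ ⁅B, zpowers r⁆ := by
    rw [commutator_comm]; exact commutator_mem_commutator (mem_zpowers r) hb
  exact ⟨h1.le h5, mem_centralizer_singleton_iff.2 (h4 (mem_zpowers r) _ h5)⟩

theorem transvection {B : Subgroup G} (he : ∀ b ∈ B, b ^ p = 1) (hB : Nat.card B = p ^ 2) {r : G}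
    (hr : r ∈ normalizer (B : Set G)) (hrp : IsPGroup p (zpowers r)) {v w : G} (hv : v ∈ B)
    (hv1 : v ≠ 1) (hvr : v ∈ centralizer ({r} : Set G)) (hw : w ∈ B)
    (hwr : w ∉ centralizer ({r} : Set G)) {t : G} (ht : t ∈ zpowers v) :
    ∃ u ∈ zpowers r, u * v * u⁻¹ = v ∧ u * w * u⁻¹ = t * w := by
  have hov : orderOf v = p := orderOf_eq_prime (he v hv) hv1
  have hV : zpowers v = B ⊓ centralizer ({r} : Set G) := by
    refine eq_of_le_of_card_ge (zpowers_le.2 ⟨hv, hvr⟩) ?_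
    have h3 := card_dvd_of_le (inf_le_left : B ⊓ centralizer ({r} : Set G) ≤ B)
    rw [hB] at h3
    obtain ⟨j, hj, hj'⟩ := (Nat.dvd_prime_pow hp.out).1 h3
    have : j ≠ 2 := fun h => hwr
      ((eq_of_le_of_card_ge (inf_le_left : B ⊓ centralizer ({r} : Set G) ≤ B) (by rw [hj', hB, h])).ge hw).2
    rw [hj', Nat.card_zpowers, hov]
    calc p ^ j ≤ p ^ 1 := Nat.pow_le_pow_right hp.out.pos (by omega)
      _ = p := pow_one p
  have hc := comm_mem_cent he hB hr hrp hw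
  set c := ⁅r, w⁆ with hcdef
  have hc1 : c ≠ 1 := fun h => hwr
    (mem_centralizer_singleton_iff.2 (commutatorElement_eq_one_iff_mul_comm.1 h).symm)
  have hcV : zpowers c = zpowers v := by
    refine eq_of_le_of_card_ge (zpowers_le.2 (hV.ge hc)) ?_
    rw [Nat.card_zpowers, Nat.card_zpowers, hov, orderOf_eq_prime (he c hc.1) hc1]
  have hcr : Commute c r := mem_centralizer_singleton_iff.1 hc.2
  have key : ∀ i : ℕ, r ^ i * w * (r ^ i)⁻¹ = c ^ i * w := fun i => by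
    induction i with
    | zero => simp
    | succ i ih =>
      calc r ^ (i + 1) * w * (r ^ (i + 1))⁻¹ = r * (r ^ i * w * (r ^ i)⁻¹) * r⁻¹ := by
            rw [pow_succ']; group
        _ = (r * c ^ i) * w * r⁻¹ := by rw [ih]; group
        _ = c ^ i * (c * w) := by
            rw [← (hcr.pow_left i).eq, hcdef, commutatorElement_def]; group
        _ = _ := by rw [pow_succ]; group
  obtain ⟨i, hi⟩ := (mem_powers_iff_mem_zpowers.2 (hcV.ge ht))
  refine ⟨r ^ i, pow_mem (mem_zpowers r) i, ?_, by rw [key, show c ^ i = t from hi]⟩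
  have : Commute v r := mem_centralizer_singleton_iff.1 hvr
  rw [← (this.pow_right i).eq]; group

theorem exists_inverting {B N : Subgroup G} (he : ∀ b ∈ B, b ^ p = 1) (hB : Nat.card B = p ^ 2)
    (hN : N ≤ normalizer (B : Set G)) {r g : G} (hr : r ∈ N) (hg : g ∈ N)
    (hrp : IsPGroup p (zpowers r)) {v : G} (hv : v ∈ B) (hvr : v ∈ centralizer ({r} : Set G))
    (hgv : g * v * g⁻¹ ∉ centralizer ({r} : Set G)) : ∃ τ ∈ N, ∀ b ∈ B, τ * b * τ⁻¹ = b⁻¹ := by
  have hBc := le_cent_of_comm (IsPGroup.isMulCommutative_of_card_eq_prime_sq hB)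
  have hv1 : v ≠ 1 := fun h => hgv (by rw [h]; simp)
  set w := g * v * g⁻¹ with hwdef
  have hw : w ∈ B := conj_mem_of_mem_normalizer (hN hg) hv
  have hw1 : w ≠ 1 := fun h => hgv (h ▸ one_mem _)
  have hwv : w ∉ zpowers v := fun h => hgv ((zpowers_le.2 hvr) h)
  have hsup : zpowers v ⊔ zpowers w = B := CL.PG.sup_zpowers_eq_of_card hp.out (zpowers_le.2 hv)
    (by rw [hB, Nat.card_zpowers, orderOf_eq_prime (he v hv) hv1, sq]) hw hwv
  have hr' : g * r * g⁻¹ ∈ N := mul_mem (mul_mem hg hr) (inv_mem hg)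
  have hwr' : w ∈ centralizer ({g * r * g⁻¹} : Set G) := mem_centralizer_singleton_iff.2 (by
    have := mem_centralizer_singleton_iff.1 hvr
    calc w * (g * r * g⁻¹) = g * (v * r) * g⁻¹ := by rw [hwdef]; group
      _ = _ := by rw [this, hwdef]; group)
  have hvr' : v ∉ centralizer ({g * r * g⁻¹} : Set G) := fun h => by
    have h1 : B ≤ centralizer ({g * r * g⁻¹} : Set G) := by
      rw [← hsup]; exact sup_le (zpowers_le.2 h) (zpowers_le.2 hwr')
    have h2 := mem_centralizer_singleton_iff.1 (h1 (conj_mem_of_mem_normalizer (hN hg) hw))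
    refine hgv (mem_centralizer_singleton_iff.2 ?_)
    calc w * r = g⁻¹ * (g * w * g⁻¹ * (g * r * g⁻¹)) * g := by group
      _ = _ := by rw [h2]; group
  obtain ⟨a, ha, ha1, ha2⟩ := transvection he hB (hN hr) hrp hv hv1 hvr hw hgv (mem_zpowers v)
  obtain ⟨b, hb, hb1, hb2⟩ := transvection he hB (hN hr') (CL.Isol.isPGroup_zpowers_conj hrp g) hw hw1 hwr'
    hv hvr' (inv_mem (mem_zpowers w))
  clear_value w
  have haN : a ∈ N := (zpowers_le.2 hr) ha
  have hbN : b ∈ N := (zpowers_le.2 hr') hb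
  have hvw : v * w = w * v := hBc hw v hv
  set s := a * b * a with hs
  have hsv : s * v * s⁻¹ = w⁻¹ := by
    calc s * v * s⁻¹ = a * (b * (a * v * a⁻¹) * b⁻¹) * a⁻¹ := by rw [hs]; group
      _ = a * (w⁻¹ * v) * a⁻¹ := by rw [ha1, hb2]
      _ = (a * w * a⁻¹)⁻¹ * (a * v * a⁻¹) := by group
      _ = _ := by rw [ha1, ha2]; group
  have hsw : s * w * s⁻¹ = v := by
    calc s * w * s⁻¹ = a * (b * (a * w * a⁻¹) * b⁻¹) * a⁻¹ := by rw [hs]; group
      _ = a * ((b * v * b⁻¹) * (b * w * b⁻¹)) * a⁻¹ := by rw [ha2]; group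
      _ = a * (w⁻¹ * (v * w)) * a⁻¹ := by rw [hb1, hb2]; group
      _ = a * v * a⁻¹ := by rw [hvw]; group
      _ = _ := ha1
  have h1 : s * s * v * (s * s)⁻¹ = v⁻¹ := by
    calc s * s * v * (s * s)⁻¹ = s * (s * v * s⁻¹) * s⁻¹ := by group
      _ = (s * w * s⁻¹)⁻¹ := by rw [hsv]; group
      _ = _ := by rw [hsw]
  have h2 : s * s * w * (s * s)⁻¹ = w⁻¹ := by
    calc s * s * w * (s * s)⁻¹ = s * (s * w * s⁻¹) * s⁻¹ := by group
      _ = _ := by rw [hsw, hsv]
  have hsN : s ∈ N := mul_mem (mul_mem haN hbN) haN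
  refine ⟨s * s, mul_mem hsN hsN, fun y hy => ?_⟩
  obtain ⟨_, ⟨i, rfl⟩, j, rfl⟩ := mem_sup_zpowers_of_norm (centralizer_le_normalizer _
    (centralizer_le (zpowers_le.2 hv) (hBc hw))) (hsup.ge hy)
  have hc : Commute (v ^ i) (w ^ j) := Commute.zpow_zpow hvw i j
  calc s * s * (v ^ i * w ^ j) * (s * s)⁻¹
      = (s * s * v * (s * s)⁻¹) ^ i * (s * s * w * (s * s)⁻¹) ^ j := by
        rw [conj_zpow (a := s * s) (b := v), conj_zpow (a := s * s) (b := w)]; group
    _ = (w ^ j * v ^ i)⁻¹ := by rw [h1, h2]; group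
    _ = _ := by rw [← hc.eq]

/-- structure of the essential subgroups -/
theorem ess_struct (hp2 : p ≠ 2) (hrk : PRankLE p 2 G) {x : G} (hx : orderOf x = p) (hxc : x ∈ center G)
    {P : Sylow p G} (hxP : x ∈ (P : Subgroup G)) {H : Subgroup G} (h : Essential P H) :
    ∃ D ≤ H, normalizer (H : Set G) ≤ normalizer (D : Set G) ∧ Nat.card D = p ^ 3 ∧
      (∀ d ∈ D, d ^ p = 1) ∧ x ∈ D ∧
      (∀ a ∈ H, ∃ d ∈ D, ∃ c ∈ H ⊓ centralizer (D : Set G), a = d * c) ∧
      IsCyclic ↥(H ⊓ centralizer (D : Set G)) ∧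
      ∀ g ∈ normalizer (H : Set G), (orderOf g).Coprime p → g ∈ centralizer (D : Set G) →
        g ∈ centralizer (H : Set G) := by
  have hxp : x ^ p = 1 := by rw [← hx, pow_orderOf_eq_one]
  have hxC : ∀ S : Set G, x ∈ centralizer S := fun S => center_le_centralizer S hxc
  have hHp : IsPGroup p H := P.isPGroup'.to_le h.1.le
  have hxH : x ∈ H := h.centric_radical.1 ⟨hxP, hxC _⟩
  obtain ⟨D, hDH, -, hND, hDc, hDe, hZ, -, hcrit⟩ := CL.PG.exists_critical_odd_ambient hp2 hHp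
  have hxD := hZ x ⟨hxH, hxC _⟩ hxp
  haveI : (zpowers x).Normal := CL.R2.normal_of_le_center (zpowers_le.2 hxc)
  have hxz : IsPGroup p (zpowers x) := CL.Misc.isPGroup_zpowers_of_orderOf (n := 1) (by rw [hx, pow_one])
  have hD : Nat.card D = p ^ 3 := by
    obtain ⟨k, hk⟩ := (isPGroup_of_exp hDe).exists_card_eq
    have hk3 : k ≤ 3 := (Nat.pow_le_pow_iff_right hp.out.one_lt).1 (hk ▸ card_le_cube hrk hDe)
    by_contra hne
    have hk2 : k ≤ 2 := by
      rcases hk3.eq_or_lt with rfl | h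
      · exact absurd hk hne
      · omega
    have h1 := rad h (K := St (normalizer (H : Set G)) D (zpowers x) le_normalizer_of_normal)
      (fun g hg => hg.1) (le_normalizer_St _ hND) fun g hg ho => hcrit g hg.1 ho
        (St.cent hxz hg ho (le_centralizer_iff.1 (zpowers_le.2 (hxC _)) (mem_top g)))
    obtain ⟨r, hr, hrH⟩ := SetLike.exists_of_lt (lt_inf_normalizer_of_lt P.isPGroup' h.1)
    refine hrH (h1 ⟨hr.1, hr.2, fun d hd => ?_⟩)
    let π := QuotientGroup.mk' (zpowers x)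
    have h2 : Nat.card (D.map π) ≤ p := by
      have h3 := CL.card_map_mul_card_inf_ker D π
      rw [QuotientGroup.ker_mk', inf_eq_right.2 (zpowers_le.2 hxD), Nat.card_zpowers, hx, hk] at h3
      refine Nat.le_of_mul_le_mul_right ?_ hp.out.pos
      rw [h3, ← sq]
      exact Nat.pow_le_pow_right hp.out.pos hk2
    have h4 := CL.le_centralizer_of_card_le_prime (zpowers (π r)) (D.map π)
      (CL.Isol.isPGroup_zpowers_map (CL.Misc.isPGroup_zpowers_of_mem P.isPGroup' hr.1) π)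
      (zpowers_le.2 (le_normalizer_map π (mem_map_of_mem π (hND hr.2)))) h2
    exact CL.R2.comm_mem_iff.2 (h4 (mem_zpowers _) _ (mem_map_of_mem π hd)).symm
  obtain ⟨hZD, -⟩ := center_of_cube hrk hDe hD hx hxD (hxC _)
  exact ⟨D, hDH, hND, hD, hDe, hxD, fun a ha => exists_mul_cent hDH hx hxD hxc hDe hZD (fun g hg d hd => by
      rw [← commutatorElement_inv]
      exact inv_mem (hZD.le (hDc (commutator_mem_commutator hd hg)))) ha,
    isCyclic_of_omega hp2 hHp.to_inf_left hx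
      fun y hy hyp => hZD.le ⟨mem_of_cube hrk hDe hD hyp hy.2, hy.2⟩, hcrit⟩

theorem ess_comm (hp2 : p ≠ 2) (hrk : PRankLE p 2 G) {x : G} (hx : orderOf x = p) (hxc : x ∈ center G)
    {P : Sylow p G} (hxP : x ∈ (P : Subgroup G)) {H : Subgroup G} (h : Essential P H) {a b : G}
    (ha : a ∈ H) (hb : b ∈ H) : ⁅a, b⁆ ∈ zpowers x := by
  obtain ⟨D, -, -, hD, hDe, hxD, hdec, hcyc, -⟩ := ess_struct hp2 hrk hx hxc hxP h
  obtain ⟨d, hd, c, hc, rfl⟩ := hdec a ha
  obtain ⟨d', hd', c', hc', rfl⟩ := hdec b hb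
  have h1 : Commute c c' := (le_cent_of_comm (D := H ⊓ centralizer (D : Set G)) inferInstance hc' c hc)
  have h2 : Commute c d' := (hc.2 d' hd').symm
  have h3 : Commute d c' := hc'.2 d hd
  have h4 : Commute c d := (hc.2 d hd).symm
  have h5 : Commute c' d' := (hc'.2 d' hd').symm
  have e : ⁅d * c, d' * c'⁆ = ⁅d, d'⁆ := by
    have h6 : Commute c (d' * c') := h2.mul_right h1
    calc ⁅d * c, d' * c'⁆ = d * (c * (d' * c')) * c⁻¹ * d⁻¹ * (d' * c')⁻¹ := by
          rw [commutatorElement_def]; group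
      _ = d * d' * (c' * d⁻¹) * c'⁻¹ * d'⁻¹ := by rw [h6.eq]; group
      _ = _ := by rw [← h3.inv_left.eq, commutatorElement_def]; group
  rw [e, ← (center_of_cube hrk hDe hD hx hxD (center_le_centralizer _ hxc)).2]
  exact commutator_mem_commutator hd hd'

theorem ess_le (hp2 : p ≠ 2) (hrk : PRankLE p 2 G) {x : G} (hx : orderOf x = p) (hxc : x ∈ center G)
    {P : Sylow p G} (hxP : x ∈ (P : Subgroup G)) {M : Subgroup G}
    (hM : ∀ a ∈ (P : Subgroup G), ∀ y ∈ normalizer ((P : Subgroup G) : Set G), a⁻¹ * (y * a * y⁻¹) ∈ M)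
    (hMp : ∀ a ∈ (P : Subgroup G), a ^ p ∈ M) {H : Subgroup G} (h : Essential P H) {a n : G}
    (ha : a ∈ H) (hn : n ∈ normalizer (H : Set G)) : a⁻¹ * (n * a * n⁻¹) ∈ M := by
  have hx1 : x ≠ 1 := fun h => hp.out.one_lt.ne' (by rw [← hx, h, orderOf_one])
  have hxC : ∀ S : Set G, x ∈ centralizer S := fun S => center_le_centralizer S hxc
  obtain ⟨D, hDH, hND, hD, hDe, hxD, hdec, hcyc, hcrit⟩ := ess_struct hp2 hrk hx hxc hxP h
  have hHP := h.1.le
  have hDp := isPGroup_of_exp hDe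
  haveI : (zpowers x).Normal := CL.R2.normal_of_le_center (zpowers_le.2 hxc)
  have hxz : IsPGroup p (zpowers x) := CL.Misc.isPGroup_zpowers_of_orderOf (n := 1) (by rw [hx, pow_one])
  have hxM : zpowers x ≤ M := by
    rw [← (center_of_cube hrk hDe hD hx hxD (hxC _)).2]
    refine commutator_le.2 fun d hd e he => ?_
    have := hM _ (inv_mem (hHP (hDH hd))) _ (le_normalizer (hHP (hDH he)))
    simpa [commutatorElement_def, mul_assoc] using this
  set N := normalizer (H : Set G) with hN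
  let π := QuotientGroup.mk' (zpowers x)
  have hB : Nat.card (D.map π) = p ^ 2 := by
    have h3 := CL.card_map_mul_card_inf_ker D π
    rw [QuotientGroup.ker_mk', inf_eq_right.2 (zpowers_le.2 hxD), Nat.card_zpowers, hx, hD] at h3
    exact Nat.eq_of_mul_eq_mul_right hp.out.pos (by rw [h3]; ring)
  have hBe : ∀ b ∈ D.map π, b ^ p = 1 := by
    rintro _ ⟨d, hd, rfl⟩
    rw [← map_pow, hDe d hd, map_one]
  have hNB : N.map π ≤ normalizer ((D.map π : Subgroup _) : Set _) :=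
    (map_mono hND).trans (le_normalizer_map π)
  obtain ⟨r, hr, hrH⟩ := SetLike.exists_of_lt (lt_inf_normalizer_of_lt P.isPGroup' h.1)
  rw [mem_inf] at hr
  have hrp : IsPGroup p (zpowers r) := CL.Misc.isPGroup_zpowers_of_mem P.isPGroup' hr.1
  have hrp' := CL.Isol.isPGroup_zpowers_map hrp π
  -- an element of `N(H)` moving the fixed line
  obtain ⟨g, hg, v, hv, hvr, hgv⟩ : ∃ g ∈ N, ∃ v ∈ D, π v ∈ centralizer ({π r} : Set _) ∧
      π g * π v * (π g)⁻¹ ∉ centralizer ({π r} : Set _) := by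
    by_contra hno
    push Not at hno
    set V := D ⊓ (centralizer ({π r} : Set _)).comap π with hV
    have hNV : N ≤ normalizer (V : Set G) := fun g hg => mem_normalizer_fintype fun v hv =>
      ⟨conj_mem_of_mem_normalizer (hND hg) hv.1, by
        have := hno g hg v hv.1 hv.2
        simpa [mem_comap] using this⟩
    have h1 := rad h (K := St N D V hNV ⊓ St N V (zpowers x) le_normalizer_of_normal)
      (fun g hg => hg.1.1)
      ((le_inf (le_normalizer_St _ hND) (le_normalizer_St _ hNV)).trans inf_normalizer_le_normalizer_inf)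
      fun g hg ho => hcrit g hg.1.1 ho (St.cent hDp.to_inf_left hg.1 ho
        (St.cent hxz hg.2 ho (le_centralizer_iff.1 (zpowers_le.2 (hxC _)) (mem_top g))))
    refine hrH (h1 ⟨hr.1, ⟨hr.2, fun d hd => ⟨?_, ?_⟩⟩, hr.2, fun v hv => ?_⟩)
    · exact D.mul_mem (conj_mem_of_mem_normalizer (hND hr.2) hd) (D.inv_mem hd)
    · have := (comm_mem_cent hBe hB (hNB (mem_map_of_mem π hr.2)) hrp' (mem_map_of_mem π hd)).2
      rwa [← map_commutatorElement] at this
    · exact CL.R2.comm_mem_iff.2 (mem_centralizer_singleton_iff.1 hv.2).symm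
  obtain ⟨_, ⟨τ, hτ, rfl⟩, hinv⟩ := exists_inverting hBe hB hNB (mem_map_of_mem π hr.2)
    (mem_map_of_mem π hg) hrp' (mem_map_of_mem π hv) hvr hgv
  -- Frattini argument
  set K := St N D (zpowers x) le_normalizer_of_normal with hK
  have hKN : K ≤ N := fun g hg => hg.1
  have hNK : N ≤ normalizer (K : Set G) := le_normalizer_St _ hND
  have hR : CL.Misc.SylIn p ((P : Subgroup G) ⊓ N) (K ⊔ ((P : Subgroup G) ⊓ N)) :=
    CL.Misc.SylIn.mono ⟨inf_le_right, P.isPGroup'.to_inf_left, h.2.1⟩ le_sup_right (sup_le hKN inf_le_right)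
  have hτr : τ * r * τ⁻¹ ∈ K ⊔ ((P : Subgroup G) ⊓ N) := by
    have h1 : τ * r * τ⁻¹ * r⁻¹ ∈ K := ⟨mul_mem (mul_mem (mul_mem hτ hr.2) (inv_mem hτ)) (inv_mem hr.2),
      fun d hd => CL.R2.comm_mem_iff.2 (by
        have hb : (π r)⁻¹ * π d * (π r)⁻¹⁻¹ ∈ D.map π :=
          conj_mem_of_mem_normalizer (inv_mem (hNB (mem_map_of_mem π hr.2))) (mem_map_of_mem π hd)
        have e1 := hinv _ (inv_mem hb)
        have e2 := hinv _ (inv_mem (mem_map_of_mem π hd))
        change π (τ * r * τ⁻¹ * r⁻¹) * π d = π d * π (τ * r * τ⁻¹ * r⁻¹)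
        simp only [map_mul, map_inv]
        generalize π τ = t at *
        generalize π r = s at *
        generalize π d = e at *
        have e3 : t⁻¹ * (s⁻¹ * e * s) * t = s⁻¹ * e⁻¹ * s := by
          calc t⁻¹ * (s⁻¹ * e * s) * t = t⁻¹ * (s⁻¹ * e * s⁻¹⁻¹)⁻¹⁻¹ * t := by group
            _ = _ := by rw [← e1]; group
        calc t * s * t⁻¹ * s⁻¹ * e = t * s * (t⁻¹ * (s⁻¹ * e * s) * t) * t⁻¹ * s⁻¹ := by group
          _ = (t * e⁻¹ * t⁻¹) * (t * s * t⁻¹ * s⁻¹) := by rw [e3]; group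
          _ = _ := by rw [e2, inv_inv])⟩
    have := mul_mem_sup h1 (show r ∈ (P : Subgroup G) ⊓ N from ⟨hr.1, hr.2⟩)
    simpa using this
  obtain ⟨l, hl, hl'⟩ := hR.exists_conj_le (CL.Isol.isPGroup_zpowers_conj hrp τ) (zpowers_le.2 hτr)
  have hl1 := hl' _ (mem_zpowers _)
  rw [sup_comm] at hl
  obtain ⟨r1, hr1, k, hk, rfl⟩ := (coe_mul_of_left_le_normalizer_right _ K (inf_le_right.trans hNK)).le hl
  have hσr : k * τ * r * (k * τ)⁻¹ ∈ (P : Subgroup G) := by
    have := mul_mem (mul_mem (inv_mem (mem_inf.1 hr1).1) (mem_inf.1 hl1).1) (mem_inf.1 hr1).1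
    convert this using 1
    group
  have hσN : k * τ ∈ N := mul_mem hk.1 hτ
  have hσ : ∀ d ∈ D, d * (k * τ * d * (k * τ)⁻¹) ∈ zpowers x := fun d hd => by
    rw [← QuotientGroup.eq_one_iff]
    change π _ = 1
    have e1 := hinv _ (mem_map_of_mem π hd)
    have e2 : π k * π d⁻¹ = π d⁻¹ * π k := CL.R2.comm_mem_iff.1 (hk.2 _ (inv_mem hd))
    simp only [map_mul, map_inv] at e2 ⊢
    calc π d * (π k * π τ * π d * (π k * π τ)⁻¹) = π d * (π k * (π τ * π d * (π τ)⁻¹)) * (π k)⁻¹ := by group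
      _ = 1 := by rw [e1, e2]; group
  obtain ⟨c, hc, y, hy, h', hch, he⟩ := alperin_goldschmidt_chain P (insert r (D : Set G)) (k * τ)⁻¹
    (by
      rintro a (rfl | ha)
      exacts [hr.1, hHP (hDH ha)])
    (by
      rintro _ ⟨a, rfl | ha, rfl⟩
      · change (k * τ)⁻¹⁻¹ * a * (k * τ)⁻¹ ∈ (P : Subgroup G)
        rw [inv_inv]; exact hσr
      · change (k * τ)⁻¹⁻¹ * a * (k * τ)⁻¹ ∈ (P : Subgroup G)
        rw [inv_inv]; exact hHP (conj_mem_of_mem_normalizer hσN (hDH ha)))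
  have hDM : D ≤ M := by
    cases hch with
    | nil =>
      intro d hd
      have e1 : k * τ * d * (k * τ)⁻¹ = y⁻¹ * d * y⁻¹⁻¹ := by
        have e2 := hc d (Or.inr hd)
        calc k * τ * d * (k * τ)⁻¹ = (k * τ)⁻¹⁻¹ * d * (k * τ)⁻¹ := by group
          _ = y⁻¹ * c⁻¹ * (d * c) * y := by rw [he]; group
          _ = _ := by rw [e2]; group
      have h1 := hM d (hHP (hDH hd)) _ (inv_mem hy)
      have h2 := hxM (hσ d hd)
      rw [e1] at h2
      have h3 := mul_mem h2 (inv_mem h1)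
      refine CL.Isol.mem_of_pow_mem_of_coprime ((Nat.coprime_primes Nat.prime_two hp.out).2 hp2.symm) ?_
        (by rw [hDe d hd]; exact one_mem _)
      convert h3 using 1
      rw [sq]; group
    | cons hF hA _ =>
      exfalso
      have h1 := ess_comm hp2 hrk hx hxc hxP hF.1 (hA (Or.inr
        (conj_mem_of_mem_normalizer (hND hg) hv))) (hA (Or.inl rfl))
      refine hgv (mem_centralizer_singleton_iff.2 ?_)
      exact CL.R2.comm_mem_iff.1 h1
  obtain ⟨d, hd, c, hc, rfl⟩ := hdec a ha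
  have hnC : n ∈ normalizer ((H ⊓ centralizer (D : Set G) : Subgroup G) : Set G) :=
    inf_normalizer_le_normalizer_inf ⟨hn, normalizer_le_normalizer_centralizer _ (hND hn)⟩
  have hcM : c⁻¹ * (n * c * n⁻¹) ∈ M := by
    obtain ⟨c0, hc0⟩ := (Subgroup.isCyclic_iff_exists_zpowers_eq_top _).1 hcyc
    have hc0m : c0 ∈ H ⊓ centralizer (D : Set G) := hc0 ▸ mem_zpowers c0
    obtain ⟨i, hi⟩ := hc0.ge (conj_mem_of_mem_normalizer hnC hc0m)
    obtain ⟨j, rfl⟩ := hc0.ge hc
    obtain ⟨m, hm⟩ := hc0.ge (show x ∈ H ⊓ centralizer (D : Set G) from ⟨hDH hxD, hxC _⟩)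
    simp only at hi hm ⊢
    have e1 : x ^ (i - 1) = 1 := by
      have e2 : n * x * n⁻¹ = x := by rw [mem_center_iff.1 hxc n]; group
      rw [zpow_sub_one, ← hm, ← zpow_mul, mul_comm m, zpow_mul, hi, conj_zpow, hm, e2, mul_inv_cancel]
    obtain ⟨t, ht⟩ := orderOf_dvd_iff_zpow_eq_one.2 e1
    rw [← conj_zpow, ← hi, ← zpow_mul, ← zpow_neg, ← zpow_add,
      show -j + i * j = (t * j) * (p : ℤ) by rw [← hx]; linear_combination j * ht, zpow_mul, zpow_natCast]
    exact hMp _ (zpow_mem (hHP hc0m.1) _)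
  have hdM : d⁻¹ * (n * d * n⁻¹) ∈ D := mul_mem (inv_mem hd) (conj_mem_of_mem_normalizer (hND hn) hd)
  have e : (d * c)⁻¹ * (n * (d * c) * n⁻¹) = d⁻¹ * (n * d * n⁻¹) * (c⁻¹ * (n * c * n⁻¹)) := by
    have := (inv_mem (mem_inf.1 hc).2) _ hdM
    calc (d * c)⁻¹ * (n * (d * c) * n⁻¹) = c⁻¹ * (d⁻¹ * (n * d * n⁻¹)) * (n * c * n⁻¹) := by group
      _ = _ := by rw [← this]; group
  rw [e]
  exact mul_mem (hDM hdM) hcM

theorem Concl.of_subgroupOf {P N : Subgroup G} (hPN : P ≤ N) (h : Concl p (P.subgroupOf N)) :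
    Concl p P := by
  have hc : Nat.card (P.subgroupOf N) = Nat.card P := Nat.card_congr (subgroupOfEquivOfLe hPN).toEquiv
  rcases h with ⟨h1, h2⟩ | ⟨h1, k, hk, h2, s, hs, h3⟩
  · exact Or.inl ⟨hc ▸ h1, fun y hy => by simpa using congrArg Subtype.val (h2 ⟨y, hPN hy⟩ hy)⟩
  · refine Or.inr ⟨h1, k, hk, hc ▸ h2, s, hs, le_trans ?_ h3⟩
    rw [← card_map_of_injective (K := P.subgroupOf N ⊓ centralizer ({s} : Set N)) N.subtype_injective]
    exact card_le_of_le fun g hg => ⟨⟨g, hPN hg.1⟩, ⟨hg.1, mem_centralizer_singleton_iff.2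
      (Subtype.ext (mem_centralizer_singleton_iff.1 hg.2))⟩, rfl⟩

/-- the focal condition -/
def Foc (P : Subgroup G) : Prop :=
  ∀ Y ≤ P, (∀ a ∈ P, ∀ g : G, g * a * g⁻¹ ∈ P → a⁻¹ * (g * a * g⁻¹) ∈ Y) → P ≤ Y

theorem main_central (hp2 : p ≠ 2) (hrk : PRankLE p 2 G) {x : G} (hx : orderOf x = p)
    (hxc : x ∈ center G) (P : Sylow p G) (hxP : x ∈ (P : Subgroup G)) (hF : Foc (P : Subgroup G)) :
    Concl p (P : Subgroup G) := by
  set N := normalizer ((P : Subgroup G) : Set G) with hN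
  have hPN : (P : Subgroup G) ≤ N := le_normalizer
  haveI : ((P : Subgroup G).subgroupOf N).Normal := normal_in_normalizer
  have hPp : IsPGroup p ((P : Subgroup G).subgroupOf N) := P.isPGroup'.comap_subtype
  have hi : ¬ p ∣ ((P : Subgroup G).subgroupOf N).index := (CL.Misc.sylIn_of_sylow P hPN).not_dvd
  obtain ⟨A, hA⟩ := exists_right_complement'_of_coprime (N := (P : Subgroup G).subgroupOf N)
    (CL.coprime_card_of_isPGroup hPp (hp.out.coprime_iff_not_dvd.2 hi).symm).symm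
  have hAc : (Nat.card A).Coprime p := by
    rw [← hA.symm.index_eq_card]
    exact (hp.out.coprime_iff_not_dvd.2 hi).symm
  refine Concl.of_subgroupOf hPN (step2 (A := A) hp2 (prankLE_sub hrk N) hPp hAc (x := ⟨x, hPN hxP⟩)
    (by rw [← hx]; exact Subgroup.orderOf_mk x _) hxP
    (mem_center_iff.2 fun y => Subtype.ext (mem_center_iff.1 hxc y)) ?_)
  set Q := (P : Subgroup G).subgroupOf N with hQ
  have hQA : ⁅Q, A⁆ ≤ Q := commutator_le_left Q A
  set M₀ : Subgroup N := ⁅Q, A⁆ ⊔ (frattini Q).map Q.subtype with hM₀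
  have hM₀Q : M₀ ≤ Q := sup_le hQA (map_subtype_le _)
  have hM : ∀ a ∈ (P : Subgroup G), ∀ y ∈ N, a⁻¹ * (y * a * y⁻¹) ∈ M₀.map N.subtype := by
    intro a ha y hy
    obtain ⟨⟨t, α⟩, h1⟩ := hA.existsUnique ⟨y, hy⟩
    have h2 := h1.1
    simp only at h2
    set b : N := ⟨a, hPN ha⟩ with hb
    have hbQ : b ∈ Q := ha
    refine ⟨b⁻¹ * (⟨y, hy⟩ * b * (⟨y, hy⟩ : N)⁻¹), ?_, rfl⟩
    rw [← h2]
    have hc : (α : N) * b * (α : N)⁻¹ ∈ Q := ‹Q.Normal›.conj_mem b hbQ α
    have e : b⁻¹ * ((t : N) * α * b * ((t : N) * α)⁻¹) =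
        ⁅b⁻¹, (α : N)⁆ * ⁅((α : N) * b * (α : N)⁻¹)⁻¹, (t : N)⁆ := by
      simp only [commutatorElement_def]; group
    rw [e]
    exact mul_mem_sup (commutator_mem_commutator (inv_mem hbQ) α.2)
      (CL.PG.commutator_le_frattini_map hPp (commutator_mem_commutator (inv_mem hc) t.2))
  have hMp : ∀ a ∈ (P : Subgroup G), a ^ p ∈ M₀.map N.subtype := fun a ha =>
    ⟨⟨a, hPN ha⟩ ^ p, mem_sup_right (CL.PG.pow_mem_frattini_map hPp ha), rfl⟩
  have hchain : ∀ (B : Set G) (h : G), Chain id (EssStep P) B h → ∀ a ∈ B,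
      a⁻¹ * (h⁻¹ * a * h) ∈ M₀.map N.subtype := by
    intro B h hch
    induction hch with
    | nil => intro a _; simp
    | @cons H n B g hF hB _ ih =>
      intro a ha
      have h1 := ess_le hp2 hrk hx hxc hxP hM hMp hF.1 (hB ha) (inv_mem hF.mem_normalizer)
      have h2 := ih _ ⟨a, ha, rfl⟩
      convert mul_mem h1 h2 using 1
      group
  have hPM := hF (M₀.map N.subtype) (by
    rintro _ ⟨b, hb, rfl⟩
    exact hM₀Q hb) fun a ha g hg => by
      obtain ⟨c, hc, y, hy, h, hch, he⟩ := alperin_goldschmidt_chain P {a} g⁻¹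
        (Set.singleton_subset_iff.2 ha) (by
          rintro _ ⟨_, rfl, rfl⟩
          change g⁻¹⁻¹ * _ * g⁻¹ ∈ (P : Subgroup G)
          rw [inv_inv]; exact hg)
      have e : g * a * g⁻¹ = y⁻¹ * (h⁻¹ * a * h) * y⁻¹⁻¹ := by
        have e2 := hc a rfl
        calc g * a * g⁻¹ = g⁻¹⁻¹ * a * g⁻¹ := by group
          _ = y⁻¹ * h⁻¹ * c⁻¹ * (a * c) * h * y := by rw [he]; group
          _ = _ := by rw [e2]; group
      have h1 : h⁻¹ * a * h ∈ (P : Subgroup G) := by
        have := conj_mem_of_mem_normalizer hy hg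
        rw [e] at this
        convert this using 1
        group
      rw [e]
      convert mul_mem (hchain _ _ hch a rfl) (hM _ h1 _ (inv_mem hy)) using 1
      group
  refine le_antisymm hQA ?_
  have h1 : (⁅Q, A⁆.subgroupOf Q) ⊔ frattini Q = ⊤ := by
    apply map_injective Q.subtype_injective
    rw [Subgroup.map_sup, map_subgroupOf_eq_of_le hQA, ← MonoidHom.range_eq_map, range_subtype]
    refine le_antisymm hM₀Q fun b hb => ?_
    obtain ⟨b', h1, h2⟩ := hPM hb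
    rw [← (Subtype.ext h2 : b' = b)]; exact h1
  exact subgroupOf_eq_top.1 (frattini_nongenerating h1)

/-- the isolated case reduces to the central case -/
theorem main_isolated (hp2 : p ≠ 2) (hrk : PRankLE p 2 G) {x : G} (hx : orderOf x = p)
    (hiso : IsIsolated x) (P : Sylow p G) (hxP : x ∈ (P : Subgroup G)) (hF : Foc (P : Subgroup G)) :
    Concl p (P : Subgroup G) := by
  have hxz : IsPGroup p (zpowers x) := CL.Misc.isPGroup_zpowers_of_orderOf (n := 1) (by rw [hx, pow_one])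
  set C := centralizer ({x} : Set G) with hC
  have hPC : (P : Subgroup G) ≤ C := CL.Isol.le_centralizer hiso P.isPGroup' hxP
  refine Concl.of_subgroupOf hPC (main_central hp2 (prankLE_sub hrk C) (x := ⟨x, hPC hxP⟩)
    (by rw [← hx]; exact Subgroup.orderOf_mk x _)
    (mem_center_iff.2 fun y => Subtype.ext (mem_centralizer_singleton_iff.1 y.2)) (P.subtype hPC) hxP ?_)
  intro Y hY hYf b hb
  have h1 := hF (Y.map C.subtype) (by
    rintro _ ⟨y, hy, rfl⟩
    exact hY hy) fun a ha g hg => by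
      have hxa : x ∈ centralizer ({a} : Set G) :=
        mem_centralizer_singleton_iff.2 (mem_centralizer_singleton_iff.1 (hPC ha)).symm
      have h2 : g⁻¹ * x * g⁻¹⁻¹ ∈ centralizer ({a} : Set G) := mem_centralizer_singleton_iff.2 (by
        have := mem_centralizer_singleton_iff.1 (hPC hg)
        calc g⁻¹ * x * g⁻¹⁻¹ * a = g⁻¹ * (x * (g * a * g⁻¹)) * g := by group
          _ = _ := by rw [← this]; group)
      obtain ⟨c, hc, hcg⟩ := CL.Isol.exists_centralizer_mul hiso hxz hxa h2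
      have e : g * a * g⁻¹ = (c * g⁻¹)⁻¹ * a * (c * g⁻¹)⁻¹⁻¹ := by
        have := mem_centralizer_singleton_iff.1 hc
        calc g * a * g⁻¹ = g * c⁻¹ * (c * a) * g⁻¹ := by group
          _ = _ := by rw [this]; group
      refine ⟨_, hYf ⟨a, hPC ha⟩ ha ⟨_, inv_mem hcg⟩ ?_, ?_⟩
      · change (c * g⁻¹)⁻¹ * a * (c * g⁻¹)⁻¹⁻¹ ∈ (P : Subgroup G)
        rw [← e]; exact hg
      · rw [e]; rfl
  obtain ⟨b', h2, h3⟩ := h1 hb
  rw [← (Subtype.ext h3 : b' = b)]; exact h2

end CL.ZP
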