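/-
Solvability of the normalizer of a Sylow `2`-subgroup of a normal subgroup, and of outer automorphism groups.
-/
import Mathlib
import Cfsg.Agent.S3065
import Cfsg.Agent.S1161
import Cfsg.Agent.S0014
import Cfsg.Agent.INV.ElemAbGL
import Cfsg.Agent.PLOC.ElemAb
import Cfsg.Agent.CHAR.Burnside
import Cfsg.Agent.TECH.Amb

set_option autoImplicit false
set_option linter.unusedSectionVars false

namespace CL.OutS

open Cfsg Subgroup CL.MSS CL.Comp
open scoped commutatorElement

variable {X : Type*} [Group X] [Finite X]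

omit [Finite X] in
theorem perfect_le_centralizer_of_isCyclic {J F : Subgroup X} (hF : IsCyclic F) (hJ : ⁅J, J⁆ = J)
    (hn : J ≤ normalizer (F : Set X)) : J ≤ centralizer (F : Set X) := by
  let _ := hF.mulAutMulEquiv.toMonoidHom.commGroupOfInjective hF.mulAutMulEquiv.injective
  refine hJ.ge.trans (commutator_le.2 fun a ha b hb => ?_)
  have : ⁅(⟨a, hn ha⟩ : normalizer (F : Set X)), (⟨b, hn hb⟩ : normalizer (F : Set X))⁆ ∈
      F.normalizerMonoidHom.ker := by
    rw [MonoidHom.mem_ker, map_commutatorElement]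
    exact commutatorElement_eq_one_iff_mul_comm.2 (mul_comm _ _)
  rwa [normalizerMonoidHom_ker] at this

/-- A perfect group of automorphisms of an elementary abelian `2`-group normalizing a group of odd order
transitive on the involutions is trivial. -/
theorem perfect_eq_bot_of_trans {W : Type*} [CommGroup W] [Finite W] (he : ∀ w : W, w ^ 2 = 1)
    {D J : Subgroup (MulAut W)} (hD : Odd (Nat.card D)) (ht : ∀ a b : W, a ≠ 1 → b ≠ 1 → ∃ d ∈ D, d a = b)
    (hJ : ⁅J, J⁆ = J) (hn : J ≤ normalizer (D : Set (MulAut W))) : J = ⊥ := by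
  have : Finite (MulAut W) := Finite.of_injective (fun f : MulAut W => (f : W → W)) DFunLike.coe_injective
  rcases subsingleton_or_nontrivial W with hW | hW
  · exact eq_bot_iff.2 fun a _ => MulEquiv.ext fun _ => Subsingleton.elim _ _
  let _ : DistribMulAction D (Additive W) :=
    { smul := fun d w => Additive.ofMul (d.1 w.toMul)
      one_smul := fun _ => rfl
      mul_smul := fun _ _ _ => rfl
      smul_zero := fun d => congrArg Additive.ofMul (map_one d.1)
      smul_add := fun d a b => congrArg Additive.ofMul (map_mul d.1 a.toMul b.toMul) }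
  have : FaithfulSMul D (Additive W) := ⟨fun h => Subtype.ext (MulEquiv.ext fun w => h (Additive.ofMul w))⟩
  have hc := (Cfsg.Agent.S1161.result (D := D) (E := Additive W) hD Nat.prime_two
    (fun e => congrArg Additive.ofMul (he e.toMul)) fun a b ha hb => by
      obtain ⟨d, hd, e⟩ := ht a.toMul b.toMul ha hb
      exact ⟨⟨d, hd⟩, congrArg Additive.ofMul e⟩).1
  have hc' : IsCyclic (fittingOf D) :=
    isCyclic_of_surjective _ ((fittingSubgroup D).equivMapOfInjective _ D.subtype_injective).surjective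
  have h1 := commutator_eq_bot_iff_le_centralizer.2
    (perfect_le_centralizer_of_isCyclic hc' hJ (hn.trans (normalizer_le_normalizer_fittingOf D)))
  have h2 : ⁅⁅D, J⁆, fittingOf D⁆ = ⊥ := commutator_commutator_eq_bot_of_rotate (by rw [h1, commutator_bot_left])
    (commutator_eq_bot_of_le (commutator_comm J _ ▸ h1) (commutator_le_left_of_normalizes (le_normalizer_fittingOf D))
      le_rfl)
  have h3 : ⁅D, J⁆ = ⊥ := commutator_eq_bot_of_perfect hJ (commutator_eq_bot_of_le (commutator_comm J _ ▸ h1)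
    ((le_inf (commutator_eq_bot_iff_le_centralizer.1 h2) (commutator_le_left_of_normalizes hn)).trans
      (centralizer_fittingOf_inf_le (isSolvable_of_odd _ hD))) le_rfl)
  refine eq_bot_of_perfect_of_isSolvable hJ (isSolvable_of_not_two_dvd _ fun h => ?_)
  have : Fact (Nat.Prime 2) := ⟨Nat.prime_two⟩
  obtain ⟨⟨j, hj⟩, hj2⟩ := exists_prime_orderOf_dvd_card' (G := J) 2 h
  rw [orderOf_mk] at hj2
  obtain ⟨hjj, hj1⟩ := orderOf_eq_prime_iff.1 hj2
  obtain ⟨w, hw⟩ : ∃ w, j w ≠ w := by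
    by_contra! k
    exact hj1 (MulEquiv.ext k)
  have hf : j (w * j w) = w * j w := by
    rw [map_mul, mul_comm, ← MulAut.mul_apply, ← sq, hjj, MulAut.one_apply]
  have h0 : w * j w ≠ 1 := fun e => hw (mul_left_cancel (e.trans ((he w).symm.trans (sq w))))
  obtain ⟨d, hd, e⟩ := ht _ w h0 (by rintro rfl; exact hw (map_one j))
  have k := commutator_eq_bot_iff_le_centralizer.1 h3 hd j hj
  exact hw (by rw [← e, ← MulAut.mul_apply, k, MulAut.mul_apply, hf])

theorem solv_of_rep {S : Subgroup X} (hC : ∀ J ≤ centralizer (S : Set X), ⁅J, J⁆ = J → J = ⊥)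
    {A : Type*} [Group A] (ρ : normalizer (S : Set X) →* A)
    (h1 : ∀ g, (orderOf g).Coprime 2 → ρ g = 1 → g.1 ∈ centralizer (S : Set X))
    (h2 : ∀ J : Subgroup A, J ≤ ρ.range → ⁅J, J⁆ = J → J = ⊥) : Group.IsSolvable (normalizer (S : Set X)) := by
  have : Fact (Nat.Prime 2) := ⟨Nat.prime_two⟩
  have := Cfsg.Agent.S3065.solv_of_perfect (⊤ : Subgroup (normalizer (S : Set X))) fun J _ hJ => by
    have k := (Subgroup.map_eq_bot_iff _).1 (h2 _ (map_le_range ρ J) (by rw [← map_commutator, hJ]))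
    obtain ⟨P, hP⟩ := exists_sylIn 2 J
    have k2 : J ≤ oU[2] J := PComp.perfect_le_of_le_sup_solvable hJ (isSolvable_of_isPGroup' hP.pgroup)
      (hP.le.trans (oU_normal J)) (oU_sup_sylIn hP).ge
    exact (map_eq_bot_iff_of_injective _ (subtype_injective _)).1 (hC (J.map (Subgroup.subtype _))
      (map_le_iff_le_comap.2 (k2.trans (oU_le_iff.2 fun g hg hg' => h1 g hg' (k hg))))
      (by rw [← map_commutator, hJ]))
  exact isSolvable_of_mulEquiv topEquiv

theorem odd_map {L S : Subgroup X} (hS : SylIn 2 S L) {A : Type*} [Group A] [Finite A]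
    (ρ : normalizer (S : Set X) →* A) (h : ∀ g, g.1 ∈ S → ρ g = 1) :
    ¬ 2 ∣ Nat.card ((L.subgroupOf _).map ρ) := by
  have : Fact (Nat.Prime 2) := ⟨Nat.prime_two⟩
  have k := ((hS.inf_of_le le_normalizer).subgroupOf inf_le_right).map ρ
  rw [(Subgroup.map_eq_bot_iff _).2 fun g hg => h g hg, inf_subgroupOf_right] at k
  exact not_dvd_card_of_sylIn_bot k

omit [Finite X] in
theorem range_le_normalizer (L S : Subgroup X) [L.Normal] {A : Type*} [Group A] (ρ : normalizer (S : Set X) →* A) :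
    ρ.range ≤ normalizer (((L.subgroupOf _).map ρ : Subgroup A) : Set A) := by
  rw [MonoidHom.range_eq_map]
  exact (map_mono le_normalizer_of_normal).trans (le_normalizer_map ρ)

theorem exists_rep_gl {S : Subgroup X} (hS : IsPGroup 2 S) {n : ℕ} (hn : (frattini S).index ≤ 2 ^ n) :
    ∃ ρ : normalizer (S : Set X) →* GL (Fin n) (ZMod 2),
      (∀ g, (orderOf g).Coprime 2 → ρ g = 1 → g.1 ∈ centralizer (S : Set X)) ∧ ∀ g, g.1 ∈ S → ρ g = 1 := by
  have : Fact (Nat.Prime 2) := ⟨Nat.prime_two⟩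
  let q : MulAut S →* MulAut (S ⧸ frattini S) :=
    { toFun := fun σ => QuotientGroup.congr _ _ σ (characteristic_iff_map_eq.1 inferInstance σ)
      map_one' := by ext ⟨x⟩; rfl
      map_mul' := fun _ _ => by ext ⟨x⟩; rfl }
  obtain ⟨hc, he⟩ := (PG.frattini_eq_bot_iff (hS.to_quotient _)).1 (frattini_quotient_frattini S)
  obtain ⟨f, hf⟩ := EAGL.exists_hom_gl hc.is_comm.comm he hn
  have hq : ∀ g (y : S), q (S.normalizerMonoidHom g) (y : _ ⧸ _) = (S.normalizerMonoidHom g y : S) := fun _ _ => rfl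
  refine ⟨f.comp (q.comp S.normalizerMonoidHom), fun g h1 h2 => ?_, fun g hg => ?_⟩
  · refine zpowers_le.1 (le_centralizer_comm.1 (coprime_le_centralizer_of_commutator_le_frattini _ _
      (zpowers_le.2 g.2) (coprime_card_of_isPGroup (hS.to_subgroup _) (by rwa [Nat.card_zpowers, orderOf_coe]))
      (commutator_le.2 ?_)))
    rintro y hy _ ⟨k, rfl⟩
    have k1 : q (S.normalizerMonoidHom (g ^ k)) = 1 := by
      rw [map_zpow, map_zpow, show q (S.normalizerMonoidHom g) = 1 from hf (h2.trans (map_one f).symm), one_zpow]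
    have k2 := hq (g ^ k) ⟨y⁻¹, inv_mem hy⟩
    rw [k1, MulAut.one_apply, QuotientGroup.eq] at k2
    refine ⟨_, k2, ?_⟩
    show y⁻¹⁻¹ * (g.1 ^ k * y⁻¹ * (g.1 ^ k)⁻¹) = ⁅y, g.1 ^ k⁆
    simp [commutatorElement_def, mul_assoc]
  · have : q (S.normalizerMonoidHom g) = 1 := by
      ext ⟨y⟩
      refine (hq g y).trans (QuotientGroup.eq.2 ?_)
      convert PG.commutatorElement_mem_frattini hS ⟨g, hg⟩ y⁻¹ using 1
      apply Subtype.ext
      show (g.1 * y * g.1⁻¹)⁻¹ * y = _
      simp [commutatorElement_def, mul_assoc]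
    exact (congrArg f this).trans (map_one f)

variable {L S : Subgroup X} [L.Normal] (hS : SylIn 2 S L) (hC : ∀ J ≤ centralizer (S : Set X), ⁅J, J⁆ = J → J = ⊥)
include hS hC

theorem solv_two (hn : (frattini S).index ≤ 2 ^ 2) : Group.IsSolvable (normalizer (S : Set X)) := by
  obtain ⟨ρ, h1, -⟩ := exists_rep_gl hS.pgroup hn
  refine solv_of_rep hC ρ h1 fun J _ hJ => eq_bot_of_perfect_of_isSolvable hJ
    (Char.isSolvable_of_card_dvd_pow_mul_pow (a := 1) (b := 1) Nat.prime_two Nat.prime_three ?_)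
  convert card_subgroup_dvd_card J
  rw [Matrix.card_GL_field]; simp [Fin.prod_univ_two]

theorem solv_three (hn : (frattini S).index ≤ 2 ^ 3) {g : X} (hg : g ∈ L) (hg' : g ∈ normalizer (S : Set X))
    (ho : Odd (orderOf g)) (hc : g ∉ centralizer (S : Set X)) : Group.IsSolvable (normalizer (S : Set X)) := by
  obtain ⟨ρ, h1, h2⟩ := exists_rep_gl hS.pgroup hn
  have h3 := odd_map hS ρ h2
  set D := (L.subgroupOf _).map ρ
  have hD : Nat.card D ≠ 1 := fun e => hc (h1 ⟨g, hg'⟩ (by rw [orderOf_mk]; exact ho.coprime_two_right)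
    (mem_bot.1 ((card_eq_one.1 e).le (mem_map_of_mem ρ (show (⟨g, hg'⟩ : normalizer (S : Set X)) ∈ _ from hg)))))
  have hle : D ≤ ρ.range := map_le_range _ _
  have : (D.subgroupOf ρ.range).Normal := (normal_subgroupOf_iff_le_normalizer hle).2 (range_le_normalizer L S ρ)
  have h4 : Nat.card D * (D.subgroupOf ρ.range).index ∣ 168 := by
    rw [← Nat.card_congr (subgroupOfEquivOfLe hle).toEquiv, card_mul_index]
    convert card_subgroup_dvd_card ρ.range
    rw [Matrix.card_GL_field]; simp [Fin.prod_univ_three]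
  have := isSolvable_subgroupOf (isSolvable_of_not_two_dvd _ h3) ρ.range
  have : Group.IsSolvable (ρ.range ⧸ D.subgroupOf ρ.range) := by
    obtain ⟨q, hq, k⟩ := Nat.exists_prime_and_dvd hD
    have k2 := (Nat.mul_dvd_mul_right k _).trans h4
    have k3 : q ∣ 2 ^ 3 * 3 * 7 := (Dvd.intro _ rfl).trans k2
    rcases (hq.dvd_mul.1 k3).imp_left hq.dvd_mul.1 with (e | e) | e
    · exact (h3 ((Nat.prime_dvd_prime_iff_eq hq Nat.prime_two).1 (hq.dvd_of_dvd_pow e) ▸ k)).elim
    · rw [(Nat.prime_dvd_prime_iff_eq hq Nat.prime_three).1 e] at k2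
      exact Char.isSolvable_of_card_dvd_pow_mul_pow (a := 3) (b := 1) Nat.prime_two Nat.prime_seven
        (Nat.dvd_of_mul_dvd_mul_left (by norm_num) k2)
    · rw [(Nat.prime_dvd_prime_iff_eq hq Nat.prime_seven).1 e] at k2
      exact Char.isSolvable_of_card_dvd_pow_mul_pow (a := 3) (b := 1) Nat.prime_two Nat.prime_three
        (Nat.dvd_of_mul_dvd_mul_left (by norm_num) k2)
  have : Group.IsSolvable ρ.range := Group.isSolvable_of_ker_le_range (D.subgroupOf ρ.range).subtype
    (QuotientGroup.mk' (D.subgroupOf ρ.range)) (by rw [QuotientGroup.ker_mk', range_subtype])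
  exact solv_of_rep hC ρ h1 fun J h hJ => eq_bot_of_perfect_of_le_solvable hJ h this

theorem solv_comm (hc : IsMulCommutative S) (ht : ∀ s ∈ S, ∀ t ∈ S, orderOf s = 2 → orderOf t = 2 →
    ∃ g ∈ L, g ∈ normalizer (S : Set X) ∧ g * s * g⁻¹ = t) : Group.IsSolvable (normalizer (S : Set X)) := by
  have : Fact (Nat.Prime 2) := ⟨Nat.prime_two⟩
  have hV := Th.elemAb_omegaOne (p := 2) hc
  have hcm : ∀ a ∈ S, ∀ b ∈ S, a * b = b * a := fun a ha b hb => (le_centralizer_iff_isMulCommutative.2 hc hb a ha)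
  let ρ := (omegaOne 2 S).normalizerMonoidHom.comp (inclusion (Th.normalizer_le_normalizer_omegaOne (p := 2) S))
  have hρ : ∀ g (v : omegaOne 2 S), (ρ g v : X) = g.1 * v * g.1⁻¹ := fun _ _ => rfl
  have : Finite (MulAut (omegaOne 2 S)) :=
    Finite.of_injective (fun f : MulAut (omegaOne 2 S) => (f : _ → _)) DFunLike.coe_injective
  refine solv_of_rep hC ρ (fun g h1 h2 s hs => ?_) fun J h hJ => ?_
  · obtain ⟨k, hk⟩ := isPGroup_iff_forall_mem.1 hS.pgroup s hs
    have hfix : ∀ s ∈ S, s ^ 2 = 1 → g.1 * s * g.1⁻¹ = s := fun s hs h => by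
      rw [← hρ g ⟨s, Th.mem_omegaOne_of hs h⟩, h2]; rfl
    suffices g.1 * s * g.1⁻¹ = s from (mul_inv_eq_iff_eq_mul.1 this).symm
    induction k generalizing s with
    | zero => rw [pow_zero, pow_one] at hk; simp [hk]
    | succ k ih =>
      have hs' := (mem_normalizer_iff.1 g.2 s).1 hs
      have e := ih (s ^ 2) (pow_mem hs 2) (by rw [← pow_mul, ← pow_succ', hk])
      set u := g.1 * s * g.1⁻¹ * s⁻¹ with hu
      have hu2 : u ^ 2 = 1 := by
        rw [hu, Commute.mul_pow (hcm _ hs' _ (inv_mem hs)), conj_pow, e, inv_pow, mul_inv_cancel]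
      have hf := hfix u (mul_mem hs' (inv_mem hs)) hu2
      have hn : ∀ n : ℕ, g.1 ^ n * s * (g.1 ^ n)⁻¹ = u ^ n * s := fun n => by
        induction n with
        | zero => simp
        | succ n ih =>
          calc g.1 ^ (n + 1) * s * (g.1 ^ (n + 1))⁻¹ = g.1 * (g.1 ^ n * s * (g.1 ^ n)⁻¹) * g.1⁻¹ := by group
            _ = (g.1 * u * g.1⁻¹) ^ n * (u * s) := by rw [ih, conj_pow, hu]; group
            _ = _ := by rw [hf, pow_succ, mul_assoc (u ^ n)]
      have h3 := hn (orderOf g)
      rw [← coe_pow, pow_orderOf_eq_one] at h3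
      have h4 : u = 1 := (pow_eq_one_iff_of_coprime h1).1 ⟨by simpa using h3.symm, hu2⟩
      exact mul_inv_eq_one.1 h4
  · let _ : CommGroup (omegaOne 2 S) := { (inferInstance : Group _) with mul_comm := hV.1.is_comm.comm }
    refine perfect_eq_bot_of_trans (fun w => Subtype.ext (hV.2 w w.2)) (D := (L.subgroupOf _).map ρ)
      (Nat.odd_iff.2 (Nat.two_dvd_ne_zero.1 (odd_map hS ρ fun g hg => MulEquiv.ext fun v => Subtype.ext ?_)))
      (fun a b ha hb => ?_) hJ (h.trans (range_le_normalizer L S ρ))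
    · rw [hρ, hcm _ hg _ (Th.omegaOne_le S v.2), mul_inv_cancel_right]; rfl
    · obtain ⟨g, h1, h2, e⟩ := ht a (Th.omegaOne_le S a.2) b (Th.omegaOne_le S b.2)
        (orderOf_eq_prime (hV.2 a a.2) fun e => ha (Subtype.ext e))
        (orderOf_eq_prime (hV.2 b b.2) fun e => hb (Subtype.ext e))
      exact ⟨ρ ⟨g, h2⟩, mem_map_of_mem ρ h1, Subtype.ext e⟩

omit hS hC

/-- `Out(G)` is solvable as soon as the normalizer of a Sylow `2`-subgroup of `Inn(G)` in `Aut(G)` is. -/
theorem out_solvable {G : Type*} [Group G] [Finite G] [IsSimpleGroup G] (hG : ¬ IsMulCommutative G) (S : Sylow 2 G)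
    (h : Function.Injective (MulAut.conj : G →* MulAut G) → ∀ [Finite (MulAut G)],
      SylIn 2 ((S : Subgroup G).map MulAut.conj) (Inn G) →
      (∀ J ≤ centralizer (((S : Subgroup G).map MulAut.conj : Subgroup (MulAut G)) : Set (MulAut G)),
        ⁅J, J⁆ = J → J = ⊥) →
      Group.IsSolvable (normalizer (((S : Subgroup G).map MulAut.conj : Subgroup (MulAut G)) : Set (MulAut G)))) :
    Group.IsSolvable (Out G) := by
  have : Fact (Nat.Prime 2) := ⟨Nat.prime_two⟩
  have : Finite (MulAut G) := Finite.of_injective (fun f : MulAut G => (f : G → G)) DFunLike.coe_injective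
  have hinj : Function.Injective (MulAut.conj : G →* MulAut G) := by
    rw [injective_iff_map_eq_one]
    refine fun g hg => mem_bot.1 ((center_eq_bot_of_isSimpleGroup hG).le (mem_center_iff.2 fun x => ?_))
    exact (mul_inv_eq_iff_eq_mul.1 (DFunLike.congr_fun hg x)).symm
  have hSyl : SylIn 2 ((S : Subgroup G).map MulAut.conj) (Inn G) := by
    simpa only [← MonoidHom.range_eq_map] using (sylIn_top S).map (MulAut.conj : G →* MulAut G)
  have hO : PComp.opOf 2 (Inn G) = ⊥ := by
    rw [Inn, MonoidHom.range_eq_map, PComp.opOf_map_of_injective 2 _ hinj, PComp.opOf_top,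
      (Normal.eq_bot_or_eq_top (inferInstance : (pPrimeCore 2 G).Normal)).resolve_right fun e =>
        (isQuasisimple_of_isSimpleGroup hG).not_isSolvable (isSolvable_of_odd _
          (Nat.coprime_two_right.1 (pPrimeCore_eq_top_iff.1 e))), Subgroup.map_bot]
  have := h hinj hSyl fun J hJ hJJ => eq_bot_of_perfect_of_isSolvable hJJ (isSolvable_of_not_two_dvd _ fun h2 => by
    obtain ⟨⟨x, hx⟩, hx2⟩ := exists_prime_orderOf_dvd_card' (G := J) 2 h2
    rw [orderOf_mk] at hx2
    obtain ⟨k1, k2⟩ := orderOf_eq_prime_iff.1 hx2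
    refine k2 (MulEquiv.ext fun g => hinj ?_)
    have := PComp.commutator_mem_opOf_of_perfect hSyl hJJ hJ hx (k := 1) k1 (g := MulAut.conj g) ⟨g, rfl⟩
    rw [hO, mem_bot, mul_inv_eq_one] at this
    rw [MulAut.one_apply, ← this]
    ext y
    simp)
  refine Group.isSolvable_of_surjective (f := (QuotientGroup.mk' (Inn G)).comp
    (normalizer (((S : Subgroup G).map MulAut.conj : Subgroup (MulAut G)) : Set (MulAut G))).subtype) fun y => ?_
  obtain ⟨x, rfl⟩ := QuotientGroup.mk'_surjective (Inn G) y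
  obtain ⟨n, hn, y, hy, rfl⟩ := hSyl.frattini (x := x) (le_normalizer_of_normal (mem_top x))
  exact ⟨⟨y, hy⟩, by rw [map_mul, show QuotientGroup.mk' _ n = 1 from (QuotientGroup.eq_one_iff n).2 hn, one_mul]; rfl⟩

theorem out_solvable_congr {G G' : Type*} [Group G] [Group G'] (e : G ≃* G') (h : Group.IsSolvable (Out G')) :
    Group.IsSolvable (Out G) :=
  isSolvable_of_mulEquiv (QuotientGroup.congr (Inn G') (Inn G) (MulAut.congr e.symm) (by
    ext φ
    constructor
    · rintro ⟨_, ⟨g, rfl⟩, rfl⟩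
      exact ⟨e.symm g, by ext x; simp⟩
    · rintro ⟨g, rfl⟩
      exact ⟨_, ⟨e g, rfl⟩, by ext x; simp⟩))

theorem frattini_index_le {P P' : Type*} [Group P] [Finite P] [Group P'] (hP : IsPGroup 2 P) (e : P ≃* P')
    (T : Finset P) (hT : closure (T : Set P) = ⊤) {n : ℕ} (hn : T.card ≤ n) : (frattini P').index ≤ 2 ^ n := by
  have : Fact (Nat.Prime 2) := ⟨Nat.prime_two⟩
  obtain ⟨k, hk⟩ := hP.index (frattini P)
  rw [← PG.frattini_map_eq_of_surjective hP e.toMonoidHom e.surjective]
  exact (Nat.le_of_dvd (Nat.pos_of_ne_zero index_ne_zero_of_finite) (index_map_dvd _ e.surjective)).trans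
    (hk.le.trans (Nat.pow_le_pow_right two_pos (((Cfsg.Agent.S0014.result 2 k hP hk).2 T hT).trans hn)))

end CL.OutS
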