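import Cfsg.Agent.TECH.MiscSyl
import Cfsg.Agent.SOLV.Basic
import Cfsg.Agent.INV.TransferCtl

/-! # A transfer lemma of Wielandt type for a normal subgroup of prime index in a subgroup -/

namespace CL.Misc

open scoped Pointwise

variable {G : Type*} [Group G]

theorem prime_index_of_isCoatom [Finite G] {K : Subgroup G} [K.Normal] (h : IsCoatom K) :
    K.index.Prime := by
  have h1 : K.index ≠ 1 := fun e => h.1 (Subgroup.index_eq_one.1 e)
  obtain ⟨q, hq, hd⟩ := Nat.exists_prime_and_dvd h1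
  have : Fact q.Prime := ⟨hq⟩
  obtain ⟨y, hy⟩ := exists_prime_orderOf_dvd_card' (G := G ⧸ K) q hd
  have h2 := CL.relIndex_comap_mk' K (Subgroup.zpowers y)
  rw [Nat.card_zpowers, hy] at h2
  have h3 : (Subgroup.zpowers y).comap (QuotientGroup.mk' K) = ⊤ := by
    refine h.2 _ (lt_of_le_of_ne (CL.le_comap_mk' K _) fun e => ?_)
    rw [← e, Subgroup.relIndex_self] at h2
    exact hq.one_lt.ne h2
  rw [h3, Subgroup.relIndex_top_right] at h2
  rwa [h2]

theorem eq_or_eq_of_relIndex_prime {H K M : Subgroup G} (hp : (H.relIndex M).Prime)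
    (hHK : H ≤ K) (hKM : K ≤ M) : K = H ∨ K = M := by
  have h := Subgroup.relIndex_mul_relIndex H K M hHK hKM
  rcases (Nat.dvd_prime hp).1 (Dvd.intro _ h) with h1 | h1
  · exact Or.inl (le_antisymm (Subgroup.relIndex_eq_one.1 h1) hHK)
  · right
    rw [h1] at h
    have h2 : K.relIndex M = 1 := by
      have := hp.pos
      nlinarith
    exact le_antisymm hKM (Subgroup.relIndex_eq_one.1 h2)

theorem sup_zpowers_eq_of_prime {H M : Subgroup G} (hp : (H.relIndex M).Prime) (hHM : H ≤ M)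
    {x : G} (hx : x ∈ M) (hxH : x ∉ H) : H ⊔ Subgroup.zpowers x = M := by
  rcases eq_or_eq_of_relIndex_prime hp (le_sup_left (b := Subgroup.zpowers x))
    (sup_le hHM (Subgroup.zpowers_le.2 hx)) with h | h
  · exact absurd (h ▸ Subgroup.mem_sup_right (Subgroup.mem_zpowers x)) hxH
  · exact h

/-- If `H` is normal of prime index in `M` and `M ∩ M^g ≤ H` for all `g ∉ M`, then a normal
subgroup with abelian quotient contains `H` and meets `M` in `H`. -/
theorem exists_normal_inf_eq [Finite G] {H M : Subgroup G} (hHM : H ≤ M)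
    (hn : M ≤ Subgroup.normalizer (H : Set G)) (hp : (H.relIndex M).Prime)
    (hTI : ∀ g, g ∉ M → ∀ x ∈ M, g * x * g⁻¹ ∈ M → x ∈ H) :
    ∃ N : Subgroup G, N.Normal ∧ commutator G ≤ N ∧ H ≤ N ∧ N ⊓ M = H := by
  set p := H.relIndex M with hpdef
  have : Fact p.Prime := ⟨hp⟩
  have hH : (H.subgroupOf M).Normal := CL.normal_subgroupOf_of_le_normalizer hn
  have hcard : Nat.card (M ⧸ H.subgroupOf M) = p := rfl
  have hcyc : IsCyclic (M ⧸ H.subgroupOf M) := isCyclic_of_prime_card hcard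
  let _ : CommGroup (M ⧸ H.subgroupOf M) := IsCyclic.commGroup
  let ϕ : M →* M ⧸ H.subgroupOf M := QuotientGroup.mk' _
  have hϕ : ∀ y : M, ϕ y = 1 ↔ (y : G) ∈ H := fun y => QuotientGroup.eq_one_iff y
  have htr : ∀ y : M, MonoidHom.transfer ϕ (y : G) = ϕ y ^ M.index := by
    intro y
    apply CL.Iso.transfer_eq_pow_of_ctrl
    intro k a h
    by_cases ha : a ∈ M
    · have : (⟨a⁻¹ * (y : G) ^ k * a, h⟩ : M) = (⟨a, ha⟩ : M)⁻¹ * y ^ k * ⟨a, ha⟩ := rfl
      rw [this, map_mul, map_mul, map_inv, map_pow, mul_comm, mul_inv_cancel_left]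
    · have h1 : (y : G) ^ k ∈ H :=
        hTI a⁻¹ (fun h' => ha (inv_mem_iff.1 h')) _ (pow_mem y.2 k) (by rwa [inv_inv])
      have h2 : a⁻¹ * (y : G) ^ k * a ∈ H := by
        refine hTI a ha _ h ?_
        rw [show a * (a⁻¹ * (y : G) ^ k * a) * a⁻¹ = (y : G) ^ k by group]
        exact pow_mem y.2 k
      rw [(hϕ _).2 h2, ← map_pow, (hϕ _).2 h1]
  have hidx : ¬ p ∣ M.index := by
    obtain ⟨P, hP⟩ := exists_sylIn (p := p) M
    have hPH : ¬ P ≤ H := by
      intro hle
      apply hP.not_dvd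
      rw [← Subgroup.relIndex_mul_relIndex P H M hle hHM]
      exact Dvd.intro_left _ rfl
    have hN : Subgroup.normalizer (P : Set G) ≤ M := by
      intro g hg
      by_contra hgM
      exact hPH fun x hx => hTI g hgM x (hP.le hx)
        (hP.le ((Subgroup.mem_normalizer_iff.1 hg x).1 hx))
    have h1 : SylIn p P ⊤ := sylIn_of_normalizer le_top
      (hP.mono (le_inf le_top Subgroup.le_normalizer) (inf_le_right.trans hN))
    intro hd
    apply h1.not_dvd
    rw [Subgroup.relIndex_top_right]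
    exact hd.trans (Subgroup.index_dvd_of_le hP.le)
  refine ⟨(MonoidHom.transfer ϕ).ker, inferInstance, Abelianization.commutator_subset_ker _,
    ?_, le_antisymm ?_ (le_inf ?_ hHM)⟩
  · intro h hh
    rw [MonoidHom.mem_ker, htr ⟨h, hHM hh⟩, (hϕ _).2 hh, one_pow]
  · rintro y ⟨hy, hyM⟩
    have h1 : ϕ ⟨y, hyM⟩ ^ M.index = 1 := by rw [← htr]; exact hy
    have h2 : ϕ ⟨y, hyM⟩ ^ p = 1 := by rw [← hcard]; exact pow_card_eq_one'
    have h3 := pow_gcd_eq_one.2 ⟨h2, h1⟩
    rw [((Nat.Prime.coprime_iff_not_dvd hp).2 hidx).gcd_eq_one, pow_one] at h3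
    exact (hϕ _).1 h3
  · intro h hh
    rw [MonoidHom.mem_ker, htr ⟨h, hHM hh⟩, (hϕ _).2 hh, one_pow]

end CL.Misc
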