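import Mathlib
import Cfsg.Agent.PLOC.Critical

/-!
# The Baer trick and the `P ⋉ Q` lemma for odd primes

If `p` is odd, the `p`-group `P` normalises the `p'`-group `Q`, both act on the `p`-group `U` and
`Q` centralises the elements of order `p` of `C_U(P)`, then `Q` centralises `U`.
-/

set_option autoImplicit false

namespace CL.MSS

open Subgroup
open scoped commutatorElement

universe u

/-- `U` has class at most two and odd exponent dividing `2 * k - 1`. -/
structure BaerHyp (k : ℕ) (U : Type*) [Group U] : Prop where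
  comm : ∀ x y z : U, Commute z ⁅x, y⁆
  pow : ∀ x : U, x ^ k * x ^ k = x

/-- The underlying type of the Baer (Lie ring) addition. -/
def Baer {k : ℕ} {U : Type*} [Group U] (_ : BaerHyp k U) := U

namespace Baer

variable {k : ℕ} {U : Type*} [Group U] (h : BaerHyp k U)

/-- The Baer product. -/
def bmul (k : ℕ) (x y : U) : U := ⁅y, x⁆ ^ k * (x * y)

include h in
theorem comm_mul_left (x y z : U) : ⁅x * y, z⁆ = ⁅x, z⁆ * ⁅y, z⁆ := by
  rw [CL.PG.commutator_mul_left_of_commute (h.comm y z x), (h.comm x z _).eq]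

include h in
theorem comm_mul_right (x y z : U) : ⁅x, y * z⁆ = ⁅x, y⁆ * ⁅x, z⁆ :=
  CL.PG.commutator_mul_right_of_commute (h.comm x z y)

include h in
theorem comm_bmul_left (x y z : U) : ⁅bmul k x y, z⁆ = ⁅x, z⁆ * ⁅y, z⁆ := by
  rw [bmul, comm_mul_left h, comm_mul_left h,
    commutatorElement_eq_one_iff_commute.2 ((h.comm y x z).pow_right k).symm, one_mul]

include h in
theorem comm_bmul_right (x y z : U) : ⁅z, bmul k x y⁆ = ⁅z, x⁆ * ⁅z, y⁆ := by
  rw [bmul, comm_mul_right h, comm_mul_right h,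
    commutatorElement_eq_one_iff_commute.2 ((h.comm y x z).pow_right k), one_mul]

include h in
theorem bmul_assoc (x y z : U) : bmul k (bmul k x y) z = bmul k x (bmul k y z) := by
  have e1 : bmul k (bmul k x y) z =
      ⁅z, x⁆ ^ k * ⁅z, y⁆ ^ k * ⁅y, x⁆ ^ k * (x * y * z) := by
    rw [bmul, comm_bmul_right h, (h.comm z y _).mul_pow, bmul]
    simp only [mul_assoc]
  have e2 : bmul k x (bmul k y z) =
      ⁅y, x⁆ ^ k * ⁅z, x⁆ ^ k * ⁅z, y⁆ ^ k * (x * y * z) := by
    rw [bmul, comm_bmul_left h, (h.comm z x _).mul_pow, bmul, ← mul_assoc x,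
      ((h.comm z y x).pow_right k).eq]
    simp only [mul_assoc]
  rw [e1, e2, ((h.comm y x (⁅z, x⁆ ^ k * ⁅z, y⁆ ^ k)).pow_right k).eq, ← mul_assoc (⁅y, x⁆ ^ k)]

include h in
theorem bmul_comm (x y : U) : bmul k x y = bmul k y x := by
  rw [bmul, bmul, CL.PG.mul_eq_commutator_mul_mul x y, ← mul_assoc]
  congr 1
  have h1 := h.pow ⁅x, y⁆
  rw [← commutatorElement_inv x y, inv_pow, inv_mul_eq_iff_eq_mul, h1]

theorem one_bmul (x : U) : bmul k 1 x = x := by simp [bmul]

theorem bmul_one (x : U) : bmul k x 1 = x := by simp [bmul]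

theorem inv_bmul (x : U) : bmul k x⁻¹ x = 1 := by
  rw [bmul, commutatorElement_eq_one_iff_commute.2 (Commute.refl x).inv_right]
  simp

theorem smul_bmul {A : Type*} [Group A] [MulDistribMulAction A U] (a : A) (x y : U) :
    a • bmul k x y = bmul k (a • x) (a • y) := by
  simp [bmul, commutatorElement_def, smul_mul', smul_pow', smul_inv']

instance commGroup : CommGroup (Baer h) where
  mul := bmul k (U := U)
  one := (1 : U)
  inv := Inv.inv (α := U)
  mul_assoc := @bmul_assoc k U _ h
  mul_comm := @bmul_comm k U _ h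
  one_mul := @one_bmul k U _
  mul_one := @bmul_one k U _
  inv_mul_cancel := inv_bmul (U := U)

/-- An action by automorphisms on `U` is an action by automorphisms for the Baer product. -/
instance mulDistribMulAction {A : Type*} [Group A] [MulDistribMulAction A U] :
    MulDistribMulAction A (Baer h) where
  smul := HSMul.hSMul (α := A) (β := U) (γ := U)
  one_smul := one_smul A (α := U)
  mul_smul := mul_smul (α := A) (β := U)
  smul_one := smul_one (M := A) (N := U)
  smul_mul := smul_bmul (U := U)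

instance [Finite U] : Finite (Baer h) := inferInstanceAs (Finite U)

end Baer

/-- The `P ⋉ Q` lemma on an abelian module. -/
theorem comm_pq_lemma {p : ℕ} [hp : Fact p.Prime] {A V : Type*} [Group A] [CommGroup V] [Finite V]
    [MulDistribMulAction A V] {n : ℕ} (hV : Nat.card V = p ^ n) (P Q : Subgroup A) [Finite Q]
    (hP : IsPGroup p P) (hQ : (Nat.card Q).Coprime p) (hn : P ≤ normalizer (Q : Set A))
    (h : ∀ v : V, (∀ g ∈ P, g • v = v) → ∀ q ∈ Q, q • v = v) : ∀ q ∈ Q, ∀ v : V, q • v = v := by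
  classical
  have := Fintype.ofFinite Q
  let ν : V →* V :=
    { toFun := fun v => ∏ q : Q, (q : A) • v
      map_one' := by simp
      map_mul' := fun v w => by simp [smul_mul', Finset.prod_mul_distrib] }
  have hν : ∀ v, ν v = ∏ q : Q, (q : A) • v := fun v => rfl
  have hker : ν.ker = ⊥ := by
    by_contra hne
    have hinv : ∀ g : P, ∀ v ∈ ν.ker, (g : A) • v ∈ ν.ker := by
      intro g v hv
      rw [MonoidHom.mem_ker, hν] at hv ⊢
      have h1 := congrArg (fun w => (g : A) • w) hv
      simp only [Finset.smul_prod', smul_one] at h1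
      rw [← h1]
      let e : Q ≃ Q := (Q.normalizerMonoidHom ⟨g, hn g.2⟩).toEquiv
      refine (Fintype.prod_equiv e _ _ (fun q => ?_)).symm
      show (g : A) • (q : A) • v = ((g : A) * q * (g : A)⁻¹) • (g : A) • v
      simp [smul_smul]
    let act : MulAction P ν.ker :=
      { smul := fun g v => ⟨(g : A) • (v : V), hinv g v v.2⟩
        one_smul := fun v => Subtype.ext (one_smul A (v : V))
        mul_smul := fun a b v => Subtype.ext (mul_smul (a : A) (b : A) (v : V)) }
    have hd : p ∣ Nat.card ν.ker := by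
      have h1 := card_subgroup_dvd_card ν.ker
      rw [hV] at h1
      obtain ⟨j, -, hj⟩ := (Nat.dvd_prime_pow hp.out).1 h1
      rcases j with _ | j
      · exact absurd (card_eq_one.1 (by simpa using hj)) hne
      · rw [hj]
        exact dvd_pow_self p (Nat.succ_ne_zero j)
    obtain ⟨b, hb, hb1⟩ := hP.exists_fixed_point_of_prime_dvd_card_of_fixed_point ν.ker hd
      (a := 1) (fun g => Subtype.ext (smul_one (g : A)))
    have h1 := h b (fun g hg => congrArg Subtype.val (hb ⟨g, hg⟩))
    have h2 : (b : V) ^ Nat.card Q = 1 := by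
      have h3 : ν b = 1 := b.2
      rw [hν, Finset.prod_congr rfl (fun (q : Q) _ => h1 q q.2), Finset.prod_const, Finset.card_univ,
        ← Nat.card_eq_fintype_card] at h3
      exact h3
    have h3 : (b : V) ^ p ^ n = 1 := by rw [← hV, pow_card_eq_one']
    have h4 : orderOf (b : V) ∣ 1 := by
      rw [← (Nat.Coprime.pow_right n hQ).gcd_eq_one]
      exact Nat.dvd_gcd (orderOf_dvd_of_pow_eq_one h2) (orderOf_dvd_of_pow_eq_one h3)
    exact hb1 (Subtype.ext (orderOf_eq_one_iff.1 (Nat.dvd_one.1 h4)).symm)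
  intro q hq v
  apply (MonoidHom.ker_eq_bot_iff ν).1 hker
  rw [hν, hν]
  refine Fintype.prod_equiv (Equiv.mulRight (⟨q, hq⟩ : Q)) _ _ (fun x => ?_)
  simp [smul_smul]

variable {G : Type*} [Group G] {p : ℕ} [hp : Fact p.Prime]

/-- The `P ⋉ Q` lemma for a group of class two and odd prime exponent. -/
theorem le_centralizer_of_class_two (hp2 : p ≠ 2) {U P Q : Subgroup G} [Finite U] [Finite Q]
    (hU : ⁅U, U⁆ ≤ centralizer (U : Set G)) (hUp : ∀ x ∈ U, x ^ p = 1) (hP : IsPGroup p P)
    (hQ : (Nat.card Q).Coprime p) (hPU : P ≤ normalizer (U : Set G))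
    (hQU : Q ≤ normalizer (U : Set G)) (hPQ : P ≤ normalizer (Q : Set G))
    (h : U ⊓ centralizer (P : Set G) ≤ centralizer (Q : Set G)) : Q ≤ centralizer (U : Set G) := by
  obtain ⟨k, hk⟩ := hp.out.odd_of_ne_two hp2
  have hb : BaerHyp (k + 1) U :=
    ⟨fun x y z => Subtype.ext (hU (commutator_mem_commutator x.2 y.2) z z.2), fun x => by
      rw [← pow_add, show k + 1 + (k + 1) = p + 1 by omega, pow_succ,
        show x ^ p = 1 from Subtype.ext (hUp x x.2), one_mul]⟩
  have hUg : IsPGroup p U := fun x => ⟨1, Subtype.ext (by simpa using hUp x x.2)⟩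
  obtain ⟨n, hn⟩ := hUg.exists_card_eq
  have : Finite (Q.subgroupOf (normalizer (U : Set G))) :=
    Finite.of_equiv _ (subgroupOfEquivOfLe hQU).toEquiv.symm
  have key := comm_pq_lemma (p := p) (A := normalizer (U : Set G)) (V := Baer hb) hn
    (P.subgroupOf _) (Q.subgroupOf _) (hP.comap_subtype)
    (by rwa [Nat.card_congr (subgroupOfEquivOfLe hQU).toEquiv])
    (fun g hg => by
      have := mem_normalizer_iff.1 (hPQ hg)
      rw [mem_normalizer_iff]
      intro x
      exact this x)
    (fun v hv q hq => by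
      have h1 : ((show U from v) : G) ∈ U ⊓ centralizer (P : Set G) := by
        refine mem_inf.2 ⟨Subtype.prop _, fun g hg => ?_⟩
        have h2 : g * ((show U from v) : G) * g⁻¹ = ((show U from v) : G) :=
          congrArg Subtype.val (hv ⟨g, hPU hg⟩ hg)
        rw [mul_inv_eq_iff_eq_mul] at h2
        exact h2
      apply Subtype.ext
      show (q : G) * ((show U from v) : G) * (q : G)⁻¹ = ((show U from v) : G)
      rw [mul_inv_eq_iff_eq_mul]
      exact h h1 q hq)
  intro q hq u hu
  have h2 : q * u * q⁻¹ = u := congrArg Subtype.val (key ⟨q, hQU hq⟩ hq (⟨u, hu⟩ : U))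
  rw [mul_inv_eq_iff_eq_mul] at h2
  exact h2.symm

/-- The `P ⋉ Q` lemma for odd `p`. -/
theorem le_centralizer_of_odd_pq (hp2 : p ≠ 2) {U P Q : Subgroup G} [Finite U] [Finite Q]
    (hU : IsPGroup p U) (hP : IsPGroup p P)
    (hQ : (Nat.card Q).Coprime p) (hPU : P ≤ normalizer (U : Set G))
    (hQU : Q ≤ normalizer (U : Set G)) (hPQ : P ≤ normalizer (Q : Set G))
    (h : ∀ u ∈ U, u ^ p = 1 → u ∈ centralizer (P : Set G) → u ∈ centralizer (Q : Set G)) :
    Q ≤ centralizer (U : Set G) := by
  obtain ⟨H, hHU, -, hn, hc, he, -, -, hf⟩ := CL.PG.exists_critical_odd_ambient hp2 hU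
  have : Finite H := Finite.of_injective _ (inclusion_injective hHU)
  have h1 := le_centralizer_of_class_two hp2 (U := H) (P := P) (Q := Q)
    ((commutator_mono le_rfl hHU).trans (hc.trans inf_le_right)) he hP hQ (hPU.trans hn)
    (hQU.trans hn) hPQ (fun u hu => h u (hHU hu.1) (he u hu.1) hu.2)
  exact fun q hq => hf q (hQU hq) (CL.PG.orderOf_coprime_of_mem hQ hq) (h1 hq)

end CL.MSS
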