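import Cfsg.Agent.SIG.Component
import Cfsg.Agent.S3087
import Cfsg.Agent.PLOC.QuadAct

/-!
Best offenders in the language of representations: fixed points, the Timmesfeld replacement
theorem for `U = V`, and a few identities in the endomorphism ring.
-/

set_option autoImplicit false

namespace CL.PGV

open Cfsg Subgroup
open scoped commutatorElement

section Ring

variable {G R : Type*} [Group G] [Ring R] (r : G →* R)

/-- Group elements fixing the "columns" of `M`. -/
def stab (M : R) : Subgroup G where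
  carrier := {g | r g * M = M}
  one_mem' := by simp
  mul_mem' := fun {a b} ha hb => by
    simp only [Set.mem_ofPred_eq] at *
    rw [map_mul, mul_assoc, hb, ha]
  inv_mem' := fun {a} ha => by
    simp only [Set.mem_ofPred_eq] at *
    calc r a⁻¹ * M = r a⁻¹ * (r a * M) := by rw [ha]
      _ = M := by rw [← mul_assoc, ← map_mul]; simp

/-- Group elements fixing the "rows" of `M`. -/
def rstab (M : R) : Subgroup G where
  carrier := {g | M * r g = M}
  one_mem' := by simp
  mul_mem' := fun {a b} ha hb => by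
    simp only [Set.mem_ofPred_eq] at *
    rw [map_mul, ← mul_assoc, ha, hb]
  inv_mem' := fun {a} ha => by
    simp only [Set.mem_ofPred_eq] at *
    calc M * r a⁻¹ = (M * r a) * r a⁻¹ := by rw [ha]
      _ = M := by rw [mul_assoc, ← map_mul]; simp

variable {r}

theorem mem_stab {M : R} {g : G} : g ∈ stab r M ↔ r g * M = M := Iff.rfl

theorem mem_rstab {M : R} {g : G} : g ∈ rstab r M ↔ M * r g = M := Iff.rfl

theorem mem_stab_iff {M : R} {g : G} : g ∈ stab r M ↔ (r g - 1) * M = 0 := by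
  rw [mem_stab, sub_mul, one_mul, sub_eq_zero]

theorem mem_rstab_iff {M : R} {g : G} : g ∈ rstab r M ↔ M * (r g - 1) = 0 := by
  rw [mem_rstab, mul_sub, mul_one, sub_eq_zero]

theorem mem_stab_sub_iff {g h : G} : g ∈ stab r (r h - 1) ↔ h ∈ rstab r (r g - 1) := by
  rw [mem_stab_iff, mem_rstab_iff]

theorem mul_inv_self (g : G) : r g * r g⁻¹ = 1 := by rw [← map_mul]; simp

theorem inv_mul_self (g : G) : r g⁻¹ * r g = 1 := by rw [← map_mul]; simp

theorem conj_sub_one (g h : G) : r (g * h * g⁻¹) - 1 = r g * (r h - 1) * r g⁻¹ := by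
  rw [map_mul, map_mul, mul_sub, sub_mul, mul_one, mul_inv_self]

/-- Conjugating a relation `[V, h, g] = 0`. -/
theorem conj_mem_stab {g h : G} (x : G) (hg : g ∈ stab r (r h - 1)) :
    x * g * x⁻¹ ∈ stab r (r (x * h * x⁻¹) - 1) := by
  rw [mem_stab_iff] at *
  rw [conj_sub_one, conj_sub_one]
  calc r x * (r g - 1) * r x⁻¹ * (r x * (r h - 1) * r x⁻¹)
      = r x * (r g - 1) * (r x⁻¹ * r x) * (r h - 1) * r x⁻¹ := by simp only [mul_assoc]
    _ = r x * ((r g - 1) * (r h - 1)) * r x⁻¹ := by rw [inv_mul_self]; simp only [mul_assoc, mul_one]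
    _ = 0 := by rw [hg]; simp

theorem le_of_commutator_mem {K S : Subgroup G} (hK : ⁅K, K⁆ = K)
    (h : ∀ z ∈ K, ∀ k ∈ K, ⁅z, k⁆ ∈ S) : K ≤ S := by
  rw [← hK, commutator_le]; exact h

/-- A perfect group acting quadratically acts trivially. -/
theorem le_stab_of_quad {K : Subgroup G} (hK : ⁅K, K⁆ = K) {M : R}
    (h : ∀ z ∈ K, ∀ k ∈ K, (r z - 1) * ((r k - 1) * M) = 0) : K ≤ stab r M := by
  have add : ∀ z ∈ K, ∀ k ∈ K, r (z * k) * M = r z * M + r k * M - M := by
    intro z hz k hk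
    have := h z hz k hk
    rw [map_mul]
    have e : (r z - 1) * ((r k - 1) * M) = r z * r k * M - (r z * M + r k * M - M) := by
      noncomm_ring
    rw [e, sub_eq_zero] at this
    exact this
  refine le_of_commutator_mem hK fun z hz k hk => ?_
  rw [mem_stab]
  have e1 : r (z * k) * M = r (k * z) * M := by rw [add z hz k hk, add k hk z hz]; abel
  have e2 : r ((z * k) * (k * z)⁻¹) * M = M := by
    have := add _ (K.mul_mem hz hk) _ (K.inv_mem (K.mul_mem hk hz))
    have h2 := add _ (K.mul_mem hk hz) _ (K.inv_mem (K.mul_mem hk hz))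
    rw [this, e1, ← h2]; simp
  have : ⁅z, k⁆ = (z * k) * (k * z)⁻¹ := by simp only [commutatorElement_def]; group
  rw [this, e2]

theorem triv_of_quad {K : Subgroup G} (hK : ⁅K, K⁆ = K)
    (h : ∀ z ∈ K, ∀ k ∈ K, (r z - 1) * (r k - 1) = 0) : ∀ k ∈ K, r k = 1 := by
  intro k hk
  have := le_stab_of_quad (r := r) hK (M := 1) (fun z hz k hk => by rw [mul_one, h z hz k hk]) hk
  simpa [mem_stab] using this

theorem triv_of_cubic {K : Subgroup G} (hK : ⁅K, K⁆ = K)
    (h : ∀ z ∈ K, ∀ k ∈ K, ∀ x ∈ K, (r z - 1) * ((r k - 1) * (r x - 1)) = 0) :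
    ∀ k ∈ K, r k = 1 :=
  triv_of_quad hK fun z hz x hx =>
    mem_stab_iff.1 (le_stab_of_quad hK (fun z hz k hk => h z hz k hk x hx) hz)

theorem triv_of_commute {K : Subgroup G} (hK : ⁅K, K⁆ = K)
    (h : ∀ z ∈ K, ∀ k ∈ K, r z * r k = r k * r z) : ∀ k ∈ K, r k = 1 := by
  have : K ≤ r.ker := le_of_commutator_mem hK fun z hz k hk => by
    rw [MonoidHom.mem_ker, commutatorElement_def, map_mul, map_mul, map_mul, h z hz k hk,
      mul_assoc (r k), mul_inv_self, mul_one, mul_inv_self]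
  exact fun k hk => this hk

theorem triv_of_solvable {K : Subgroup G} (hK : ⁅K, K⁆ = K)
    (h : Group.IsSolvable (K.map r.toHomUnits)) : ∀ k ∈ K, r k = 1 := by
  have h1 : K.map r.toHomUnits = ⊥ :=
    CL.Comp.eq_bot_of_perfect_of_isSolvable (by rw [← map_commutator, hK]) h
  intro k hk
  have : r.toHomUnits k ∈ K.map r.toHomUnits := mem_map_of_mem _ hk
  rw [h1, mem_bot] at this
  simpa using congrArg Units.val this

end Ring

section Mod

variable {G V : Type*} [Group G] [AddCommGroup V] {p : ℕ} [Fact p.Prime] [Module (ZMod p) V]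
  (r : G →* Module.End (ZMod p) V)

/-- Fixed points of a subgroup. -/
def fix (B : Subgroup G) : Submodule (ZMod p) V where
  carrier := {v | ∀ b ∈ B, r b v = v}
  add_mem' := fun {x y} hx hy b hb => by rw [map_add, hx b hb, hy b hb]
  zero_mem' := fun b hb => map_zero _
  smul_mem' := fun c x hx b hb => by rw [map_smul, hx b hb]

/-- The measure `|B| |C_V(B)|`. -/
noncomputable def meas (B : Subgroup G) : ℕ := Nat.card B * Nat.card (fix r B)

/-- `A` maximizes the measure among its subgroups. -/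
def Best (A : Subgroup G) : Prop := ∀ B : Subgroup G, B ≤ A → meas r B ≤ meas r A

variable {r}

theorem mem_fix {B : Subgroup G} {v : V} : v ∈ fix r B ↔ ∀ b ∈ B, r b v = v := Iff.rfl

theorem fix_anti {A B : Subgroup G} (h : A ≤ B) : fix r B ≤ fix r A :=
  fun _ hv b hb => hv b (h hb)

theorem fix_sup (A B : Subgroup G) : fix r (A ⊔ B) = fix r A ⊓ fix r B := by
  refine le_antisymm (le_inf (fix_anti le_sup_left) (fix_anti le_sup_right)) ?_
  rintro v ⟨h1, h2⟩
  let S : Subgroup G :=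
    { carrier := {g | r g v = v}
      one_mem' := by simp
      mul_mem' := fun {a b} ha hb => by
        simp only [Set.mem_ofPred_eq] at *
        rw [map_mul, Module.End.mul_apply, hb, ha]
      inv_mem' := fun {a} ha => by
        simp only [Set.mem_ofPred_eq] at *
        calc r a⁻¹ v = r a⁻¹ (r a v) := by rw [ha]
          _ = v := by rw [← Module.End.mul_apply, inv_mul_self]; rfl }
  have : A ⊔ B ≤ S := sup_le h1 h2
  exact fun b hb => this hb

theorem Best.of_le {A B : Subgroup G} (hA : Best r A) (hBA : B ≤ A) (h : meas r A ≤ meas r B) :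
    Best r B := fun C hC => (hA C (hC.trans hBA)).trans h

theorem card_submodule_le [Finite V] {X Y : Submodule (ZMod p) V} (h : X ≤ Y) :
    Nat.card X ≤ Nat.card Y :=
  Nat.card_le_card_of_injective _ (Submodule.inclusion_injective h)

theorem submodule_eq_of_card [Finite V] {X Y : Submodule (ZMod p) V} (h : X ≤ Y)
    (hc : Nat.card Y ≤ Nat.card X) : X = Y := by
  have hb := (Nat.bijective_iff_injective_and_card (Submodule.inclusion h)).2
    ⟨Submodule.inclusion_injective h, le_antisymm (card_submodule_le h) hc⟩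
  refine le_antisymm h fun y hy => ?_
  obtain ⟨x, hx⟩ := hb.2 ⟨y, hy⟩
  have : (x : V) = y := congrArg Subtype.val hx
  exact this ▸ x.2

theorem meas_inf [Finite G] [Finite V] {A B₁ B₂ : Subgroup G} (hA : Best r A) (h₁ : B₁ ≤ A)
    (h₂ : B₂ ≤ A) (e₁ : meas r B₁ = meas r A) (e₂ : meas r B₂ = meas r A) :
    meas r (B₁ ⊓ B₂) = meas r A ∧ fix r (B₁ ⊓ B₂) = fix r B₁ ⊔ fix r B₂ := by
  have a1 := CL.Th.card_mul_card_le B₁ B₂
  have a2 := Cfsg.Agent.S3087.card_sup_mul_card_inf (fix r B₁) (fix r B₂)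
  rw [← fix_sup] at a2
  have a3 := hA _ (sup_le h₁ h₂)
  have a4 := hA _ (inf_le_left.trans h₁ : B₁ ⊓ B₂ ≤ A)
  have hle : fix r B₁ ⊔ fix r B₂ ≤ fix r (B₁ ⊓ B₂) :=
    sup_le (fix_anti inf_le_left) (fix_anti inf_le_right)
  have a5 := card_submodule_le hle
  have pos : 0 < meas r A := Nat.mul_pos Nat.card_pos Nat.card_pos
  have key : meas r A ≤ Nat.card (B₁ ⊓ B₂ : Subgroup G) * Nat.card (fix r B₁ ⊔ fix r B₂ : Submodule _ V) := by
    apply Nat.le_of_mul_le_mul_right _ pos
    calc meas r A * meas r A = meas r B₁ * meas r B₂ := by rw [e₁, e₂]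
      _ = (Nat.card B₁ * Nat.card B₂) * (Nat.card (fix r B₁) * Nat.card (fix r B₂)) := by
          simp only [meas]; ring
      _ ≤ (Nat.card (B₁ ⊓ B₂ : Subgroup G) * Nat.card (B₁ ⊔ B₂ : Subgroup G)) *
          (Nat.card (fix r B₁ ⊔ fix r B₂ : Submodule _ V) * Nat.card (fix r (B₁ ⊔ B₂))) := by
          rw [a2]; exact Nat.mul_le_mul_right _ a1
      _ = Nat.card (B₁ ⊓ B₂ : Subgroup G) * Nat.card (fix r B₁ ⊔ fix r B₂ : Submodule _ V) *
          meas r (B₁ ⊔ B₂) := by simp only [meas]; ring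
      _ ≤ _ := Nat.mul_le_mul_left _ a3
  have a6 : Nat.card (B₁ ⊓ B₂ : Subgroup G) * Nat.card (fix r B₁ ⊔ fix r B₂ : Submodule _ V) ≤
      meas r (B₁ ⊓ B₂) := Nat.mul_le_mul_left _ a5
  refine ⟨le_antisymm a4 (key.trans a6), (submodule_eq_of_card hle ?_).symm⟩
  exact Nat.le_of_mul_le_mul_left (a4.trans key) Nat.card_pos

/-- `[s, A]`. -/
def comm (r : G →* Module.End (ZMod p) V) (s : Set V) (A : Subgroup G) : Submodule (ZMod p) V :=
  Submodule.span (ZMod p) {w | ∃ u ∈ s, ∃ a ∈ A, w = (r a - 1) u}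

/-- `C_A([s, A])`. -/
def repl (r : G →* Module.End (ZMod p) V) (s : Set V) (A : Subgroup G) : Subgroup G where
  carrier := {b | b ∈ A ∧ ∀ u ∈ s, ∀ a ∈ A, r b ((r a - 1) u) = (r a - 1) u}
  one_mem' := ⟨one_mem _, by simp⟩
  mul_mem' := fun {a b} ha hb => ⟨mul_mem ha.1 hb.1, fun u hu c hc => by
    rw [map_mul, Module.End.mul_apply, hb.2 u hu c hc, ha.2 u hu c hc]⟩
  inv_mem' := fun {a} ha => ⟨inv_mem ha.1, fun u hu c hc => by
    calc r a⁻¹ ((r c - 1) u) = r a⁻¹ (r a ((r c - 1) u)) := by rw [ha.2 u hu c hc]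
      _ = _ := by rw [← Module.End.mul_apply, inv_mul_self]; rfl⟩

theorem repl_le (s : Set V) (A : Subgroup G) : repl r s A ≤ A := fun _ h => h.1

theorem comm_sup_le_fix_repl (s : Set V) (A : Subgroup G) :
    comm r s A ⊔ fix r A ≤ fix r (repl r s A) := by
  refine sup_le (Submodule.span_le.2 ?_) (fix_anti (repl_le s A))
  rintro _ ⟨u, hu, a, ha, rfl⟩ b hb
  exact hb.2 u hu a ha

theorem meas_repl_single [Finite G] [Finite V] {A : Subgroup G} (hA : Best r A)
    (hc : ∀ a ∈ A, ∀ b ∈ A, a * b = b * a) (u : V) :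
    meas r (repl r {u} A) = meas r A ∧ fix r (repl r {u} A) = comm r {u} A ⊔ fix r A := by
  set B := repl r {u} A
  set T := comm r {u} A ⊔ fix r A
  let f : (A ⧸ B.subgroupOf A) × fix r A → T := fun x =>
    ⟨(r (x.1.out : A) - 1) u + x.2, Submodule.add_mem_sup
      (Submodule.subset_span ⟨u, rfl, _, x.1.out.2, rfl⟩) x.2.2⟩
  have hf : Function.Injective f := by
    rintro ⟨q, c⟩ ⟨q', c'⟩ h
    have h1 : (r (q.out : A) - 1) u + c = (r (q'.out : A) - 1) u + c' := congrArg Subtype.val h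
    have hq : q = q' := by
      rw [← q.out_eq, ← q'.out_eq, QuotientGroup.eq, mem_subgroupOf]
      refine ⟨mul_mem (inv_mem q.out.2) q'.out.2, ?_⟩
      intro u' hu' a ha
      rw [Set.mem_singleton_iff.1 hu']
      have hx : ((q.out : A) : G) ∈ A := q.out.2
      have hy : ((q'.out : A) : G) ∈ A := q'.out.2
      show r (((q.out : A) : G)⁻¹ * ((q'.out : A) : G)) ((r a - 1) u) = (r a - 1) u
      generalize ((q.out : A) : G) = x at *
      generalize ((q'.out : A) : G) = y at *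
      have h2 : r y u = r x u + (c - c') := by
        simp only [LinearMap.sub_apply, Module.End.one_apply] at h1
        calc r y u = (r y u - u + c') + u - c' := by abel
          _ = _ := by rw [← h1]; abel
      have h3 : r a ((c : V) - c') = c - c' := by rw [map_sub, c.2 a ha, c'.2 a ha]
      have e1 : ∀ z ∈ A, r z ((r a - 1) u) = (r a - 1) (r z u) := fun z hz => by
        rw [← Module.End.mul_apply, ← Module.End.mul_apply, mul_sub, sub_mul, ← map_mul, ← map_mul,
          hc z hz a ha, mul_one, one_mul]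
      rw [map_mul, Module.End.mul_apply, e1 y hy, h2, map_add, ← e1 x hx]
      simp only [LinearMap.sub_apply, Module.End.one_apply] at *
      rw [h3, sub_self, add_zero, ← Module.End.mul_apply, inv_mul_self]; rfl
    subst hq
    have : c = c' := Subtype.ext (add_left_cancel h1)
    rw [this]
  have h1 := Nat.card_le_card_of_injective f hf
  rw [Nat.card_prod] at h1
  have h2 := card_eq_card_quotient_mul_card_subgroup (B.subgroupOf A)
  rw [Nat.card_congr (subgroupOfEquivOfLe (repl_le {u} A)).toEquiv] at h2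
  have key : meas r A ≤ Nat.card B * Nat.card T := by
    calc meas r A = Nat.card B * (Nat.card (A ⧸ B.subgroupOf A) * Nat.card (fix r A)) := by
          rw [meas, h2]; ring
      _ ≤ _ := Nat.mul_le_mul_left _ h1
  have hle := comm_sup_le_fix_repl (r := r) {u} A
  have a4 := hA B (repl_le _ _)
  have a6 : Nat.card B * Nat.card T ≤ meas r B := Nat.mul_le_mul_left _ (card_submodule_le hle)
  refine ⟨le_antisymm a4 (key.trans a6), (submodule_eq_of_card hle ?_).symm⟩
  exact Nat.le_of_mul_le_mul_left (a4.trans key) Nat.card_pos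

theorem meas_repl [Finite G] [Finite V] {A : Subgroup G} (hA : Best r A)
    (hc : ∀ a ∈ A, ∀ b ∈ A, a * b = b * a) :
    meas r (repl r Set.univ A) = meas r A ∧
      fix r (repl r Set.univ A) ≤ comm r Set.univ A ⊔ fix r A := by
  have : ∀ s : Set V, s.Finite → meas r (repl r s A) = meas r A ∧
      fix r (repl r s A) ≤ comm r Set.univ A ⊔ fix r A := by
    intro s hs
    induction s, hs using Set.Finite.induction_on with
    | empty =>
      have : repl r ∅ A = A := le_antisymm (repl_le _ _) fun a ha => ⟨ha, by simp⟩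
      rw [this]; exact ⟨rfl, le_sup_right⟩
    | @insert u s _ _ ih =>
      have e : repl r (insert u s) A = repl r {u} A ⊓ repl r s A := by
        ext b
        constructor
        · rintro ⟨h1, h2⟩
          exact ⟨⟨h1, fun v hv => h2 v (by rw [hv]; simp)⟩, h1, fun v hv => h2 v (by simp [hv])⟩
        · rintro ⟨⟨h1, h2⟩, -, h3⟩
          refine ⟨h1, fun v hv => ?_⟩
          rcases hv with rfl | hv
          · exact h2 v rfl
          · exact h3 v hv
      obtain ⟨s1, s2⟩ := meas_repl_single hA hc u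
      obtain ⟨t1, t2⟩ := meas_inf hA (repl_le _ _) (repl_le _ _) s1 ih.1
      rw [e, t1, t2, s2]
      refine ⟨rfl, sup_le (sup_le_sup_right (Submodule.span_mono ?_) _) ih.2⟩
      rintro _ ⟨v, -, a, ha, rfl⟩
      exact ⟨v, trivial, a, ha, rfl⟩
  exact this _ (Set.toFinite _)

/-- Commuting nilpotent endomorphisms have a common fixed vector modulo an invariant subspace. -/
theorem exists_fixed_mod {S : Set (Module.End (ZMod p) V)} (hS : S.Finite)
    (hc : ∀ s ∈ S, ∀ t ∈ S, s * t = t * s) (hn : ∀ s ∈ S, IsNilpotent s)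
    {U W : Submodule (ZMod p) V} (hU : ∀ s ∈ S, ∀ u ∈ U, s u ∈ U)
    (hW : ∀ s ∈ S, ∀ u ∈ W, s u ∈ W) (hUW : ¬ U ≤ W) :
    ∃ u ∈ U, u ∉ W ∧ ∀ s ∈ S, s u ∈ W := by
  induction S, hS using Set.Finite.induction_on with
  | empty =>
    obtain ⟨u, hu, hu'⟩ := SetLike.not_le_iff_exists.1 hUW
    exact ⟨u, hu, hu', by simp⟩
  | @insert s₀ S _ _ ih =>
    obtain ⟨u, hu, hu', h⟩ := ih (fun s hs t ht => hc s (Or.inr hs) t (Or.inr ht))
      (fun s hs => hn s (Or.inr hs)) (fun s hs => hU s (Or.inr hs)) (fun s hs => hW s (Or.inr hs))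
    obtain ⟨n, hn0⟩ := hn s₀ (Or.inl rfl)
    have ex : ∃ m, (s₀ ^ m) u ∈ W := ⟨n, by rw [hn0]; simp⟩
    classical
    have hm := Nat.find_spec ex
    have hm0 : Nat.find ex ≠ 0 := fun h0 => hu' (by simpa [h0] using hm)
    obtain ⟨m, hm'⟩ := Nat.exists_eq_succ_of_ne_zero hm0
    have powU : ∀ {X : Submodule (ZMod p) V}, (∀ u ∈ X, s₀ u ∈ X) → ∀ j, ∀ u ∈ X, (s₀ ^ j) u ∈ X := by
      intro X hX j
      induction j with
      | zero => intro u hu; simpa using hu
      | succ j ihj => intro u hu; rw [pow_succ', Module.End.mul_apply]; exact hX _ (ihj u hu)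
    refine ⟨(s₀ ^ m) u, powU (hU s₀ (Or.inl rfl)) m u hu, Nat.find_min ex (by omega), ?_⟩
    rintro s (rfl | hs)
    · rw [← Module.End.mul_apply, ← pow_succ']
      rw [hm'] at hm; exact hm
    · have : Commute s s₀ := hc s (Or.inr hs) s₀ (Or.inl rfl)
      rw [← Module.End.mul_apply, (this.pow_right m).eq, Module.End.mul_apply]
      exact powU (hW s₀ (Or.inl rfl)) m _ (h s hs)

theorem isNilpotent_sub_one {a : G} (ha : a ^ p = 1) : IsNilpotent (r a - 1) := by
  rcases subsingleton_or_nontrivial (Module.End (ZMod p) V) with h | h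
  · exact ⟨0, Subsingleton.elim _ _⟩
  have : CharP (Module.End (ZMod p) V) p :=
    charP_of_injective_algebraMap (algebraMap (ZMod p) _).injective p
  exact ⟨p, by rw [sub_pow_char_of_commute _ (Commute.one_right _), ← map_pow, ha]; simp⟩

theorem exists_fixed_mod' [Finite G] {A : Subgroup G} (hA : IsElementaryAbelian p A)
    {U W : Submodule (ZMod p) V} (hU : ∀ a ∈ A, ∀ u ∈ U, r a u ∈ U)
    (hW : ∀ a ∈ A, ∀ u ∈ W, r a u ∈ W) (hUW : ¬ U ≤ W) :
    ∃ u ∈ U, u ∉ W ∧ ∀ a ∈ A, r a u - u ∈ W := by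
  have hc : ∀ a ∈ A, ∀ b ∈ A, a * b = b * a := fun a ha b hb =>
    congrArg Subtype.val (hA.1.is_comm.comm (⟨a, ha⟩ : A) ⟨b, hb⟩)
  obtain ⟨u, hu, hu', h⟩ := exists_fixed_mod (S := (fun a => r a - 1) '' (A : Set G))
    ((Set.toFinite _).image _)
    (by
      rintro _ ⟨a, ha, rfl⟩ _ ⟨b, hb, rfl⟩
      simp only [mul_sub, sub_mul, mul_one, one_mul, ← map_mul, hc a ha b hb]; abel)
    (by rintro _ ⟨a, ha, rfl⟩; exact isNilpotent_sub_one (hA.2 a ha))
    (U := U) (W := W)
    (by rintro _ ⟨a, ha, rfl⟩ u hu; exact U.sub_mem (hU a ha u hu) hu)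
    (by rintro _ ⟨a, ha, rfl⟩ u hu; exact W.sub_mem (hW a ha u hu) hu) hUW
  exact ⟨u, hu, hu', fun a ha => h _ ⟨a, ha, rfl⟩⟩

/-- If `V = [V, A] C_V(A)` for an elementary abelian `p`-group `A`, then `A` acts trivially. -/
theorem fix_eq_top_of_sup [Finite G] [Finite V] {A : Subgroup G} (hA : IsElementaryAbelian p A)
    (h : comm r Set.univ A ⊔ fix r A = ⊤) : fix r A = ⊤ := by
  have hc : ∀ a ∈ A, ∀ b ∈ A, a * b = b * a := fun a ha b hb =>
    congrArg Subtype.val (hA.1.is_comm.comm (⟨a, ha⟩ : A) ⟨b, hb⟩)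
  by_contra hne
  let P : Submodule (ZMod p) V → Prop := fun W =>
    fix r A ≤ W ∧ W ≠ ⊤ ∧ ∀ a ∈ A, ∀ u ∈ W, r a u ∈ W
  obtain ⟨W, hW, hmax⟩ := exists_maximal_of_wellFoundedGT P
    ⟨fix r A, le_rfl, hne, fun a ha u hu => by rw [hu a ha]; exact hu⟩
  obtain ⟨u, -, hu, hu'⟩ := exists_fixed_mod' (r := r) hA (U := ⊤) (W := W) (fun _ _ _ _ => trivial)
    hW.2.2 (fun h => hW.2.1 (top_le_iff.1 h))
  let W' : Submodule (ZMod p) V :=
    { carrier := {v | ∀ a ∈ A, r a v - v ∈ W}
      add_mem' := fun {x y} hx hy a ha => by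
        have := W.add_mem (hx a ha) (hy a ha)
        rw [map_add]; convert this using 1; abel
      zero_mem' := fun a ha => by simp
      smul_mem' := fun c x hx a ha => by
        have := W.smul_mem c (hx a ha)
        rw [map_smul]; convert this using 1; rw [smul_sub] }
  have hWW' : W ≤ W' := fun w hw a ha => W.sub_mem (hW.2.2 a ha w hw) hw
  have htop : W' = ⊤ := by
    by_contra hne'
    have := hmax (y := W') ⟨hW.1.trans hWW', hne', fun a ha v hv b hb => by
      have := hW.2.2 a ha _ (hv b hb)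
      rw [map_sub, ← Module.End.mul_apply, ← map_mul, hc a ha b hb, map_mul] at this
      exact this⟩ hWW'
    exact hu (this hu')
  apply hW.2.1
  rw [eq_top_iff, ← h]
  refine sup_le (Submodule.span_le.2 ?_) hW.1
  rintro _ ⟨v, -, a, ha, rfl⟩
  have : v ∈ W' := by rw [htop]; trivial
  exact this a ha

/-- Timmesfeld's replacement theorem. -/
theorem timmesfeld [Finite G] [Finite V] {A : Subgroup G} (hA : IsElementaryAbelian p A)
    (hb : Best r A) (hnt : ∃ a ∈ A, r a ≠ 1) :
    ∃ B ≤ A, Best r B ∧ (∀ b ∈ B, ∀ a ∈ A, (r b - 1) * (r a - 1) = 0) ∧ ∃ b ∈ B, r b ≠ 1 := by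
  have hc : ∀ a ∈ A, ∀ b ∈ A, a * b = b * a := fun a ha b hb =>
    congrArg Subtype.val (hA.1.is_comm.comm (⟨a, ha⟩ : A) ⟨b, hb⟩)
  obtain ⟨h1, h2⟩ := meas_repl hb hc
  refine ⟨repl r Set.univ A, repl_le _ _, hb.of_le (repl_le _ _) h1.ge, ?_, ?_⟩
  · intro b hb a ha
    ext v
    simp only [Module.End.mul_apply, LinearMap.zero_apply]
    rw [LinearMap.sub_apply, hb.2 v trivial a ha]; simp
  · by_contra hcon
    push Not at hcon
    obtain ⟨a, ha, ha1⟩ := hnt
    have h3 : ⊤ ≤ fix r (repl r Set.univ A) := fun v _ b hb => by rw [hcon b hb]; rfl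
    have : fix r A = ⊤ := fix_eq_top_of_sup hA (top_le_iff.1 (h3.trans h2))
    apply ha1
    ext v
    have hv : v ∈ fix r A := by rw [this]; trivial
    exact hv a ha

end Mod

end CL.PGV
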